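import Cfsg.Agent.Lib.LeechCount.List552

/-!
Configurations of three short vectors: transitivity in frames and the numbers 2025 and 11178.
-/

set_option autoImplicit false

namespace Cfsg.Agent.LeechCount

open Cfsg Cfsg.Agent.Leech
open scoped symmDiff

noncomputable section

attribute [local irreducible] normFS

/-- Minimal vectors with given products with two vectors. -/
def twoFS (v : Vec) (c : ℤ) (a : Vec) (d : ℤ) : Finset Vec := (dotFS c v).filter fun x => dotInt a x = d

theorem mem_twoFS {v a x : Vec} {c d : ℤ} :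
    x ∈ twoFS v c a d ↔ (x ∈ leechLattice ∧ sqNorm x = 32) ∧ dotInt v x = c ∧ dotInt a x = d := by
  simp [twoFS, mem_dotFS, and_assoc]

theorem card_twoFS_coPair {v a v' a' : Vec} (hv : v ∈ leechLattice) (ha : a ∈ leechLattice)
    (h : CoPair v a v' a') (c d : ℤ) : (twoFS v c a d).card = (twoFS v' c a' d).card := by
  obtain ⟨g, rfl, rfl⟩ := h
  refine Finset.card_bij' (fun w _ => ap g w) (fun w _ => ap g⁻¹ w) (fun w hw => ?_) (fun w hw => ?_)
    (fun w hw => ap_inv_ap g (mem_twoFS.1 hw).1.1)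
    (fun w hw => by have := ap_inv_ap g⁻¹ (mem_twoFS.1 hw).1.1; rwa [inv_inv] at this)
  · obtain ⟨⟨h1, h2⟩, h3, h4⟩ := mem_twoFS.1 hw
    exact mem_twoFS.2 ⟨⟨ap_mem g h1, by rw [ap_norm g h1, h2]⟩, by rw [ap_dot g hv h1, h3],
      by rw [ap_dot g ha h1, h4]⟩
  · obtain ⟨⟨h1, h2⟩, h3, h4⟩ := mem_twoFS.1 hw
    refine mem_twoFS.2 ⟨⟨ap_mem _ h1, by rw [ap_norm _ h1, h2]⟩, ?_, ?_⟩
    · have := ap_dot g⁻¹ (ap_mem g hv) h1
      rwa [ap_inv_ap g hv, h3] at this
    · have := ap_dot g⁻¹ (ap_mem g ha) h1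
      rwa [ap_inv_ap g ha, h4] at this

theorem ncard_twoSet (v a : ↥leechLattice) (c d : ℤ) :
    {x : ↥leechLattice | sqNorm (x : Vec) = 32 ∧ dotInt (v : Vec) x = c ∧ dotInt (a : Vec) x = d}.ncard =
      (twoFS v c a d).card := by
  rw [← Set.ncard_image_of_injective _ Subtype.val_injective, ← Set.ncard_coe_finset]
  congr 1
  ext x
  simp only [Set.mem_image, Finset.mem_coe, mem_twoFS]
  constructor
  · rintro ⟨y, ⟨h1, h2, h3⟩, rfl⟩
    exact ⟨⟨y.2, h1⟩, h2, h3⟩
  · rintro ⟨⟨h0, h1⟩, h2, h3⟩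
    exact ⟨⟨x, h0⟩, ⟨h1, h2, h3⟩, rfl⟩

/-- A frame through an orthogonal pair reads off the entries of a further vector. -/
theorem frame_reading {X t w : Vec} (hX : X ∈ leechLattice) (hXn : sqNorm X = 32) (ht : t ∈ leechLattice)
    (htn : sqNorm t = 32) (hXt : dotInt X t = 0) (hw : w ∈ leechLattice) :
    ∃ g : ↥Co0, ap g X = e44 fP fQ ∧ ap g t = d44 fP fQ ∧
      4 * (ap g w fP + ap g w fQ) = dotInt X w ∧ 4 * (ap g w fP - ap g w fQ) = dotInt t w := by
  obtain ⟨g, h1, h2⟩ := exists_frame hX hXn ht htn hXt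
  refine ⟨g, h1, h2, ?_, ?_⟩
  · rw [← dotAny_e44 _ fP_ne_fQ, ← h1, ap_dot g hw hX, dot_comm]
  · rw [← dotAny_d44 _ fP_ne_fQ, ← h2, ap_dot g hw ht, dot_comm]

/-- Orthogonal pairs together with an odd vector read off in their frame form one orbit. -/
theorem frame_triple {X t w X' t' w' : Vec} {a b N : ℤ}
    (hX : X ∈ leechLattice) (hXn : sqNorm X = 32) (ht : t ∈ leechLattice) (htn : sqNorm t = 32)
    (hXt : dotInt X t = 0) (hw : w ∈ leechLattice) (hwn : sqNorm w = N)
    (hwX : dotInt X w = 4 * (a + b)) (hwt : dotInt t w = 4 * (a - b))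
    (hX' : X' ∈ leechLattice) (hXn' : sqNorm X' = 32) (ht' : t' ∈ leechLattice) (htn' : sqNorm t' = 32)
    (hXt' : dotInt X' t' = 0) (hw' : w' ∈ leechLattice) (hwn' : sqNorm w' = N)
    (hwX' : dotInt X' w' = 4 * (a + b)) (hwt' : dotInt t' w' = 4 * (a - b))
    (hodd : ¬ (2 : ℤ) ∣ a) (hN : N = a ^ 2 + b ^ 2 + 22) :
    ∃ g : ↥Co0, ap g X = X' ∧ ap g t = t' ∧ ap g w = w' := by
  obtain ⟨g, g1, g2, g3, g4⟩ := frame_reading hX hXn ht htn hXt hw
  obtain ⟨h, h1, h2, h3, h4⟩ := frame_reading hX' hXn' ht' htn' hXt' hw'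
  have e1 : ap g w fP = a := by omega
  have e2 : ap g w fQ = b := by omega
  have e3 : ap h w' fP = a := by omega
  have e4 : ap h w' fQ = b := by omega
  obtain ⟨k, k1, k2, k3⟩ := odd_reading (ap_mem g hw) (ap_mem h hw') (by rw [e1, e3]) (by rw [e2, e4])
    (by rw [e1]; exact hodd) (by rw [ap_norm g hw, hwn, e1, e2, hN]) (by rw [ap_norm h hw', hwn', e3, e4, hN])
  refine ⟨h⁻¹ * k * g, ?_, ?_, ?_⟩
  · rw [ap_mul _ _ hX, g1, ap_mul _ _ (e44_mem fP_ne_fQ), k1, ← h1, ap_inv_ap h hX']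
  · rw [ap_mul _ _ ht, g2, ap_mul _ _ (d44_mem fP_ne_fQ), k2, ← h2, ap_inv_ap h ht']
  · rw [ap_mul _ _ hw, ap_mul _ _ (ap_mem g hw), k3, ap_inv_ap h hw']

theorem avoid_two_count : (Golay24.codeList.filter fun m =>
    !m.testBit (Golay24.idx fP).val && !m.testBit (Golay24.idx fQ).val).length = 1024 := by
  unfold Golay24.codeList
  decide +kernel

/-- The odd vectors with given entries at the two frame points and units elsewhere. -/
theorem card_readings {b0 : Vec} {a b N : ℤ} (hb : b0 ∈ leechLattice) (hN : N = a ^ 2 + b ^ 2 + 22)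
    (hb0 : sqNorm b0 = N) (hP : b0 fP = a) (hQ : b0 fQ = b) (hodd : ¬ (2 : ℤ) ∣ a) :
    ((normFS N).filter fun w => w fP = a ∧ w fQ = b).card = 1024 := by
  classical
  have hb1 : LatM 1 b0 := latM_of_mem hb (i := fP) (by rw [hP]; omega)
  rw [← avoid_two_count, ← List.toFinset_card_of_nodup (Golay24.codeList_nodup.filter _)]
  refine (Finset.card_bij (fun m _ => mono 1 (Golay24.setOf m) b0) ?_ ?_ ?_).symm
  · intro m hm
    rw [List.mem_toFinset, List.mem_filter] at hm
    obtain ⟨hm, hbit⟩ := hm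
    simp only [Bool.and_eq_true, Bool.not_eq_true'] at hbit
    have hC : InC (Golay24.setOf m) := by
      show _ ∈ supports _
      rw [Golay24.mem_supports_iff, Golay24.maskOf_setOf (Golay24.codeList_lt hm)]; exact hm
    rw [Finset.mem_filter, mem_normFS]
    refine ⟨⟨sign_mem hC hb, by rw [mono_norm, hb0]⟩, ?_, ?_⟩
    · simp [mono, Golay24.mem_setOf, hbit.1, hP, Equiv.Perm.one_def]
    · simp [mono, Golay24.mem_setOf, hbit.2, hQ, Equiv.Perm.one_def]
  · intro m hm m' hm' h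
    rw [List.mem_toFinset, List.mem_filter] at hm hm'
    have hset : Golay24.setOf m = Golay24.setOf m' := by
      ext i
      have e := congrFun h i
      have hodd' : b0 i ≠ 0 := by have := hb1.1 i; omega
      simp only [mono, Equiv.Perm.one_def] at e
      simp at e ⊢
      revert e
      cases m.testBit (Golay24.idx i).val <;> cases m'.testBit (Golay24.idx i).val <;> simp <;> intro e <;> omega
    rw [← Golay24.maskOf_setOf (Golay24.codeList_lt hm.1), hset, Golay24.maskOf_setOf (Golay24.codeList_lt hm'.1)]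
  · intro w hw
    rw [Finset.mem_filter, mem_normFS] at hw
    obtain ⟨⟨hw, hwn⟩, hwP, hwQ⟩ := hw
    have hw1 : LatM 1 w := latM_of_mem hw (i := fP) (by rw [hwP]; omega)
    obtain ⟨S, hS, he, hne⟩ := signs_odd hb hw fun i => by
      by_cases h1 : i = fP
      · exact Or.inl (by rw [h1, hP, hwP])
      by_cases h2 : i = fQ
      · exact Or.inl (by rw [h2, hQ, hwQ])
      rcases abs_one_others hb1 fP_ne_fQ (by rw [hb0, hP, hQ, hN]) i h1 h2 with e | e <;>
        rcases abs_one_others hw1 fP_ne_fQ (by rw [hwn, hwP, hwQ, hN]) i h1 h2 with e' | e' <;> simp [e, e']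
    refine ⟨Golay24.maskOf S, ?_, ?_⟩
    · rw [List.mem_toFinset, List.mem_filter]
      refine ⟨Golay24.mem_supports_iff.1 hS, ?_⟩
      have a1 : fP ∉ S := fun h => hne fP h (by rw [hP, hwP])
      have a2 : fQ ∉ S := fun h => hne fQ h (by rw [hQ, hwQ])
      simp [Golay24.testBit_maskOf, a1, a2]
    · rw [Golay24.setOf_maskOf, ← he]
      funext i
      rw [ap_signCo hS hb]
      rfl

theorem card_2025 {v w : Vec} (hv : v ∈ leechLattice) (hvn : sqNorm v = 32) (hw : w ∈ leechLattice)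
    (hwn : sqNorm w = 32) (hd : dotInt v w = -8) : (twoFS v 0 w 16).card = 2025 := by
  classical
  let P : Finset (Vec × Vec) := ((dotFS 0 v) ×ˢ (dotFS (-8) v)).filter fun p => dotInt p.2 p.1 = 16
  have h1 : P.card = (dotFS (-8) v).card * (twoFS v 0 w 16).card := by
    rw [show P.card = ∑ y ∈ dotFS (-8) v, (twoFS v 0 y 16).card by
      simp only [P, twoFS, Finset.card_filter]; rw [Finset.sum_product_right], Finset.sum_const_nat]
    intro y hy
    obtain ⟨⟨hy, hyn⟩, hyd⟩ := mem_dotFS.1 hy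
    exact card_twoFS_coPair hv hy (coPair_eight hv hvn hy hyn hyd hv hvn hw hwn hd) 0 16
  have h2 : P.card = (dotFS 0 v).card * 1024 := by
    rw [show P.card = ∑ t ∈ dotFS 0 v, ((dotFS (-8) v).filter fun y => dotInt y t = 16).card by
      simp only [P, Finset.card_filter, Finset.sum_product], Finset.sum_const_nat]
    intro t ht
    obtain ⟨⟨ht, htn⟩, htd⟩ := mem_dotFS.1 ht
    obtain ⟨g, g1, g2⟩ := exists_frame hv hvn ht htn htd
    obtain ⟨g', e1, e2, e3⟩ := exists_reading hv hvn hw (-2) 4 (hd.trans (by norm_num)) (Or.inr ⟨hwn, Or.inr rfl, rfl⟩)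
    rw [show ((dotFS (-8) v).filter fun y => dotInt y t = 16) = twoFS v (-8) t 16 from
      Finset.filter_congr fun y _ => by rw [dot_comm], card_twoFS_coPair hv ht ⟨g, g1, g2⟩]
    rw [← card_readings (a := 1) (b := -3) (N := 32) (ap_mem g' hw) (by norm_num) (by rw [ap_norm g' hw, hwn])
      (by omega) (by omega) (by decide)]
    congr 1
    ext y
    rw [mem_twoFS, Finset.mem_filter, mem_normFS, dot_comm, dotAny_e44 _ fP_ne_fQ, dot_comm,
      dotAny_d44 _ fP_ne_fQ]
    refine and_congr Iff.rfl ⟨fun h => ⟨by omega, by omega⟩, fun h => ⟨by omega, by omega⟩⟩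
  rw [h1, (dot_counts hv hvn).2.1, (dot_counts hv hvn).2.2] at h2
  omega

/-- The vector (4, -4, 0^22) as a list. -/
def dList : List ℤ := (List.range 24).map fun j => if j = 23 then 4 else if j = 0 then -4 else 0

theorem dList_eq : vecOf dList = Spor.vecU' := by
  rw [dList, vecOf_range]; decide +kernel

theorem vecU'_eq : Spor.vecU' = d44 fP fQ := rfl

theorem vecU'_facts : Spor.vecU' ∈ leechLattice ∧ sqNorm Spor.vecU' = 32 ∧ dotInt Spor.vecU' Spor.vecV = -16 := by
  refine ⟨d44_mem fP_ne_fQ, d44_norm fP_ne_fQ, ?_⟩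
  decide +kernel

/-- Products 0, -8, -16 with the second vector among the 552. -/
theorem hs_counts : (twoFS Spor.vecV 24 Spor.vecU' 0).card = 100 ∧ (twoFS Spor.vecV 24 Spor.vecU' (-8)).card = 352 := by
  have h := fun c => card_dot_pair dList_eq (by simp [dList]) c
  refine ⟨(h 0).trans ?_, (h (-8)).trans ?_⟩ <;> decide +kernel

theorem hs_count {u X : Vec} (hu : u ∈ leechLattice) (hun : sqNorm u = 48) (hX : X ∈ leechLattice)
    (hXn : sqNorm X = 32) (hd : dotInt X u = -16) : (twoFS u 24 X 0).card = 100 := by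
  obtain ⟨g, g1, g2⟩ := coPair_six hX hXn hu hun hd vecU'_facts.1 vecU'_facts.2.1 vecV_leech vecV_norm vecU'_facts.2.2
  rw [card_twoFS_coPair hu hX ⟨g, g2, g1⟩]
  exact hs_counts.1

theorem card_11178 {u : Vec} (hu : u ∈ leechLattice) (hun : sqNorm u = 48) : (dotFS (-16) u).card = 11178 := by
  classical
  let P : Finset (Vec × Vec) := ((dotFS (-16) u) ×ˢ (dotFS 24 u)).filter fun p => dotInt p.1 p.2 = 0
  have h1 : P.card = (dotFS (-16) u).card * 100 := by
    rw [show P.card = ∑ X ∈ dotFS (-16) u, (twoFS u 24 X 0).card by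
      simp only [P, twoFS, Finset.card_filter, Finset.sum_product], Finset.sum_const_nat]
    intro X hX
    obtain ⟨⟨hX, hXn⟩, hXd⟩ := mem_dotFS.1 hX
    exact hs_count hu hun hX hXn (by rw [dot_comm]; exact hXd)
  have h2 : P.card = (dotFS 24 u).card * 2025 := by
    rw [show P.card = ∑ z ∈ dotFS 24 u, ((dotFS (-16) u).filter fun X => dotInt X z = 0).card by
      simp only [P, Finset.card_filter]; rw [Finset.sum_product_right], Finset.sum_const_nat]
    intro z hz
    obtain ⟨⟨hz, hzn⟩, hzd⟩ := mem_dotFS.1 hz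
    have e : dotInt z (u - z) = dotInt u z - sqNorm z := by
      simp only [dotInt, sqNorm, Pi.sub_apply, ← Finset.sum_sub_distrib]
      exact Finset.sum_congr rfl fun i _ => by ring
    rw [hzd, hzn] at e
    have hwn : sqNorm (u - z) = 32 := by rw [sqNorm_sub, hun, hzn, hzd]; norm_num
    rw [← card_2025 hz hzn (sub_mem hu hz) hwn (e.trans (by norm_num))]
    refine Finset.card_bij' (fun X _ => -X) (fun X _ => -X) (fun X hX => ?_) (fun X hX => ?_)
      (fun X _ => neg_neg X) (fun X _ => neg_neg X)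
    · obtain ⟨hX1, hX2⟩ := Finset.mem_filter.1 hX
      obtain ⟨⟨hX, hXn⟩, hXd⟩ := mem_dotFS.1 hX1
      have e2 : dotInt (u - z) (-X) = dotInt X z - dotInt u X := by
        simp only [dotInt, Pi.sub_apply, Pi.neg_apply, ← Finset.sum_sub_distrib]
        exact Finset.sum_congr rfl fun i _ => by ring
      refine mem_twoFS.2 ⟨⟨neg_mem hX, by rw [sqNorm_neg, hXn]⟩, ?_, by omega⟩
      rw [dot_comm, dot_neg_left, hX2, neg_zero]
    · obtain ⟨⟨hX, hXn⟩, hX0, hX16⟩ := mem_twoFS.1 hX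
      have e2 : dotInt u (-X) = -(dotInt (u - z) X + dotInt z X) := by
        simp only [dotInt, Pi.sub_apply, Pi.neg_apply, ← Finset.sum_add_distrib, ← Finset.sum_neg_distrib]
        exact Finset.sum_congr rfl fun i _ => by ring
      refine Finset.mem_filter.2 ⟨mem_dotFS.2 ⟨⟨neg_mem hX, by rw [sqNorm_neg, hXn]⟩, by omega⟩, ?_⟩
      rw [dot_neg_left, dot_comm, hX0, neg_zero]
  rw [h1, card_dot_twentyfour hu hun] at h2
  omega

end

end Cfsg.Agent.LeechCount
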