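import Cfsg.Agent.Lib.LeechCount.McLGroup
import Cfsg.Agent.Lib.LeechCount.Config

/-!
The stabiliser of a vector of norm 48 is simple: its action on the 552 vectors of product 24.
-/

set_option autoImplicit false
set_option linter.style.haveILetI false

namespace Cfsg.Agent.LeechCount

open Cfsg Cfsg.Agent.Leech MulAction

noncomputable section

attribute [local irreducible] normFS

/-- The 552 points. -/
abbrev Co3Pts (u : ↥leechLattice) : Type := {x : ↥leechLattice // (x : Vec) ∈ dotFS 24 (u : Vec)}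

instance co3Action (u : ↥leechLattice) : MulAction ↥(stabilizer ↥Co0 u) (Co3Pts u) where
  smul g x := ⟨(g : ↥Co0) • x.1, by
    obtain ⟨⟨-, h2⟩, h3⟩ := mem_dotFS.1 x.2
    exact mem_dotFS.2 ⟨⟨SetLike.coe_mem _, by rw [co0_smul_norm, h2]⟩,
      by rw [dot_of_fix _ (show (g : ↥Co0) • u = u from g.2), h3]⟩⟩
  one_smul x := Subtype.ext (one_smul _ x.1)
  mul_smul g h x := Subtype.ext (mul_smul (g : ↥Co0) (h : ↥Co0) x.1)

theorem co3_smul_val {u : ↥leechLattice} (g : ↥(stabilizer ↥Co0 u)) (x : Co3Pts u) :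
    (g • x).1 = (g : ↥Co0) • x.1 := rfl

theorem Co3Pts.norm {u : ↥leechLattice} (x : Co3Pts u) : sqNorm (x.1 : Vec) = 32 := (mem_dotFS.1 x.2).1.2

theorem Co3Pts.dot {u : ↥leechLattice} (x : Co3Pts u) : dotInt (u : Vec) x.1 = 24 := (mem_dotFS.1 x.2).2

theorem dot_sub_right (x a b : Vec) : dotInt x (a - b) = dotInt x a - dotInt x b := by
  rw [dot_comm, dot_sub_left, dot_comm a, dot_comm b]

/-- The complementary point. -/
def co3Opp {u : ↥leechLattice} (hu : sqNorm (u : Vec) = 48) (x : Co3Pts u) : Co3Pts u :=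
  ⟨u - x.1, mem_dotFS.2 ⟨⟨SetLike.coe_mem _, by
    rw [AddSubgroup.coe_sub, sqNorm_sub, hu, x.norm, x.dot]; norm_num⟩,
    by rw [AddSubgroup.coe_sub, dot_sub_right, dot_self, hu, x.dot]; norm_num⟩⟩

theorem co3Opp_smul {u : ↥leechLattice} (hu : sqNorm (u : Vec) = 48) (g : ↥(stabilizer ↥Co0 u))
    (x : Co3Pts u) : g • co3Opp hu x = co3Opp hu (g • x) := Subtype.ext (by
  show (g : ↥Co0) • (u - x.1) = u - (g : ↥Co0) • x.1
  rw [co0_smul_sub, show (g : ↥Co0) • u = u from g.2])

theorem co3Opp_opp {u : ↥leechLattice} (hu : sqNorm (u : Vec) = 48) (x : Co3Pts u) :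
    co3Opp hu (co3Opp hu x) = x := Subtype.ext (sub_sub_cancel u x.1)

theorem dot_opp {u : ↥leechLattice} (hu : sqNorm (u : Vec) = 48) (a x : Co3Pts u) :
    dotInt (a.1 : Vec) (co3Opp hu x).1 = 24 - dotInt (a.1 : Vec) x.1 := by
  show dotInt (a.1 : Vec) ((u - x.1 : ↥leechLattice) : Vec) = _
  rw [AddSubgroup.coe_sub, dot_sub_right, dot_comm (a.1 : Vec) (u : Vec), a.dot]

theorem vecV_sum : (9 : ℤ) • e8 none + ∑ k ∈ Finset.range 23,
    vecOf ((List.range 24).map fun j => if j = 23 ∨ j = k then -4 else 0) = (4 : ℤ) • Spor.vecV := by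
  funext i
  simp only [Pi.add_apply, Pi.smul_apply, Finset.sum_apply]
  revert i
  decide +kernel

/-- No automorphism exchanges every point with its complement. -/
theorem no_swap {u : ↥leechLattice} (hu : sqNorm (u : Vec) = 48) (n : ↥Co0) (hn : n • u = u)
    (hswap : ∀ x : ↥leechLattice, (x : Vec) ∈ dotFS 24 (u : Vec) → n • x = u - x) : False := by
  classical
  obtain ⟨g, hg⟩ := (coEq48 u.2 hu).trans u.2 ((coEq48 vecV_leech vecV_norm).symm vecV_leech)
  set u0 : ↥leechLattice := ⟨Spor.vecV, vecV_leech⟩ with hu0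
  have hgu : g • u = u0 := (smul_eq_iff_ap g u u0).2 hg
  set m := g * n * g⁻¹ with hm
  have hgu' : g⁻¹ • u0 = u := by rw [← hgu, inv_smul_smul]
  have hmu : m • u0 = u0 := by rw [hm, mul_smul, mul_smul, hgu', hn, hgu]
  have hmswap : ∀ x : ↥leechLattice, (x : Vec) ∈ dotFS 24 Spor.vecV → m • x = u0 - x := by
    intro x hx
    obtain ⟨⟨-, h2⟩, h3⟩ := mem_dotFS.1 hx
    have hmem : ((g⁻¹ • x : ↥leechLattice) : Vec) ∈ dotFS 24 (u : Vec) :=
      mem_dotFS.2 ⟨⟨SetLike.coe_mem _, by rw [co0_smul_norm, h2]⟩,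
        by rw [← hgu', co0_smul_dot]; exact h3⟩
    rw [hm, mul_smul, mul_smul, hswap _ hmem, co0_smul_sub, hgu, smul_inv_smul]
  have hlow : ∀ k ∈ Finset.range 23,
      vecOf ((List.range 24).map fun j => if j = 23 ∨ j = k then -4 else 0) ∈ dotFS 24 Spor.vecV := fun k hk => by
    rw [dotFS_vecV, List.mem_toFinset]
    refine List.mem_map.2 ⟨_, List.mem_append_left _ (List.mem_append_left _ (List.mem_map.2 ⟨k, ?_, rfl⟩)), rfl⟩
    exact List.mem_range.2 (Finset.mem_range.1 hk)
  let X : ℕ → ↥leechLattice := fun k =>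
    if h : k ∈ Finset.range 23 then ⟨_, (mem_dotFS.1 (hlow k h)).1.1⟩ else 0
  have hX : ∀ k ∈ Finset.range 23, (X k : Vec) = vecOf ((List.range 24).map fun j => if j = 23 ∨ j = k then -4 else 0) :=
    fun k hk => by simp only [X, dif_pos hk]
  set E : ↥leechLattice := ⟨e8 none, e8_mem _⟩
  have hrel : (9 : ℤ) • E + ∑ k ∈ Finset.range 23, X k = (4 : ℤ) • u0 := Subtype.ext (by
    push_cast
    rw [Finset.sum_congr rfl hX]
    exact vecV_sum)
  have hrel' : (9 : ℤ) • (m • E) + ∑ k ∈ Finset.range 23, (u0 - X k) = (4 : ℤ) • u0 := by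
    have h := congrArg (coHom m) hrel
    rw [map_add, map_zsmul, map_zsmul, map_sum, coHom_apply, coHom_apply, hmu] at h
    rw [← h]
    congr 1
    refine Finset.sum_congr rfl fun k hk => ?_
    rw [coHom_apply, hmswap _ (by rw [hX k hk]; exact hlow k hk)]
  rw [Finset.sum_sub_distrib, Finset.sum_const, Finset.card_range] at hrel'
  have hz : (9 : ℤ) • (m • E + E) = (-15 : ℤ) • u0 := by
    generalize m • E = E' at hrel' ⊢
    linear_combination (norm := module) hrel + hrel'
  have h := congrArg (fun v : ↥leechLattice => sqNorm (v : Vec)) hz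
  simp only [AddSubgroupClass.coe_zsmul] at h
  rw [sqNorm_smul, sqNorm_smul, show sqNorm (u0 : Vec) = 48 from vecV_norm] at h
  omega

/-- An equiangular family with the given products has at most 24 members. -/
theorem card_equiangular {c : ℤ} (hc : 0 ≤ c) (hc' : c < 32) (F : Finset Vec) (hn : ∀ x ∈ F, sqNorm x = 32)
    (hd : ∀ x ∈ F, ∀ y ∈ F, x ≠ y → dotInt x y = c) : F.card ≤ 24 := by
  classical
  have hli : LinearIndependent ℤ (fun x : F => (x : Vec)) := by
    rw [Fintype.linearIndependent_iff]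
    intro a ha
    have hrow : ∀ y : F, (32 - c) * a y + c * ∑ x, a x = 0 := by
      intro y
      have h0 : dotInt (y : Vec) (∑ x, a x • (x : Vec)) = 0 := by rw [ha]; simp [dotInt]
      have e : dotInt (y : Vec) (∑ x, a x • (x : Vec)) = ∑ x, a x * dotInt (y : Vec) (x : Vec) := by
        simp only [dotInt, Finset.sum_apply, Pi.smul_apply, smul_eq_mul, Finset.mul_sum]
        rw [Finset.sum_comm]
        exact Finset.sum_congr rfl fun x _ => Finset.sum_congr rfl fun i _ => by ring
      rw [e, ← Finset.add_sum_erase _ _ (Finset.mem_univ y), dot_self, hn _ y.2,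
        Finset.sum_congr rfl (g := fun x => a x * c) (fun x hx => by
          rw [hd _ y.2 _ x.2 (fun e => (Finset.mem_erase.1 hx).1 (Subtype.ext e.symm))]),
        ← Finset.sum_mul] at h0
      rw [← Finset.add_sum_erase _ _ (Finset.mem_univ y)]
      linear_combination h0
    have hS : ∑ x, a x = 0 := by
      have h := Finset.sum_eq_zero fun y (_ : y ∈ Finset.univ) => hrow y
      rw [Finset.sum_add_distrib, ← Finset.mul_sum, Finset.sum_const, nsmul_eq_mul] at h
      have hpos : 0 < (32 - c) + ((Finset.univ : Finset F).card : ℤ) * c := by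
        have := mul_nonneg (Int.natCast_nonneg (Finset.univ : Finset F).card) hc
        omega
      refine (mul_eq_zero.1 (?_ : ((32 - c) + ((Finset.univ : Finset F).card : ℤ) * c) * ∑ x, a x = 0)).resolve_left
        hpos.ne'
      linear_combination h
    intro y
    have := hrow y
    rw [hS, mul_zero, add_zero] at this
    exact (mul_eq_zero.1 this).resolve_left (by omega)
  have h := hli.fintype_card_le_finrank
  rw [Fintype.card_coe, Module.finrank_fintype_fun_eq_card] at h
  simpa using h

set_option maxHeartbeats 800000 in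
/-- The stabiliser of a vector of norm 48 is simple. -/
theorem isCo3_stab {u : ↥leechLattice} (hu : sqNorm (u : Vec) = 48) : IsCo3 ↥(stabilizer ↥Co0 u) := by
  classical
  refine ⟨?_, card_stab48 u hu⟩
  set G := stabilizer ↥Co0 u with hG
  have hcG : Nat.card G = 495766656000 := card_stab48 u hu
  haveI : Finite G := Nat.finite_of_card_ne_zero (by rw [hcG]; norm_num)
  have hn : Nat.card (Co3Pts u) = 552 := by
    rw [← card_dot_twentyfour u.2 hu, ← Nat.card_eq_finsetCard]
    exact Nat.card_congr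
      { toFun := fun z => ⟨(z.1 : Vec), z.2⟩
        invFun := fun x => ⟨⟨x.1, (mem_dotFS.1 x.2).1.1⟩, x.2⟩
        left_inv := fun z => rfl
        right_inv := fun x => rfl }
  haveI : Finite (Co3Pts u) := Nat.finite_of_card_ne_zero (by rw [hn]; norm_num)
  have hpair : ∀ x : Co3Pts u, sqNorm ((u - x.1 : ↥leechLattice) : Vec) = 32 ∧
      dotInt (x.1 : Vec) ((u - x.1 : ↥leechLattice) : Vec) = -8 := fun x =>
    ⟨(co3Opp hu x).norm, by
      have := dot_opp hu x x
      rw [dot_self, x.norm] at this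
      exact this.trans (by norm_num)⟩
  haveI : IsPretransitive G (Co3Pts u) := ⟨fun x x' => by
    obtain ⟨g, g1, g2⟩ := coPair_subtype (coPair_eight x.1.2 x.norm (u - x.1).2 (hpair x).1 (hpair x).2
      x'.1.2 x'.norm (u - x'.1).2 (hpair x').1 (hpair x').2)
    refine ⟨⟨g, mem_stabilizer_iff.2 ?_⟩, Subtype.ext g1⟩
    rw [co0_smul_sub, g1, sub_left_inj] at g2
    exact g2⟩
  obtain ⟨a⟩ : Nonempty (Co3Pts u) := (Nat.card_pos_iff.1 (by rw [hn]; norm_num)).1
  set σ := co3Opp hu with hσ
  have hH : Nat.card ↥(stabilizer G a) = 898128000 := by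
    have h := Subgroup.card_mul_index (stabilizer G a)
    rw [index_stabilizer_of_transitive, hn, hcG] at h
    omega
  have hsimp : IsSimpleGroup ↥(stabilizer G a) := by
    let e := (stabilizer G a).equivMapOfInjective G.subtype G.subtype_injective
    have he : (stabilizer G a).map G.subtype = stabilizer ↥Co0 a.1 ⊓ stabilizer ↥Co0 (u - a.1) := by
      ext g
      constructor
      · rintro ⟨h, hh, rfl⟩
        have h1 : (h : ↥Co0) • a.1 = a.1 := congrArg Subtype.val hh
        exact ⟨h1, mem_stabilizer_iff.2 (by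
          show (h : ↥Co0) • (u - a.1) = u - a.1
          rw [co0_smul_sub, h1, show (h : ↥Co0) • u = u from h.2])⟩
      · rintro ⟨h1, h2⟩
        replace h1 : g • a.1 = a.1 := h1
        replace h2 : g • (u - a.1) = u - a.1 := h2
        rw [co0_smul_sub, h1, sub_left_inj] at h2
        exact ⟨⟨g, h2⟩, Subtype.ext h1, rfl⟩
    haveI : IsSimpleGroup ↥((stabilizer G a).map G.subtype) := by
      rw [he]; exact (isMcL_stab a.norm (hpair a).1 (hpair a).2).1
    exact e.isSimpleGroup
  -- the point orbits of the stabiliser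
  set A : Set (Co3Pts u) := {z | dotInt (a.1 : Vec) z.1 = 16} with hA
  have hAcard : A.ncard = 275 := by
    obtain ⟨g, g1, g2⟩ : ∃ g : ↥Co0, ap g (u : Vec) = Spor.vecV ∧ ap g (a.1 : Vec) = vecOf vList := by
      obtain ⟨v1, v2, v3⟩ := v0_facts
      obtain ⟨g, g1, g2⟩ := coPair_eight a.1.2 a.norm (u - a.1).2 (hpair a).1 (hpair a).2
        v1 v2 (sub_mem vecV_leech v1) (by rw [sqNorm_sub, vecV_norm, v2, v3]; norm_num)
        (by rw [dot_sub_right, dot_comm, v3, dot_self, v2]; norm_num)
      refine ⟨g, ?_, g1⟩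
      have := ap_add g a.1.2 (u - a.1).2
      rw [AddSubgroup.coe_sub, add_sub_cancel, ← AddSubgroup.coe_sub, g1, g2, add_sub_cancel] at this
      exact this
    rw [← card_canon_275, ← card_twoFS_coPair u.2 a.1.2 ⟨g, g1, g2⟩ 24 16,
      ← Set.ncard_image_of_injective _ (Subtype.val_injective.comp Subtype.val_injective : Function.Injective
        fun z : Co3Pts u => (z.1 : Vec)), ← Set.ncard_coe_finset]
    congr 1
    ext x
    simp only [Set.mem_image, Finset.mem_coe, mem_twoFS]
    constructor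
    · rintro ⟨z, hz, rfl⟩
      exact ⟨⟨z.1.2, z.norm⟩, z.dot, hz⟩
    · rintro ⟨⟨h0, h1⟩, h2, h3⟩
      exact ⟨⟨⟨x, h0⟩, mem_dotFS.2 ⟨⟨h0, h1⟩, h2⟩⟩, h3, rfl⟩
  have hAtr : ∀ z ∈ A, ∀ z' ∈ A, ∃ h ∈ stabilizer G a, h • z = z' := by
    intro z hz z' hz'
    obtain ⟨g, g1, g2, g3⟩ := exists_canon u.2 hu a.1.2 a.norm a.dot
      (mem_twoFS.2 ⟨⟨z.1.2, z.norm⟩, z.dot, hz⟩)
    obtain ⟨k, k1, k2, k3⟩ := exists_canon u.2 hu a.1.2 a.norm a.dot
      (mem_twoFS.2 ⟨⟨z'.1.2, z'.norm⟩, z'.dot, hz'⟩)
    have mk : ∀ {x y : ↥leechLattice} {c : Vec}, ap g (x : Vec) = c → ap k (y : Vec) = c → (k⁻¹ * g) • x = y :=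
      fun {x y c} h1 h2 => (smul_eq_iff_ap _ _ _).2 (by rw [ap_mul _ _ x.2, h1, ← h2, ap_inv_ap k y.2])
    exact ⟨⟨k⁻¹ * g, mem_stabilizer_iff.2 (mk g1 k1)⟩, Subtype.ext (mk g2 k2), Subtype.ext (mk g3 k3)⟩
  have hB : ∀ z, z ∈ σ '' A ↔ dotInt (a.1 : Vec) z.1 = 8 := fun z => by
    constructor
    · rintro ⟨y, hy, rfl⟩
      rw [dot_opp hu, hy]; norm_num
    · intro hz
      exact ⟨σ z, show dotInt _ _ = 16 by rw [dot_opp hu, hz]; norm_num, co3Opp_opp hu z⟩
  have hσinj : Function.Injective σ := fun x y e => by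
    rw [← co3Opp_opp hu x, ← co3Opp_opp hu y]; exact congrArg σ e
  have haσ : a ≠ σ a ∧ dotInt (a.1 : Vec) a.1 = 32 ∧ dotInt (a.1 : Vec) (σ a).1 = -8 := by
    have h1 : dotInt (a.1 : Vec) a.1 = 32 := by rw [dot_self, a.norm]
    have h2 : dotInt (a.1 : Vec) (σ a).1 = -8 := by rw [dot_opp hu, h1]; norm_num
    exact ⟨fun e => by rw [← e, h1] at h2; norm_num at h2, h1, h2⟩
  have hall : ∀ z : Co3Pts u, z = a ∨ z = σ a ∨ z ∈ A ∨ z ∈ σ '' A := by
    have hu' : ({a, σ a} ∪ (A ∪ σ '' A) : Set (Co3Pts u)) = Set.univ := by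
      refine Set.eq_of_subset_of_ncard_le (Set.subset_univ _) (le_of_eq ?_) (Set.toFinite _)
      rw [Set.ncard_univ, hn, Set.ncard_union_eq, Set.ncard_union_eq, Set.ncard_pair haσ.1, Set.ncard_image_of_injective _ hσinj,
        hAcard]
      · rw [Set.disjoint_left]
        intro z hz hz'
        exact absurd (show dotInt (a.1 : Vec) z.1 = 16 from hz) (by rw [(hB z).1 hz']; norm_num)
      · rw [Set.disjoint_left]
        rintro z (rfl | rfl) (hz | hz)
        · exact absurd hz (by show ¬ dotInt _ _ = 16; rw [haσ.2.1]; norm_num)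
        · exact absurd ((hB _).1 hz) (by rw [haσ.2.1]; norm_num)
        · exact absurd hz (by show ¬ dotInt _ _ = 16; rw [haσ.2.2]; norm_num)
        · exact absurd ((hB _).1 hz) (by rw [haσ.2.2]; norm_num)
    intro z
    have hz : z ∈ ({a, σ a} ∪ (A ∪ σ '' A) : Set (Co3Pts u)) := by rw [hu']; trivial
    simpa [or_assoc] using hz
  -- small orbits of a two point stabiliser
  have h125 : ∀ c d : Co3Pts u, d ≠ c → d ≠ σ c →
      ¬ 125 ∣ Nat.card ↥(stabilizer G c ⊓ stabilizer G d) := by
    intro c d hdc hdσ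
    obtain ⟨g, hg⟩ := exists_smul_eq G c a
    have key : ∀ e : Co3Pts u, e ≠ a → e ≠ σ a → ¬ 125 ∣ Nat.card ↥(stabilizer G a ⊓ stabilizer G e) := by
      intro e he he'
      have horb : (orbit ↥(stabilizer G a) e).ncard = 275 := by
        have hsub : ∀ (s : Set (Co3Pts u)), e ∈ s → (∀ h ∈ stabilizer G a, ∀ z ∈ s, h • z ∈ s) →
            (∀ z ∈ s, ∀ z' ∈ s, ∃ h ∈ stabilizer G a, h • z = z') → orbit ↥(stabilizer G a) e = s := by
          intro s hes hinv htr
          ext z
          constructor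
          · rintro ⟨h, rfl⟩; exact hinv h h.2 e hes
          · intro hz
            obtain ⟨h, hh, rfl⟩ := htr e hes z hz
            exact ⟨⟨h, hh⟩, rfl⟩
        have hinvd : ∀ h ∈ stabilizer G a, ∀ z : Co3Pts u,
            dotInt (a.1 : Vec) (h • z).1 = dotInt (a.1 : Vec) z.1 := fun h hh z => by
          rw [co3_smul_val]; exact dot_of_fix _ (congrArg Subtype.val hh)
        rcases hall e with h | h | h | h
        · exact absurd h he
        · exact absurd h he'
        · rw [hsub A h (fun k hk z hz => (hinvd k hk z).trans hz) hAtr, hAcard]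
        · rw [hsub (σ '' A) h (fun k hk z hz => (hB _).2 ((hinvd k hk z).trans ((hB z).1 hz))) ?_,
            Set.ncard_image_of_injective _ hσinj, hAcard]
          rintro _ ⟨z, hz, rfl⟩ _ ⟨z', hz', rfl⟩
          obtain ⟨k, hk, rfl⟩ := hAtr z hz z' hz'
          exact ⟨k, hk, co3Opp_smul hu k z⟩
      have h := card_inf_stab (stabilizer G a) e _ horb
      rw [hH] at h
      omega
    intro hdvd
    refine key (g • d) (fun e => hdc (smul_left_cancel g (e.trans hg.symm)))
      (fun e => hdσ (smul_left_cancel g (by rw [e, co3Opp_smul hu, hg]))) ?_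
    have hle : (stabilizer G c ⊓ stabilizer G d).map (MulAut.conj g).toMonoidHom ≤
        stabilizer G a ⊓ stabilizer G (g • d) := by
      rintro _ ⟨k, ⟨hk1, hk2⟩, rfl⟩
      refine ⟨mem_stabilizer_iff.2 ?_, mem_stabilizer_iff.2 ?_⟩
      · show (g * k * g⁻¹) • a = a
        rw [← hg, mul_smul, mul_smul, inv_smul_smul, mem_stabilizer_iff.1 hk1]
      · show (g * k * g⁻¹) • g • d = g • d
        rw [mul_smul, mul_smul, inv_smul_smul, mem_stabilizer_iff.1 hk2]
    refine hdvd.trans ?_
    rw [← Subgroup.card_map_of_injective (f := (MulAut.conj g).toMonoidHom) (MulAut.conj g).injective]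
    exact Subgroup.card_dvd_of_le hle
  haveI : Nontrivial G := (Finite.one_lt_card_iff_nontrivial (α := G)).1 (by rw [hcG]; norm_num)
  refine ⟨fun N hN => ?_⟩
  haveI := hN
  by_cases hN0 : N = ⊥
  · exact Or.inl hN0
  right
  set O := orbit N a with hO
  have hOinv : ∀ h ∈ stabilizer G a, ∀ b ∈ O, h • b ∈ O := by
    intro h hh b hb
    obtain ⟨m, rfl⟩ := hb
    refine ⟨⟨h * m * h⁻¹, hN.conj_mem _ m.2 h⟩, ?_⟩
    show (h * (m : G) * h⁻¹) • a = h • ((m : G) • a)
    rw [mul_smul, mul_smul, inv_smul_eq_iff.2 (mem_stabilizer_iff.1 hh).symm]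
  have hOdvd : O.ncard ∣ 552 := hn ▸
    IsBlock.ncard_dvd_card (IsBlock.orbit_of_normal (N := N) a) ⟨a, mem_orbit_self a⟩
  have hcases : O ⊆ {a, σ a} ∨ O = insert a A ∨ O = insert a (σ '' A) ∨ O = Set.univ := by
    have piece : ∀ z ∈ A, (z ∈ O → A ⊆ O) ∧ (σ z ∈ O → σ '' A ⊆ O) := by
      intro z hz
      refine ⟨fun hzO w hw => ?_, fun hzO w hw => ?_⟩
      · obtain ⟨h, hh, rfl⟩ := hAtr z hz w hw; exact hOinv h hh z hzO
      · obtain ⟨w, hw, rfl⟩ := hw
        obtain ⟨h, hh, rfl⟩ := hAtr z hz w hw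
        rw [show σ (h • z) = h • σ z from (co3Opp_smul hu h z).symm]; exact hOinv h hh _ hzO
    have haA : a ∉ A ∧ σ a ∉ A ∧ a ∉ σ '' A ∧ σ a ∉ σ '' A := by
      refine ⟨fun h => ?_, fun h => ?_, fun h => ?_, fun h => ?_⟩
      · exact absurd (show dotInt _ _ = (16 : ℤ) from h) (by rw [haσ.2.1]; norm_num)
      · exact absurd (show dotInt _ _ = (16 : ℤ) from h) (by rw [haσ.2.2]; norm_num)
      · exact absurd ((hB _).1 h) (by rw [haσ.2.1]; norm_num)
      · exact absurd ((hB _).1 h) (by rw [haσ.2.2]; norm_num)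
    have hdisj : Disjoint A (σ '' A) := by
      rw [Set.disjoint_left]
      intro z hz hz'
      exact absurd (show dotInt _ _ = (16 : ℤ) from hz) (by rw [(hB z).1 hz']; norm_num)
    have hA' : (σ '' A).ncard = 275 := by rw [Set.ncard_image_of_injective _ hσinj, hAcard]
    have ha : a ∈ O := mem_orbit_self a
    by_cases h1 : ∃ z ∈ A, z ∈ O <;> by_cases h2 : ∃ z ∈ σ '' A, z ∈ O
    · right; right; right
      obtain ⟨z, hz, hzO⟩ := h1
      obtain ⟨_, ⟨w, hw, rfl⟩, hwO⟩ := h2
      by_cases h3 : σ a ∈ O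
      · refine Set.eq_univ_of_forall fun x => ?_
        rcases hall x with rfl | rfl | h | h
        exacts [ha, h3, (piece z hz).1 hzO h, (piece w hw).2 hwO h]
      · exfalso
        have : O = insert a (A ∪ σ '' A) := by
          refine Set.Subset.antisymm (fun x hx => ?_)
            (Set.insert_subset ha (Set.union_subset ((piece z hz).1 hzO) ((piece w hw).2 hwO)))
          rcases hall x with rfl | rfl | h | h
          exacts [Or.inl rfl, absurd hx h3, Or.inr (Or.inl h), Or.inr (Or.inr h)]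
        rw [this, Set.ncard_insert_of_notMem (by simp [haA.1, haA.2.2.1]), Set.ncard_union_eq hdisj, hAcard, hA']
          at hOdvd
        norm_num at hOdvd
    · right; left
      obtain ⟨z, hz, hzO⟩ := h1
      have hsub : O ⊆ insert a (insert (σ a) A) := fun x hx => by
        rcases hall x with h | h | h | h
        exacts [Or.inl h, Or.inr (Or.inl h), Or.inr (Or.inr h), absurd ⟨x, h, hx⟩ h2]
      by_cases h3 : σ a ∈ O
      · exfalso
        have : O = insert a (insert (σ a) A) := Set.Subset.antisymm hsub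
          (Set.insert_subset ha (Set.insert_subset h3 ((piece z hz).1 hzO)))
        rw [this, Set.ncard_insert_of_notMem (by simp [haA.1, haσ.1]),
          Set.ncard_insert_of_notMem haA.2.1, hAcard] at hOdvd
        norm_num at hOdvd
      · refine Set.Subset.antisymm (fun x hx => ?_) (Set.insert_subset ha ((piece z hz).1 hzO))
        rcases hsub hx with h | h | h
        exacts [Or.inl h, absurd (h ▸ hx) h3, Or.inr h]
    · right; right; left
      obtain ⟨_, ⟨z, hz, rfl⟩, hzO⟩ := h2
      have hsub : O ⊆ insert a (insert (σ a) (σ '' A)) := fun x hx => by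
        rcases hall x with h | h | h | h
        exacts [Or.inl h, Or.inr (Or.inl h), absurd ⟨x, h, hx⟩ h1, Or.inr (Or.inr h)]
      by_cases h3 : σ a ∈ O
      · exfalso
        have : O = insert a (insert (σ a) (σ '' A)) := Set.Subset.antisymm hsub
          (Set.insert_subset ha (Set.insert_subset h3 ((piece z hz).2 hzO)))
        rw [this, Set.ncard_insert_of_notMem (by simp [haA.2.2.1, haσ.1]),
          Set.ncard_insert_of_notMem haA.2.2.2, hA'] at hOdvd
        norm_num at hOdvd
      · refine Set.Subset.antisymm (fun x hx => ?_) (Set.insert_subset ha ((piece z hz).2 hzO))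
        rcases hsub hx with h | h | h
        exacts [Or.inl h, absurd (h ▸ hx) h3, Or.inr h]
    · left
      intro x hx
      rcases hall x with h | h | h | h
      exacts [Or.inl h, Or.inr h, absurd ⟨x, h, hx⟩ h1, absurd ⟨x, h, hx⟩ h2]
  have hreg : (∀ m ∈ N, m • a = a → m = 1) → O.ncard = Nat.card N := fun h => by
    have hst : stabilizer N a = ⊥ := by
      rw [Subgroup.eq_bot_iff_forall]
      exact fun m hm => Subtype.ext (h m m.2 hm)
    rw [hO, ← index_stabilizer N a, hst, Subgroup.index_bot]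
  rcases hsimp.eq_bot_or_eq_top_of_normal (N.subgroupOf (stabilizer G a)) inferInstance with hS | hS
  · exfalso
    have hfree : ∀ m ∈ N, ∀ c : Co3Pts u, m • c = c → m = 1 := fun m hm c hc => by
      obtain ⟨g, rfl⟩ := exists_smul_eq G a c
      have hc' : g⁻¹ * m * g ∈ N := by have := hN.conj_mem m hm g⁻¹; rwa [inv_inv] at this
      have := (Subgroup.eq_bot_iff_forall _).1 (disjoint_iff.1 (Subgroup.subgroupOf_eq_bot.1 hS)) _
        ⟨hc', mem_stabilizer_iff.2 (by rw [mul_smul, mul_smul, inv_smul_eq_iff]; exact hc)⟩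
      rwa [mul_eq_one_iff_eq_inv, inv_mul_eq_iff_eq_mul, mul_inv_cancel] at this
    have hcN := hreg fun m hm h => hfree m hm a h
    have big : Nat.card N = 276 ∨ Nat.card N = 552 → False := by
      intro hc
      haveI : Fact (Nat.Prime 23) := ⟨by norm_num⟩
      haveI : Fact (Nat.Prime 5) := ⟨by norm_num⟩
      obtain ⟨P⟩ : Nonempty (Sylow 23 N) := inferInstance
      have hP : Nat.card P = 23 := by
        have h := Sylow.card_eq_multiplicity P
        rcases hc with hc | hc <;> rw [hc] at h
        · rwa [show (276 : ℕ) = 23 ^ 1 * 12 by norm_num, Nat.factorization_mul (by norm_num) (by norm_num),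
            Finsupp.add_apply, Nat.Prime.factorization_pow (by norm_num), Finsupp.single_eq_same,
            Nat.factorization_eq_zero_of_not_dvd (by norm_num), add_zero, pow_one] at h
        · rwa [show (552 : ℕ) = 23 ^ 1 * 24 by norm_num, Nat.factorization_mul (by norm_num) (by norm_num),
            Finsupp.add_apply, Nat.Prime.factorization_pow (by norm_num), Finsupp.single_eq_same,
            Nat.factorization_eq_zero_of_not_dvd (by norm_num), add_zero, pow_one] at h
      set Q : Subgroup G := (P : Subgroup N).map N.subtype with hQ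
      have hQ23 : Nat.card Q = 23 := by
        rw [hQ, Subgroup.card_map_of_injective N.subtype_injective]; exact hP
      set K : Subgroup G := Subgroup.normalizer (Q : Set G) with hK
      have hsup : K ⊔ N = ⊤ := Sylow.normalizer_sup_eq_top P
      have h3 : N.index ∣ Nat.card K := by
        have : N.relIndex (K ⊔ N) = N.relIndex K := Subgroup.relIndex_sup_right (K := N) (H := K)
        rw [hsup, Subgroup.relIndex_top_right] at this
        rw [this]; exact Subgroup.relIndex_dvd_card N K
      have h125K : 5 ^ 3 ∣ Nat.card K := by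
        refine dvd_trans ?_ h3
        have h2 := Subgroup.card_mul_index N
        rw [hcG] at h2
        refine (Nat.Coprime.dvd_mul_left (?_ : Nat.Coprime (5 ^ 3) (Nat.card N))).1 (h2.symm ▸ by norm_num)
        rcases hc with hc | hc <;> rw [hc] <;> decide
      obtain ⟨S0, hS0⟩ := Sylow.exists_subgroup_card_pow_prime 5 h125K
      set S : Subgroup G := S0.map K.subtype with hSdef
      have hScard : Nat.card S = 5 ^ 3 := by rw [hSdef, Subgroup.card_map_of_injective K.subtype_injective, hS0]
      have hSp : IsPGroup 5 S := IsPGroup.of_card hScard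
      have hSK : S ≤ K := Subgroup.map_subtype_le _
      have hconj : ∀ s : S, ∀ y ∈ Q, (s : G) * y * (s : G)⁻¹ ∈ Q := fun s y hy =>
        (Subgroup.mem_normalizer_iff.1 (hSK s.2) y).1 hy
      letI : MulAction S Q :=
        { smul := fun s y => ⟨(s : G) * y * (s : G)⁻¹, hconj s y y.2⟩
          one_smul := fun y => Subtype.ext (show ((1 : S) : G) * y * ((1 : S) : G)⁻¹ = y by simp)
          mul_smul := fun s t y => Subtype.ext (show ((s * t : S) : G) * y * ((s * t : S) : G)⁻¹ =
            (s : G) * ((t : G) * y * (t : G)⁻¹) * (s : G)⁻¹ by simp [mul_assoc]) }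
      obtain ⟨y, hyfix, hy1⟩ : ∃ y : Q, y ∈ fixedPoints S Q ∧ y ≠ 1 := by
        by_contra hne
        push Not at hne
        have hmod := hSp.card_modEq_card_fixedPoints (p := 5) Q
        have hle : Nat.card (fixedPoints S Q) ≤ 1 := by
          rw [Nat.card_coe_set_eq]
          exact le_trans (Set.ncard_le_ncard (fun z hz => Set.mem_singleton_iff.2 (hne z hz)) (Set.toFinite _))
            (Set.ncard_singleton _).le
        rw [hQ23, Nat.ModEq] at hmod
        omega
      have hcomm : ∀ s ∈ S, s * (y : G) = (y : G) * s := fun s hs => by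
        have h := congrArg (fun z : Q => (z : G)) (hyfix ⟨s, hs⟩)
        change s * (y : G) * s⁻¹ = (y : G) at h
        rwa [mul_inv_eq_iff_eq_mul] at h
      have hyN : (y : G) ∈ N := by
        obtain ⟨z, -, hz⟩ := Subgroup.mem_map.1 y.2
        rw [← hz]; exact z.2
      have hy23 : orderOf (y : G) = 23 := by
        rw [Subgroup.orderOf_coe]
        exact (Nat.dvd_prime (by norm_num)).1 (hQ23 ▸ orderOf_dvd_natCard y) |>.resolve_left fun h =>
          hy1 (orderOf_eq_one_iff.1 h)
      obtain ⟨c, hc⟩ : ∃ c : Co3Pts u, ∀ s ∈ S, s • c = c := by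
        by_contra hne
        push Not at hne
        have hmod := hSp.card_modEq_card_fixedPoints (p := 5) (Co3Pts u)
        haveI : IsEmpty (fixedPoints S (Co3Pts u)) := ⟨fun c => by
          obtain ⟨s, hs, hs'⟩ := hne c.1
          exact hs' (c.2 ⟨s, hs⟩)⟩
        rw [Nat.card_of_isEmpty (α := fixedPoints S (Co3Pts u)), hn, Nat.ModEq] at hmod
        omega
      have hfixy : ∀ d : Co3Pts u, (∀ s ∈ S, s • d = d) → ∀ s ∈ S, s • ((y : G) • d) = (y : G) • d := fun d hd s hs => by
        rw [← mul_smul, hcomm s hs, mul_smul, hd s hs]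
      have hy_ne : ∀ j ∈ [1, 2], (y : G) ^ j • c ≠ c := fun j hj e => by
        have h := hfree _ (N.pow_mem hyN j) c e
        have h' := orderOf_dvd_of_pow_eq_one h
        rw [hy23] at h'
        simp only [List.mem_cons, List.not_mem_nil, or_false] at hj
        rcases hj with rfl | rfl <;> norm_num at h'
      have hne2 : ∃ d, d ≠ c ∧ d ≠ σ c ∧ ∀ s ∈ S, s • d = d := by
        by_cases h : (y : G) • c = σ c
        · refine ⟨(y : G) • ((y : G) • c), ?_, ?_, hfixy _ (hfixy c hc)⟩
          · have := hy_ne 2 (by simp); rwa [pow_two, mul_smul] at this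
          · rw [← h]
            intro e
            have := hy_ne 1 (by simp)
            rw [pow_one] at this
            exact this (smul_left_cancel _ e)
        · refine ⟨(y : G) • c, ?_, h, hfixy c hc⟩
          have := hy_ne 1 (by simp); rwa [pow_one] at this
      obtain ⟨d, hd1, hd2, hd3⟩ := hne2
      refine h125 c d hd1 hd2 ?_
      rw [show (125 : ℕ) = Nat.card S by rw [hScard]; norm_num]
      exact Subgroup.card_dvd_of_le fun s hs => ⟨mem_stabilizer_iff.2 (hc s hs), mem_stabilizer_iff.2 (hd3 s hs)⟩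
    rcases hcases with h | h | h | h
    · -- every element moves each point to its complement
      obtain ⟨m, hm, hm1⟩ : ∃ m ∈ N, m ≠ 1 := by
        by_contra hne
        push Not at hne
        exact hN0 ((Subgroup.eq_bot_iff_forall _).2 hne)
      refine no_swap hu (m : ↥Co0) m.2 fun x hx => ?_
      obtain ⟨g, hg⟩ := exists_smul_eq G a (⟨x, hx⟩ : Co3Pts u)
      have hc' : g⁻¹ * m * g ∈ N := by have := hN.conj_mem m hm g⁻¹; rwa [inv_inv] at this
      have hne : (g⁻¹ * m * g) • a ≠ a := fun e => hm1 (hfree m hm (g • a) (by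
        rwa [mul_smul, mul_smul, inv_smul_eq_iff] at e))
      have hswap : (g⁻¹ * m * g) • a = σ a :=
        (h (show (g⁻¹ * m * g) • a ∈ O from ⟨⟨_, hc'⟩, rfl⟩)).resolve_left hne
      rw [mul_smul, mul_smul, hg, inv_smul_eq_iff, co3Opp_smul hu, hg] at hswap
      exact congrArg Subtype.val hswap
    · refine big (Or.inl ?_)
      rw [← hcN, h, Set.ncard_insert_of_notMem (fun h' => ?_), hAcard]
      exact absurd (show dotInt _ _ = (16 : ℤ) from h') (by rw [haσ.2.1]; norm_num)
    · refine big (Or.inl ?_)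
      rw [← hcN, h, Set.ncard_insert_of_notMem (fun h' => ?_), Set.ncard_image_of_injective _ hσinj, hAcard]
      exact absurd ((hB _).1 h') (by rw [haσ.2.1]; norm_num)
    · exact big (Or.inr (by rw [← hcN, h, Set.ncard_univ, hn]))
  · have hle : stabilizer G a ≤ N := Subgroup.subgroupOf_eq_top.1 hS
    rcases hcases with h | h | h | h
    · exfalso
      obtain ⟨z, hz⟩ : A.Nonempty := Set.nonempty_of_ncard_ne_zero (by omega)
      have hsub : A ⊆ {z, σ z} := by
        intro w hw
        obtain ⟨k, hk, rfl⟩ := hAtr z hz w hw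
        obtain ⟨g, rfl⟩ := exists_smul_eq G a z
        have hc' : g⁻¹ * k * g ∈ N := by have := hN.conj_mem k (hle hk) g⁻¹; rwa [inv_inv] at this
        have h' : (g⁻¹ * k * g) • a = a ∨ (g⁻¹ * k * g) • a = σ a :=
          h (show (g⁻¹ * k * g) • a ∈ O from ⟨⟨_, hc'⟩, rfl⟩)
        rcases h' with e | e <;>
          rw [mul_smul, mul_smul, inv_smul_eq_iff] at e
        · exact Or.inl e
        · exact Or.inr (e.trans (co3Opp_smul hu g a))
      have := Set.ncard_le_ncard hsub (Set.toFinite _)
      have h2 : ({z, σ z} : Set (Co3Pts u)).ncard ≤ 2 := by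
        refine (Set.ncard_insert_le _ _).trans ?_
        rw [Set.ncard_singleton]
      omega
    case inr.inr.inr =>
      rw [eq_top_iff]
      intro g _
      obtain ⟨m, hm⟩ : g • a ∈ orbit N a := by rw [← hO, h]; exact Set.mem_univ _
      have hst : (m : G)⁻¹ * g ∈ stabilizer G a := by
        rw [mem_stabilizer_iff, mul_smul, ← hm]
        exact inv_smul_smul (m : G) a
      simpa using N.mul_mem m.2 (hle hst)
    all_goals
      exfalso
      obtain ⟨cv, hcv, hcv', hcon⟩ : ∃ cv : ℤ, 0 ≤ cv ∧ cv < 32 ∧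
          ∀ z ∈ O, z ≠ a → dotInt (a.1 : Vec) z.1 = cv := by
        first
          | exact ⟨16, by norm_num, by norm_num, fun z hz hne => by
              rw [h] at hz; exact (hz.resolve_left hne : _)⟩
          | exact ⟨8, by norm_num, by norm_num, fun z hz hne => by
              rw [h] at hz; exact (hB z).1 (hz.resolve_left hne)⟩
      let F : Finset Vec := ((Set.toFinite O).toFinset).image fun z => (z.1 : Vec)
      have hF : F.card = O.ncard := by
        rw [Finset.card_image_of_injective _ (show Function.Injective (fun z : Co3Pts u => (z.1 : Vec)) from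
          Subtype.val_injective.comp Subtype.val_injective), Set.ncard_eq_toFinset_card O]
      have h24 : F.card ≤ 24 := by
        refine card_equiangular hcv hcv' F (fun x hx => ?_) (fun x hx y hy hxy => ?_)
        · obtain ⟨z, -, rfl⟩ := Finset.mem_image.1 hx
          exact z.norm
        · obtain ⟨z, hz, rfl⟩ := Finset.mem_image.1 hx
          obtain ⟨w, hw, rfl⟩ := Finset.mem_image.1 hy
          rw [Set.Finite.mem_toFinset] at hz hw
          obtain ⟨m, rfl⟩ := hz
          obtain ⟨m', rfl⟩ := hw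
          have key := hcon ((m⁻¹ * m') • a) ⟨m⁻¹ * m', rfl⟩ fun e => hxy (by
            rw [mul_smul, inv_smul_eq_iff] at e; exact congrArg (fun z : Co3Pts u => (z.1 : Vec)) e.symm)
          have hval : ∀ k : N, (k • a).1 = ((k : G) : ↥Co0) • a.1 := fun k => rfl
          rw [← key]
          show dotInt ((m • a : Co3Pts u).1 : Vec) ((m' • a : Co3Pts u).1 : Vec) =
            dotInt (a.1 : Vec) (((m⁻¹ * m') • a : Co3Pts u).1 : Vec)
          rw [hval, hval, hval, Subgroup.coe_mul, Subgroup.coe_mul, Subgroup.coe_inv, Subgroup.coe_inv, mul_smul]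
          conv_rhs => rw [← co0_smul_dot (((m : G) : ↥Co0)), smul_inv_smul]
      have h276 : O.ncard = 276 := by
        first
          | (rw [h, Set.ncard_insert_of_notMem (s := A) (fun h' => absurd (show dotInt _ _ = (16 : ℤ) from h')
              (by rw [haσ.2.1]; norm_num)), hAcard])
          | (rw [h, Set.ncard_insert_of_notMem (s := σ '' A) (fun h' => absurd ((hB _).1 h')
              (by rw [haσ.2.1]; norm_num)), Set.ncard_image_of_injective _ hσinj, hAcard])
      omega

end

end Cfsg.Agent.LeechCount
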