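import Cfsg.Agent.Lib.LeechCount.McL

/-!
Counts and frame witnesses of the McLaughlin configuration on the explicit list.
-/

set_option autoImplicit false

namespace Cfsg.Agent.LeechCount

open Cfsg Cfsg.Agent.Leech

noncomputable section

attribute [local irreducible] normFS

/-- The chosen vertex: -4 at the first two positions. -/
def vList : List ℤ := (List.range 24).map fun j => if j = 23 ∨ j = 0 then -4 else 0

/-- The chosen point. -/
def xList : List ℤ := (List.range 24).map fun j => if j = 23 ∨ j = 1 then -4 else 0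

/-- The 275 points. -/
def list275 : List (List ℤ) := list552.filter fun l => dotL vList l == 16

/-- Candidates for the second frame vector. -/
def tCands : List (List ℤ) :=
  dList :: (((Golay24.weightList 8).filter fun m => !m.testBit 23 && !m.testBit 0).map fun m =>
    (List.range 24).map fun j => if m.testBit j then 2 else 0) ++
  (((Golay24.weightList 8).filter fun m => m.testBit 23 && m.testBit 0 && m.testBit 1).flatMap fun m =>
    ((List.range 24).filter fun k => m.testBit k && decide (2 ≤ k) && decide (k < 23)).map fun k =>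
      (List.range 24).map fun j => if m.testBit j then (if j = 0 ∨ j = k then -2 else 2) else 0) ++
  ((Golay24.weightList 8).filter fun m => !m.testBit 23 && m.testBit 0 && m.testBit 1).map fun m =>
    (List.range 24).map fun j => if j = 1 then 3 else if m.testBit j then -1 else 1

/-- The lattice conditions on a list, for one parity. -/
def latOk (m : ℤ) (l : List ℤ) : Bool :=
  (List.range 24).all (fun j => decide ((2 : ℤ) ∣ l.getD j 0 - m)) &&
  decide ((8 : ℤ) ∣ ((List.ofFn fun k : Fin 24 => l.getD k.val 0).sum - 4 * m)) &&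
  Golay24.inCode (Nat.ofBits fun k : Fin 24 => decide (¬ (4 : ℤ) ∣ l.getD k.val 0 - m))

theorem mem_of_latOk {m : ℤ} {l : List ℤ} (h : latOk m l = true) : vecOf l ∈ leechLattice := by
  simp only [latOk, Bool.and_eq_true, List.all_eq_true, decide_eq_true_eq, List.mem_range] at h
  obtain ⟨⟨h1, h2⟩, h3⟩ := h
  refine (mem_leech_iff _).2 ⟨m, fun i => h1 _ (Golay24.idx i).isLt, ?_, ?_⟩
  · rw [List.sum_ofFn] at h2
    rwa [← Equiv.sum_comp Golay24.ptEquiv.symm,
      show (∑ k, vecOf l (Golay24.ptEquiv.symm k)) = ∑ k : Fin 24, l.getD k.val 0 from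
        Finset.sum_congr rfl fun k _ => by
          show l.getD (Golay24.idx (Golay24.pt k)).val 0 = _
          rw [Golay24.idx_pt]]
  · show _ ∈ supports _
    rw [Golay24.mem_supports_iff_inCode]
    convert h3 using 2
    refine Golay24.eq_of_testBit24 (Golay24.maskOf_lt _) (Nat.ofBits_lt_two_pow _) fun i => ?_
    rw [Golay24.testBit_maskOf, Nat.testBit_ofBits_lt _ _ i.isLt, decide_eq_decide, mem_pat]
    simp [vecOf]

/-- The checks for the points. -/
def pointsOk : Bool :=
  (tCands.all fun t => decide (t.length = 24) && decide (dotL t t = 32) && decide (dotL vList t = 0) &&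
    decide (dotL uList t = -16) && (latOk 0 t || latOk 1 t)) &&
  list275.all fun l => (tCands.any fun t => decide (dotL l t = -16)) &&
    (if dotL xList l = 16 then tCands.any fun t => decide (dotL xList t = -16) && decide (dotL l t = -16)
     else if dotL xList l = 8 then tCands.any fun t => decide (dotL xList t = -16) && decide (dotL l t = 0)
     else decide (l = xList))

theorem pointsOk_true : pointsOk = true := by decide +kernel

theorem mcl_counts : vList ∈ list552 ∧ xList ∈ list275 ∧ list275.length = 275 ∧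
    (list275.filter fun l => dotL xList l == 8).length = 112 ∧
    (list275.filter fun l => dotL xList l == 16).length = 162 := by
  decide +kernel

theorem tCands_facts {t : List ℤ} (ht : t ∈ tCands) : vecOf t ∈ leechLattice ∧ t.length = 24 ∧
    dotL t t = 32 ∧ dotL vList t = 0 ∧ dotL uList t = -16 := by
  have h := pointsOk_true
  simp only [pointsOk, Bool.and_eq_true, List.all_eq_true, decide_eq_true_eq] at h
  obtain ⟨⟨⟨⟨h1, h2⟩, h3⟩, h4⟩, h5⟩ := h.1 t ht
  refine ⟨?_, h1, h2, h3, h4⟩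
  simp only [Bool.or_eq_true] at h5
  rcases h5 with h5 | h5 <;> exact mem_of_latOk h5

theorem mem275 {l : List ℤ} (hl : l ∈ list275) :
    vecOf l ∈ leechLattice ∧ sqNorm (vecOf l) = 32 ∧ dotInt Spor.vecV (vecOf l) = 24 ∧
      dotInt (vecOf vList) (vecOf l) = 16 ∧ l.length = 24 := by
  obtain ⟨h1, h2⟩ := List.mem_filter.1 hl
  obtain ⟨a, b, c, d⟩ := list552_mem l h1
  refine ⟨a, ?_, by rw [← uList_eq, dot_vecOf uList_length b, d],
    by rw [dot_vecOf (by simp [vList]) b, beq_iff_eq.1 h2], b⟩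
  rw [← c, ← dot_vecOf b b]; simp [sqNorm, dotInt, pow_two]

theorem exists_list275 {x : Vec} (h : x ∈ twoFS Spor.vecV 24 (vecOf vList) 16) : ∃ l ∈ list275, vecOf l = x := by
  obtain ⟨h1, h2, h3⟩ := mem_twoFS.1 h
  have : x ∈ dotFS 24 Spor.vecV := mem_dotFS.2 ⟨h1, h2⟩
  rw [dotFS_vecV, List.mem_toFinset, List.mem_map] at this
  obtain ⟨l, hl, rfl⟩ := this
  exact ⟨l, List.mem_filter.2 ⟨hl, by
    rw [beq_iff_eq, ← dot_vecOf (by simp [vList]) (list552_mem l hl).2.1, h3]⟩, rfl⟩

theorem v0_facts : vecOf vList ∈ leechLattice ∧ sqNorm (vecOf vList) = 32 ∧ dotInt Spor.vecV (vecOf vList) = 24 := by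
  obtain ⟨a, b, c, d⟩ := list552_mem vList mcl_counts.1
  refine ⟨a, ?_, by rw [← uList_eq, dot_vecOf uList_length b, d]⟩
  rw [← c, ← dot_vecOf b b]; simp [sqNorm, dotInt, pow_two]

theorem dot_self (x : Vec) : dotInt x x = sqNorm x := by simp [dotInt, sqNorm, pow_two]

theorem dot_sub_left (a b x : Vec) : dotInt (a - b) x = dotInt a x - dotInt b x := by
  simp only [dotInt, Pi.sub_apply, ← Finset.sum_sub_distrib]
  exact Finset.sum_congr rfl fun i _ => by ring

theorem seen_canon {l t : List ℤ} (hl : l ∈ list275) (ht : t ∈ tCands) (h : dotL l t = -16) :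
    Seen (vecOf vList) (vecOf t) (Spor.vecV - vecOf vList) (vecOf l) := by
  obtain ⟨v1, v2, v3⟩ := v0_facts
  obtain ⟨a, b, c, d, e⟩ := mem275 hl
  obtain ⟨t1, t2, t3, t4, t5⟩ := tCands_facts ht
  have htv : dotInt (vecOf vList) (vecOf t) = 0 := by rw [dot_vecOf (by simp [vList]) t2, t4]
  refine ⟨v1, v2, t1, ?_, htv, sub_mem vecV_leech v1, ?_, ?_, ?_, a, b, d, ?_, ?_⟩
  · rw [← t3, ← dot_vecOf t2 t2, dot_self]
  · rw [sqNorm_sub, vecV_norm, v2, v3]; norm_num
  · rw [dot_comm, dot_sub_left, v3, dot_self, v2]; norm_num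
  · rw [dot_comm, dot_sub_left, ← uList_eq, dot_vecOf uList_length t2, t5, htv]; norm_num
  · rw [dot_sub_left, c, d]; norm_num
  · rw [dot_comm, dot_vecOf e t2, h]

theorem witness_single {l : List ℤ} (hl : l ∈ list275) :
    ∃ t, Seen (vecOf vList) t (Spor.vecV - vecOf vList) (vecOf l) := by
  have h := pointsOk_true
  simp only [pointsOk, Bool.and_eq_true, List.all_eq_true, List.any_eq_true, decide_eq_true_eq] at h
  obtain ⟨⟨t, ht, hd⟩, -⟩ := h.2 l hl
  exact ⟨vecOf t, seen_canon hl ht hd⟩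

theorem witness_far {l : List ℤ} (hl : l ∈ list275) (hd : dotInt (vecOf xList) (vecOf l) = 16) :
    ∃ t, Seen (vecOf vList) t (Spor.vecV - vecOf vList) (vecOf xList) ∧
      Seen (vecOf vList) t (Spor.vecV - vecOf vList) (vecOf l) := by
  rw [dot_vecOf (by simp [xList]) (mem275 hl).2.2.2.2] at hd
  have h := pointsOk_true
  simp only [pointsOk, Bool.and_eq_true, List.all_eq_true] at h
  have h2 := (h.2 l hl).2
  rw [if_pos hd] at h2
  simp only [List.any_eq_true, Bool.and_eq_true, decide_eq_true_eq] at h2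
  obtain ⟨t, ht, h3, h4⟩ := h2
  exact ⟨vecOf t, seen_canon mcl_counts.2.1 ht h3, seen_canon hl ht h4⟩

theorem witness_near {l : List ℤ} (hl : l ∈ list275) (hd : dotInt (vecOf xList) (vecOf l) = 8) :
    ∃ t, Seen (vecOf vList) t (Spor.vecV - vecOf vList) (vecOf xList) ∧ dotInt t (vecOf l) = 0 := by
  rw [dot_vecOf (by simp [xList]) (mem275 hl).2.2.2.2] at hd
  have h := pointsOk_true
  simp only [pointsOk, Bool.and_eq_true, List.all_eq_true] at h
  have h2 := (h.2 l hl).2
  rw [if_neg (by omega), if_pos hd] at h2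
  simp only [List.any_eq_true, Bool.and_eq_true, decide_eq_true_eq] at h2
  obtain ⟨t, ht, h3, h4⟩ := h2
  exact ⟨vecOf t, seen_canon mcl_counts.2.1 ht h3,
    by rw [dot_comm, dot_vecOf (mem275 hl).2.2.2.2 (tCands_facts ht).2.1, h4]⟩

theorem x0_mem : vecOf xList ∈ twoFS Spor.vecV 24 (vecOf vList) 16 := by
  obtain ⟨a, b, c, d, -⟩ := mem275 mcl_counts.2.1
  exact mem_twoFS.2 ⟨⟨a, b⟩, c, d⟩

theorem count275 (P : Vec → Prop) [DecidablePred P] (Q : List ℤ → Bool)
    (h : ∀ l ∈ list275, P (vecOf l) ↔ Q l = true) :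
    ((twoFS Spor.vecV 24 (vecOf vList) 16).filter P).card = (list275.filter Q).length := by
  rw [twoFS, Finset.filter_filter, card_filter552 _ (fun l => (dotL vList l == 16) && Q l), list275,
    List.filter_filter]
  · congr 2
    funext l
    rw [Bool.and_comm]
  · intro l hl
    rw [Bool.and_eq_true, beq_iff_eq, ← dot_vecOf (by simp [vList]) (list552_mem l hl).2.1]
    refine and_congr_right fun h1 => h l (List.mem_filter.2 ⟨hl, ?_⟩)
    rw [beq_iff_eq, ← dot_vecOf (by simp [vList]) (list552_mem l hl).2.1, h1]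

theorem card_canon_275 : (twoFS Spor.vecV 24 (vecOf vList) 16).card = 275 := by
  have h := count275 (fun _ => True) (fun _ => true) (fun _ _ => iff_of_true trivial rfl)
  rw [Finset.filter_true, List.filter_true, mcl_counts.2.2.1] at h
  exact h

theorem card_canon_edge (c : ℤ) :
    ((twoFS Spor.vecV 24 (vecOf vList) 16).filter fun y => dotInt (vecOf xList) y = c).card =
      (list275.filter fun l => dotL xList l == c).length :=
  count275 _ _ fun l hl => by rw [beq_iff_eq, dot_vecOf (by simp [xList]) (mem275 hl).2.2.2.2]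

/-- Every point is carried to the chosen one with the vertex pair. -/
theorem exists_canon {u v x : Vec} (hu : u ∈ leechLattice) (hun : sqNorm u = 48) (hv : v ∈ leechLattice)
    (hvn : sqNorm v = 32) (hd : dotInt u v = 24) (hx : x ∈ twoFS u 24 v 16) :
    ∃ g : ↥Co0, ap g u = Spor.vecV ∧ ap g v = vecOf vList ∧ ap g x = vecOf xList := by
  obtain ⟨v1, v2, v3⟩ := v0_facts
  have hw : ∀ {a b : Vec}, sqNorm a = 48 → sqNorm b = 32 → dotInt a b = 24 →
      sqNorm (a - b) = 32 ∧ dotInt b (a - b) = -8 := fun {a b} ha hb hab => by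
    refine ⟨by rw [sqNorm_sub, ha, hb, hab]; norm_num, ?_⟩
    rw [dot_comm, dot_sub_left, hab, dot_self, hb]; norm_num
  obtain ⟨e1, e2⟩ := hw hun hvn hd
  obtain ⟨e3, e4⟩ := hw vecV_norm v2 v3
  obtain ⟨g, g1, g2⟩ := coPair_eight hv hvn (sub_mem hu hv) e1 e2 v1 v2 (sub_mem vecV_leech v1) e3 e4
  have g3 : ap g u = Spor.vecV := by
    have := ap_add g hv (sub_mem hu hv)
    rw [add_sub_cancel, g1, g2, add_sub_cancel] at this
    exact this
  obtain ⟨⟨hxm, hxn⟩, hxu, hxv⟩ := mem_twoFS.1 hx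
  obtain ⟨l, hl, hlx⟩ := exists_list275 (x := ap g x) (mem_twoFS.2 ⟨⟨ap_mem g hxm, by rw [ap_norm g hxm, hxn]⟩,
    by rw [← g3, ap_dot g hu hxm, hxu], by rw [← g1, ap_dot g hv hxm, hxv]⟩)
  obtain ⟨t, ht⟩ := witness_single hl
  obtain ⟨t', ht'⟩ := witness_single mcl_counts.2.1
  obtain ⟨k, k1, -, k2, k3⟩ := ht.trans_point ht'
  refine ⟨k * g, ?_, ?_, ?_⟩
  · rw [ap_mul _ _ hu, g3]
    have := ap_add k v1 ht.mw
    rw [add_sub_cancel, k1, k2, add_sub_cancel] at this
    exact this
  · rw [ap_mul _ _ hv, g1, k1]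
  · rw [ap_mul _ _ hxm, ← hlx, k3]

/-- Two points in the same relation to the chosen one are in one orbit of its stabiliser. -/
theorem canon_edge_trans {y y' : Vec} (hy : y ∈ twoFS Spor.vecV 24 (vecOf vList) 16)
    (hy' : y' ∈ twoFS Spor.vecV 24 (vecOf vList) 16) (hne : y ≠ vecOf xList) (hne' : y' ≠ vecOf xList)
    (hd : dotInt (vecOf xList) y = dotInt (vecOf xList) y') :
    ∃ g : ↥Co0, ap g Spor.vecV = Spor.vecV ∧ ap g (vecOf vList) = vecOf vList ∧
      ap g (vecOf xList) = vecOf xList ∧ ap g y = y' := by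
  obtain ⟨l, hl, rfl⟩ := exists_list275 hy
  obtain ⟨m, hm, rfl⟩ := exists_list275 hy'
  have hval : ∀ l ∈ list275, vecOf l ≠ vecOf xList →
      dotInt (vecOf xList) (vecOf l) = 16 ∨ dotInt (vecOf xList) (vecOf l) = 8 := fun l hl hne => by
    have h := pointsOk_true
    simp only [pointsOk, Bool.and_eq_true, List.all_eq_true] at h
    have h2 := (h.2 l hl).2
    rw [dot_vecOf (by simp [xList]) (mem275 hl).2.2.2.2]
    by_contra hc
    push Not at hc
    rw [if_neg hc.1, if_neg hc.2, decide_eq_true_eq] at h2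
    exact hne (by rw [h2])
  have fix_u : ∀ {g : ↥Co0}, ap g (vecOf vList) = vecOf vList →
      ap g (Spor.vecV - vecOf vList) = Spor.vecV - vecOf vList → ap g Spor.vecV = Spor.vecV := fun {g} a b => by
    have := ap_add g v0_facts.1 (sub_mem vecV_leech v0_facts.1)
    rw [add_sub_cancel, a, b, add_sub_cancel] at this
    exact this
  rcases hval l hl hne with h | h
  · obtain ⟨t, ht, hty⟩ := witness_far hl h
    obtain ⟨t', ht', hty'⟩ := witness_far hm (hd ▸ h)
    obtain ⟨g, g1, g2, g3, g4⟩ := ht.trans_far hty h ht' hty' (hd ▸ h)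
    exact ⟨g, fix_u g1 g2, g1, g3, g4⟩
  · obtain ⟨t, ht, hty⟩ := witness_near hl h
    obtain ⟨t', ht', hty'⟩ := witness_near hm (hd ▸ h)
    obtain ⟨a, b, c, d, -⟩ := mem275 hl
    obtain ⟨a', b', c', d', -⟩ := mem275 hm
    obtain ⟨g, g1, g2, g3, g4⟩ := ht.trans_near a b d (by rw [dot_sub_left, c, d]; norm_num) hty h ht' a' b' d'
      (by rw [dot_sub_left, c', d']; norm_num) hty' (hd ▸ h)
    exact ⟨g, fix_u g1 g2, g1, g3, g4⟩

/-- Pulling back the counts. -/
theorem card_edge {u v x : Vec} (hu : u ∈ leechLattice) (hun : sqNorm u = 48) (hv : v ∈ leechLattice)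
    (hvn : sqNorm v = 32) (hd : dotInt u v = 24) (hx : x ∈ twoFS u 24 v 16) (c : ℤ) :
    ((twoFS u 24 v 16).filter fun y => dotInt x y = c).card = (list275.filter fun l => dotL xList l == c).length := by
  obtain ⟨g, g1, g2, g3⟩ := exists_canon hu hun hv hvn hd hx
  have hxm := (mem_twoFS.1 hx).1.1
  rw [← card_canon_edge]
  refine Finset.card_bij' (fun w _ => ap g w) (fun w _ => ap g⁻¹ w) (fun w hw => ?_) (fun w hw => ?_)
    (fun w hw => ap_inv_ap g (mem_twoFS.1 (Finset.mem_filter.1 hw).1).1.1)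
    (fun w hw => by have := ap_inv_ap g⁻¹ (mem_twoFS.1 (Finset.mem_filter.1 hw).1).1.1; rwa [inv_inv] at this)
  · obtain ⟨hw1, hw2⟩ := Finset.mem_filter.1 hw
    obtain ⟨⟨h1, h2⟩, h3, h4⟩ := mem_twoFS.1 hw1
    exact Finset.mem_filter.2 ⟨mem_twoFS.2 ⟨⟨ap_mem g h1, by rw [ap_norm g h1, h2]⟩,
      by rw [← g1, ap_dot g hu h1, h3], by rw [← g2, ap_dot g hv h1, h4]⟩, by rw [← g3, ap_dot g hxm h1, hw2]⟩
  · obtain ⟨hw1, hw2⟩ := Finset.mem_filter.1 hw
    obtain ⟨⟨h1, h2⟩, h3, h4⟩ := mem_twoFS.1 hw1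
    have hh : ∀ {z : Vec} (_ : z ∈ leechLattice) (z0 : Vec) (_ : ap g z = z0),
        dotInt z (ap g⁻¹ w) = dotInt z0 w := fun {z} hz z0 e => by
      have := ap_dot g⁻¹ (ap_mem g hz) h1
      rwa [ap_inv_ap g hz, e] at this
    exact Finset.mem_filter.2 ⟨mem_twoFS.2 ⟨⟨ap_mem _ h1, by rw [ap_norm _ h1, h2]⟩,
      by rw [hh hu _ g1, h3], by rw [hh hv _ g2, h4]⟩, by rw [hh hxm _ g3, hw2]⟩

end

end Cfsg.Agent.LeechCount
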