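import Cfsg.Agent.Lib.LeechCount.McLData

/-!
The 100 points of the Higman-Sims configuration: the two further orbits of a point.
-/

set_option autoImplicit false

namespace Cfsg.Agent.LeechCount

open Cfsg Cfsg.Agent.Leech
open scoped symmDiff

noncomputable section

attribute [local irreducible] normFS

/-- In a frame, a minimal vector with entries of absolute value two at both frame points. -/
theorem octad_shape {w y : Vec} (hw : w ∈ leechLattice) (hodd : ¬ (2 : ℤ) ∣ w fP)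
    (hwn : sqNorm w = w fP ^ 2 + w fQ ^ 2 + 22) (hy : y ∈ leechLattice) (hyn : sqNorm y = 32)
    (hyP : |y fP| = 2) (hyQ : |y fQ| = 2) (hd : dotInt w y = w fP * y fP + w fQ * y fQ + 12) :
    ∃ O, InC O ∧ O.card = 8 ∧ fP ∈ O ∧ fQ ∈ O ∧ ∀ i, i ≠ fP → i ≠ fQ → y i = if i ∈ O then 2 * w i else 0 := by
  have hP2 : y fP = 2 ∨ y fP = -2 := by rcases abs_cases (y fP) with ⟨e, _⟩ | ⟨e, _⟩ <;> omega
  have hQ2 : y fQ = 2 ∨ y fQ = -2 := by rcases abs_cases (y fQ) with ⟨e, _⟩ | ⟨e, _⟩ <;> omega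
  have h : LatM 0 y := (exists_witness hy).resolve_right fun h => by have := h.1 fP; omega
  obtain ⟨hc, h2⟩ := pat_abs_two h (by omega)
  have hP : fP ∈ pat 0 y := mem_pat.2 (by omega)
  have hQ : fQ ∈ pat 0 y := mem_pat.2 (by omega)
  have h8 := hc.resolve_left fun e => by simp [e] at hP
  have hsplit := Finset.sum_sdiff (f := fun i => y i ^ 2) (Finset.subset_univ (pat 0 y))
  have hpatsum : ∑ i ∈ pat 0 y, y i ^ 2 = 4 * ((pat 0 y).card : ℤ) := by
    rw [Finset.sum_congr rfl fun i hi => show y i ^ 2 = 4 by rw [← sq_abs, h2 i hi]; norm_num]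
    simp [mul_comm]
  change _ = sqNorm y at hsplit
  rw [hpatsum, hyn] at hsplit
  have hnn : (0 : ℤ) ≤ ∑ i ∈ Finset.univ \ pat 0 y, y i ^ 2 := Finset.sum_nonneg fun i _ => sq_nonneg _
  have hcard : (pat 0 y).card = 8 := by omega
  have hz : ∀ i ∉ pat 0 y, y i = 0 := fun i hi => by
    have h0 : ∑ i ∈ Finset.univ \ pat 0 y, y i ^ 2 = 0 := by omega
    exact pow_eq_zero_iff two_ne_zero |>.1
      ((Finset.sum_eq_zero_iff_of_nonneg fun i _ => sq_nonneg (y i)).1 h0 i (by simp [hi]))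
  have hw1 : LatM 1 w := latM_of_mem hw (i := fP) (by omega)
  have hone := abs_one_others hw1 fP_ne_fQ hwn
  refine ⟨pat 0 y, h.2.2, hcard, hP, hQ, fun i hiP hiQ => ?_⟩
  by_cases hi : i ∈ pat 0 y
  · rw [if_pos hi]
    by_contra hne
    have hdot : dotInt w y = ∑ j ∈ pat 0 y, w j * y j :=
      (Finset.sum_subset (Finset.subset_univ _) fun j _ hj => by rw [hz j hj, mul_zero]).symm
    rw [hd, ← Finset.add_sum_erase _ _ hP,
      ← Finset.add_sum_erase _ _ (Finset.mem_erase.2 ⟨Ne.symm fP_ne_fQ, hQ⟩)] at hdot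
    have hle : ∀ j ∈ ((pat 0 y).erase fP).erase fQ, w j * y j ≤ 2 := fun j hj => by
      obtain ⟨hjQ, hjP, hjy⟩ : j ≠ fQ ∧ j ≠ fP ∧ j ∈ pat 0 y := by simpa using hj
      have e2 := h2 j hjy
      rcases hone j hjP hjQ with e | e <;> rw [e] <;>
        rcases abs_cases (y j) with ⟨e', _⟩ | ⟨e', _⟩ <;> omega
    have himem : i ∈ ((pat 0 y).erase fP).erase fQ := by simp [hiP, hiQ, hi]
    rw [← Finset.add_sum_erase _ _ himem] at hdot
    have hrest := Finset.sum_le_card_nsmul ((((pat 0 y).erase fP).erase fQ).erase i) (fun j => w j * y j) 2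
      fun j hj => hle j (Finset.mem_of_mem_erase hj)
    rw [Finset.card_erase_of_mem himem, Finset.card_erase_of_mem (Finset.mem_erase.2 ⟨Ne.symm fP_ne_fQ, hQ⟩),
      Finset.card_erase_of_mem hP, hcard, nsmul_eq_mul] at hrest
    norm_num at hrest
    have hi2 := h2 i hi
    rcases hone i hiP hiQ with e | e <;> rw [e] at hne hdot <;>
      rcases abs_cases (y i) with ⟨e', _⟩ | ⟨e', _⟩ <;> omega
  · rw [if_neg hi]; exact hz i hi

theorem inj_three {r : GolayPt} (h1 : r ≠ fP) (h2 : r ≠ fQ) : Function.Injective ![fP, fQ, r] := by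
  intro a b; fin_cases a <;> fin_cases b <;> simp [h1, h1.symm, h2, h2.symm]

/-- A point with its frame: (X, z) orthogonal, and u read as (1, -5). -/
structure HSFrame (u X z : Vec) : Prop where
  mu : u ∈ leechLattice
  nu : sqNorm u = 48
  mX : X ∈ leechLattice
  nX : sqNorm X = 32
  Xu : dotInt X u = -16
  mz : z ∈ leechLattice
  nz : sqNorm z = 32
  Xz : dotInt X z = 0
  uz : dotInt u z = 24

theorem HSFrame.read {u X z : Vec} (h : HSFrame u X z) :
    ∃ g : ↥Co0, ap g X = e44 fP fQ ∧ ap g z = d44 fP fQ ∧ ap g u fP = 1 ∧ ap g u fQ = -5 := by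
  obtain ⟨g, g1, g2, g3, g4⟩ := frame_reading h.mX h.nX h.mz h.nz h.Xz h.mu
  rw [h.Xu] at g3
  rw [dot_comm z u, h.uz] at g4
  exact ⟨g, g1, g2, by omega, by omega⟩

theorem HSFrame.trans_edge {u X z y y' : Vec} (h : HSFrame u X z) (hy : HSFrame u X y) (hy' : HSFrame u X y')
    {c : ℤ} (hc : c = 8 ∨ c = 16) (hd : dotInt z y = c) (hd' : dotInt z y' = c) :
    ∃ g : ↥Co0, ap g u = u ∧ ap g X = X ∧ ap g z = z ∧ ap g y = y' := by
  obtain ⟨g, g1, g2, g3, g4⟩ := h.read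
  have hw := ap_mem g h.mu
  have hwn : sqNorm (ap g u) = ap g u fP ^ 2 + ap g u fQ ^ 2 + 22 := by rw [ap_norm g h.mu, h.nu, g3, g4]; norm_num
  have hodd : ¬ (2 : ℤ) ∣ ap g u fP := by rw [g3]; decide
  have rd : ∀ {y : Vec}, HSFrame u X y → dotInt z y = c → 8 * ap g y fP = c ∧ 8 * ap g y fQ = -c := by
    intro y hy hd
    have a : 4 * (ap g y fP + ap g y fQ) = 0 := by
      rw [← dotAny_e44 _ fP_ne_fQ, ← g1, ap_dot g hy.mz h.mX, dot_comm, hy.Xz]
    have b : 4 * (ap g y fP - ap g y fQ) = c := by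
      rw [← dotAny_d44 _ fP_ne_fQ, ← g2, ap_dot g hy.mz h.mz, dot_comm, hd]
    omega
  obtain ⟨a1, a2⟩ := rd hy hd
  obtain ⟨b1, b2⟩ := rd hy' hd'
  suffices hk : ∃ k : ↥Co0, ap k (e44 fP fQ) = e44 fP fQ ∧ ap k (d44 fP fQ) = d44 fP fQ ∧
      ap k (ap g u) = ap g u ∧ ap k (ap g y) = ap g y' by
    obtain ⟨k, k1, k2, k3, k4⟩ := hk
    refine ⟨g⁻¹ * k * g, ?_, ?_, ?_, ?_⟩
    · rw [ap_mul _ _ h.mu, ap_mul _ _ hw, k3, ap_inv_ap g h.mu]
    · rw [ap_mul _ _ h.mX, g1, ap_mul _ _ (e44_mem fP_ne_fQ), k1, ← g1, ap_inv_ap g h.mX]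
    · rw [ap_mul _ _ h.mz, g2, ap_mul _ _ (d44_mem fP_ne_fQ), k2, ← g2, ap_inv_ap g h.mz]
    · rw [ap_mul _ _ hy.mz, ap_mul _ _ (ap_mem g hy.mz), k4, ap_inv_ap g hy'.mz]
  have hgu : sqNorm (ap g u) = 48 := by rw [ap_norm g h.mu, h.nu]
  rcases hc with rfl | rfl
  · have shp : ∀ {y : Vec}, HSFrame u X y → ap g y fP = 1 → ap g y fQ = -1 →
        ∃ r, r ≠ fP ∧ r ≠ fQ ∧ (ap g u - ap g y) r = 4 * ap g u r ∧
          ∀ i, i ≠ fP → i ≠ fQ → i ≠ r → (ap g u - ap g y) i = 0 := by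
      intro y hy e1 e2
      have hm := sub_mem hw (ap_mem g hy.mz)
      have hn : sqNorm (ap g u - ap g y) = 32 := by
        rw [sqNorm_sub, hgu, ap_norm g hy.mz, hy.nz, ap_dot g h.mu hy.mz, hy.uz]; norm_num
      obtain ⟨r, hrP, hrQ, hr, hr0⟩ := sixteen_shape hm hn (by simp [e1, g3]) (by simp [e2, g4])
      refine ⟨r, hrP, hrQ, ?_, hr0⟩
      have hdot : dotInt (ap g u) (ap g u - ap g y) = 24 := by
        rw [dot_comm, dot_sub_left, dot_self, hgu, ap_dot g hy.mz h.mu, dot_comm, hy.uz]; norm_num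
      rw [dotInt, ← Finset.add_sum_erase _ _ (Finset.mem_univ fQ), ← Finset.add_sum_erase _ _
        (Finset.mem_erase.2 ⟨hrQ, Finset.mem_univ r⟩), Finset.sum_eq_zero fun i hi => ?_,
        show (ap g u - ap g y) fQ = -4 by simp [e2, g4], g4] at hdot
      · rcases abs_one_others (latM_of_mem hw (i := fP) (m := 1) (by omega)) fP_ne_fQ hwn r hrP hrQ with e | e <;>
          rw [e] at hdot ⊢ <;> omega
      · obtain ⟨hir, hiQ⟩ : i ≠ r ∧ i ≠ fQ := by simpa using hi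
        by_cases hiP : i = fP
        · rw [hiP]; simp [e1, g3]
        · rw [hr0 i hiP hiQ hir, mul_zero]
    obtain ⟨r, hrP, hrQ, hr, hr0⟩ := shp hy (by omega) (by omega)
    obtain ⟨s, hsP, hsQ, hs, hs0⟩ := shp hy' (by omega) (by omega)
    obtain ⟨σ, hσ, hσi⟩ := Golay24.exists_map_le_five (by norm_num : (3 : ℕ) ≤ 5)
      ⟨![fP, fQ, r], inj_three hrP hrQ⟩
      ⟨![fP, fQ, s], inj_three hsP hsQ⟩
    have hσP : σ fP = fP := hσi 0
    have hσQ : σ fQ = fQ := hσi 1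
    have hσr : σ r = s := hσi 2
    obtain ⟨k, k1, k2, k3, k4⟩ := perm_reading hw hw rfl rfl hodd hwn hwn hσ hσP hσQ
    refine ⟨k, k1, k2, k3, ?_⟩
    have hkd : ap k (ap g u - ap g y) = ap g u - ap g y' := k4 _ (sub_mem hw (ap_mem g hy.mz)) _ fun i => by
      by_cases i1 : i = fP
      · subst i1; rw [hσP]; simp only [Pi.sub_apply]; rw [show ap g y fP = ap g y' fP by omega]
      by_cases i2 : i = fQ
      · subst i2; rw [hσQ]; simp only [Pi.sub_apply]; rw [show ap g y fQ = ap g y' fQ by omega]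
      by_cases i3 : i = r
      · subst i3; rw [hσr, hr, hs]; ring
      · rw [hr0 i i1 i2 i3, hs0 _ (fun e => i1 (σ.injective (e.trans hσP.symm)))
          (fun e => i2 (σ.injective (e.trans hσQ.symm))) (fun e => i3 (σ.injective (e.trans hσr.symm)))]
        ring
    rw [ap_sub k hw (ap_mem g hy.mz), k3] at hkd
    exact sub_right_injective hkd
  · have shp : ∀ {y : Vec}, HSFrame u X y → ap g y fP = 2 → ap g y fQ = -2 → ∃ O, InC O ∧ O.card = 8 ∧
        fP ∈ O ∧ fQ ∈ O ∧ ∀ i, i ≠ fP → i ≠ fQ → ap g y i = if i ∈ O then 2 * ap g u i else 0 :=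
      fun {y} hy e1 e2 => octad_shape hw hodd hwn (ap_mem g hy.mz) (by rw [ap_norm g hy.mz, hy.nz])
        (by rw [e1]; rfl) (by rw [e2]; rfl)
        (by rw [ap_dot g h.mu hy.mz, hy.uz, g3, g4, e1, e2]; norm_num)
    obtain ⟨O, hO, h8, hOP, hOQ, hy0⟩ := shp hy (by omega) (by omega)
    obtain ⟨O', hO', h8', hOP', hOQ', hz0⟩ := shp hy' (by omega) (by omega)
    obtain ⟨r, hr⟩ : Oᶜ.Nonempty := Finset.card_pos.1 (by rw [Finset.card_compl, card_pt, h8]; norm_num)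
    obtain ⟨s, hs⟩ : O'ᶜ.Nonempty := Finset.card_pos.1 (by rw [Finset.card_compl, card_pt, h8']; norm_num)
    obtain ⟨σ, hσ, hσP, hσQ, -, hσO⟩ := octad_pair_avoid fP_ne_fQ hO h8 hO' h8' hOP hOQ (Finset.mem_compl.1 hr)
      hOP' hOQ' (Finset.mem_compl.1 hs)
    obtain ⟨k, k1, k2, k3, k4⟩ := perm_reading hw hw rfl rfl hodd hwn hwn hσ hσP hσQ
    refine ⟨k, k1, k2, k3, k4 _ (ap_mem g hy.mz) _ fun i => ?_⟩
    by_cases i1 : i = fP
    · subst i1; rw [hσP]; rw [show ap g y fP = ap g y' fP by omega]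
    by_cases i2 : i = fQ
    · subst i2; rw [hσQ]; rw [show ap g y fQ = ap g y' fQ by omega]
    rw [hy0 i i1 i2, hz0 _ (fun e => i1 (σ.injective (e.trans hσP.symm)))
      (fun e => i2 (σ.injective (e.trans hσQ.symm)))]
    by_cases hi : i ∈ O
    · rw [if_pos hi, if_pos ((hσO i).2 hi)]; ring
    · rw [if_neg hi, if_neg (fun e => hi ((hσO i).1 e))]; ring

/-- The 100 points on the list. -/
def list100 : List (List ℤ) := list552.filter fun l => dotL dList l == 0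

theorem hs_split : vList ∈ list100 ∧ (list100.filter fun l => dotL vList l == 8).length = 22 ∧
    (list100.filter fun l => dotL vList l != 8 && dotL vList l != 32).length = 77 ∧
    (list100.all fun l => dotL vList l == 8 || dotL vList l == 16 || dotL vList l == 32) = true := by
  decide +kernel

theorem canon_frame : HSFrame Spor.vecV Spor.vecU' (vecOf vList) := by
  obtain ⟨a, b, c⟩ := v0_facts
  refine ⟨vecV_leech, vecV_norm, vecU'_facts.1, vecU'_facts.2.1, vecU'_facts.2.2, a, b, ?_, c⟩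
  rw [← dList_eq, dot_vecOf (by simp [dList]) (by simp [vList])]
  exact beq_iff_eq.1 (List.mem_filter.1 hs_split.1).2

/-- The points of a configuration. -/
def hsFS (u X : Vec) : Finset Vec := twoFS u 24 X 0

theorem HSFrame.to_canon {u X z : Vec} (h : HSFrame u X z) :
    ∃ g : ↥Co0, ap g u = Spor.vecV ∧ ap g X = Spor.vecU' ∧ ap g z = vecOf vList := by
  have c := canon_frame
  obtain ⟨g, g1, g2, g3⟩ := frame_triple (a := 1) (b := -5) (N := 48) h.mX h.nX h.mz h.nz h.Xz h.mu h.nu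
    (h.Xu.trans (by norm_num)) (by rw [dot_comm, h.uz]; norm_num) c.mX c.nX c.mz c.nz c.Xz c.mu c.nu
    (c.Xu.trans (by norm_num)) (by rw [dot_comm, c.uz]; norm_num) (by decide) (by norm_num)
  exact ⟨g, g3, g1, g2⟩

theorem canon_filter (Q : ℤ → Prop) [DecidablePred Q] (B : ℤ → Bool) (hQB : ∀ d, Q d ↔ B d = true) :
    ((hsFS Spor.vecV Spor.vecU').filter fun y => Q (dotInt (vecOf vList) y)).card =
      (list100.filter fun l => B (dotL vList l)).length := by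
  rw [hsFS, twoFS, Finset.filter_filter, card_filter552 _ (fun l => (dotL dList l == 0) && B (dotL vList l)),
    list100, List.filter_filter]
  · congr 2
    funext l
    rw [Bool.and_comm]
  · intro l hl
    rw [Bool.and_eq_true, beq_iff_eq, hQB, ← dList_eq, dot_vecOf (by simp [dList]) (list552_mem l hl).2.1,
      dot_vecOf (by simp [vList]) (list552_mem l hl).2.1]

theorem HSFrame.point_count {u X z : Vec} (h : HSFrame u X z) (Q : ℤ → Prop) [DecidablePred Q] (B : ℤ → Bool)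
    (hQB : ∀ d, Q d ↔ B d = true) :
    ((hsFS u X).filter fun y => Q (dotInt z y)).card = (list100.filter fun l => B (dotL vList l)).length := by
  obtain ⟨g, g1, g2, g3⟩ := h.to_canon
  rw [← canon_filter Q B hQB]
  refine Finset.card_bij' (fun w _ => ap g w) (fun w _ => ap g⁻¹ w) (fun w hw => ?_) (fun w hw => ?_)
    (fun w hw => ap_inv_ap g (mem_twoFS.1 (Finset.mem_filter.1 hw).1).1.1)
    (fun w hw => by have := ap_inv_ap g⁻¹ (mem_twoFS.1 (Finset.mem_filter.1 hw).1).1.1; rwa [inv_inv] at this)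
  · obtain ⟨hw1, hw2⟩ := Finset.mem_filter.1 hw
    obtain ⟨⟨h1, h2⟩, h3, h4⟩ := mem_twoFS.1 hw1
    exact Finset.mem_filter.2 ⟨mem_twoFS.2 ⟨⟨ap_mem g h1, by rw [ap_norm g h1, h2]⟩,
      by rw [← g1, ap_dot g h.mu h1, h3], by rw [← g2, ap_dot g h.mX h1, h4]⟩,
      by rw [← g3, ap_dot g h.mz h1]; exact hw2⟩
  · obtain ⟨hw1, hw2⟩ := Finset.mem_filter.1 hw
    obtain ⟨⟨h1, h2⟩, h3, h4⟩ := mem_twoFS.1 hw1
    have hh : ∀ {a : Vec} (_ : a ∈ leechLattice) (a0 : Vec) (_ : ap g a = a0),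
        dotInt a (ap g⁻¹ w) = dotInt a0 w := fun {a} ha a0 e => by
      have := ap_dot g⁻¹ (ap_mem g ha) h1
      rwa [ap_inv_ap g ha, e] at this
    exact Finset.mem_filter.2 ⟨mem_twoFS.2 ⟨⟨ap_mem _ h1, by rw [ap_norm _ h1, h2]⟩,
      by rw [hh h.mu _ g1, h3], by rw [hh h.mX _ g2, h4]⟩, by rw [hh h.mz _ g3]; exact hw2⟩

theorem HSFrame.dot_point {u X z y : Vec} (h : HSFrame u X z) (hy : y ∈ hsFS u X) :
    dotInt z y = 8 ∨ dotInt z y = 16 ∨ dotInt z y = 32 := by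
  obtain ⟨g, g1, g2, g3⟩ := h.to_canon
  obtain ⟨⟨h1, h2⟩, h3, h4⟩ := mem_twoFS.1 hy
  have hm : ap g y ∈ dotFS 24 Spor.vecV :=
    mem_dotFS.2 ⟨⟨ap_mem g h1, by rw [ap_norm g h1, h2]⟩, by rw [← g1, ap_dot g h.mu h1, h3]⟩
  rw [dotFS_vecV, List.mem_toFinset, List.mem_map] at hm
  obtain ⟨l, hl, hle⟩ := hm
  have hl100 : l ∈ list100 := List.mem_filter.2 ⟨hl, by
    rw [beq_iff_eq, ← dot_vecOf (by simp [dList]) (list552_mem l hl).2.1, dList_eq, hle, ← g2,
      ap_dot g h.mX h1, h4]⟩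
  have hb := List.all_eq_true.1 hs_split.2.2.2 l hl100
  simp only [Bool.or_eq_true, beq_iff_eq, or_assoc] at hb
  rwa [← ap_dot g h.mz h1, g3, ← hle, dot_vecOf (by simp [vList]) (list552_mem l hl).2.1]

end

end Cfsg.Agent.LeechCount
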