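import Cfsg.Agent.Lib.LeechCount.Counts
import Cfsg.Agent.Lib.Leech.Frame
import Cfsg.Agent.Lib.Leech.Orbits

/-!
The order of the automorphism group of the lattice.
-/

set_option autoImplicit false

namespace Cfsg.Agent.LeechCount

open Cfsg Cfsg.Agent.Leech

noncomputable section

theorem card_frame : Nat.card ↥frame = 4096 * 244823040 := by
  classical
  have h := Subgroup.card_mul_index frameHom.ker
  rw [Subgroup.index_ker, MonoidHom.range_eq_top.2 frameHom_surjective, Subgroup.card_top,
    Golay24.card_M24] at h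
  let f : Multiplicative ↥golayCode → ↥frameHom.ker := fun c =>
    ⟨⟨signHom c, signs_le_frame ⟨c, rfl⟩⟩, by
      obtain ⟨S, -, hh⟩ := frameHom_spec ⟨signHom c, signs_le_frame ⟨c, rfl⟩⟩
      refine Subtype.ext ((mono_unique (S := S) (S' := support₂ (wd c)) fun i => ?_).1)
      rw [← hh _ (e8_mem i)]
      exact ap_signCo_mono (InC_support (Multiplicative.toAdd c)) (e8_mem i)⟩
  have hf : Function.Bijective f := by
    constructor
    · intro a b hab
      have e : signHom a = signHom b :=
        congrArg (fun z : ↥frameHom.ker => ((z : ↥frame) : ↥Co0)) hab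
      have hs : support₂ (wd a) = support₂ (wd b) := by
        refine (mono_unique (σ := 1) (σ' := 1) fun i => ?_).2
        exact (ap_signCo_mono (InC_support (Multiplicative.toAdd a)) (e8_mem i)).symm.trans
          ((congrArg (fun z => ap z (e8 i)) e).trans
            (ap_signCo_mono (InC_support (Multiplicative.toAdd b)) (e8_mem i)))
      apply Multiplicative.toAdd.injective
      refine Subtype.ext (funext fun p => ?_)
      have := Finset.ext_iff.1 hs p
      simp only [support₂, Finset.mem_filter, Finset.mem_univ, true_and] at this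
      revert this
      show _ → wd a p = wd b p
      generalize wd a p = u, wd b p = w
      revert u w; decide
    · rintro ⟨z, hz⟩
      obtain ⟨S, hS, e⟩ := frameHom_ker hz
      obtain ⟨w, hw, rfl⟩ := hS
      exact ⟨Multiplicative.ofAdd ⟨w, hw⟩, Subtype.ext (Subtype.ext e.symm)⟩
  rw [← h, ← Nat.card_congr (Equiv.ofBijective f hf), Nat.card_congr Multiplicative.toAdd,
    Module.natCard_eq_pow_finrank (K := ZMod 2), Golay24.golayCode_finrank, Nat.card_zmod]
  norm_num

/-- The vectors of the standard cross, by point and sign. -/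
def crossVec (p : GolayPt × Bool) : ↥leechLattice :=
  if p.2 then ⟨e8 p.1, e8_mem p.1⟩ else ⟨-e8 p.1, neg_mem (e8_mem p.1)⟩

theorem crossVec_injective : Function.Injective crossVec := by
  rintro ⟨i, b⟩ ⟨j, c⟩ h
  have e := congrFun (congrArg (fun v : ↥leechLattice => (v : Vec)) h) i
  by_cases hij : i = j
  · subst hij; cases b <;> cases c <;> simp [crossVec, e8] at e ⊢
  · cases b <;> cases c <;> simp [crossVec, e8, hij] at e

theorem co0_card : Nat.card ↥Co0 = 8315553613086720000 := by
  classical
  set v₀ : ↥leechLattice := ⟨e8 none, e8_mem none⟩ with hv₀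
  have horb : MulAction.orbit ↥Co0 v₀ = {v : ↥leechLattice | sqNorm (v : Vec) = 64} := by
    ext w
    constructor
    · rintro ⟨g, rfl⟩
      show sqNorm ((g • v₀ : ↥leechLattice) : Vec) = 64
      rw [co0_smul_norm]; exact e8_norm none
    · intro hw
      obtain ⟨g, hg⟩ := coEq_of_norm64 (e8_mem none) w.2 (e8_norm none) hw
      exact ⟨g, Subtype.ext (by rw [← ap_coe]; exact hg)⟩
  have hidx : (MulAction.stabilizer ↥Co0 v₀).index = 398034000 := by
    rw [MulAction.index_stabilizer, horb, ← short64, ← setOf_norm_eq 64,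
      ← Set.ncard_image_of_injective _ Subtype.val_injective]
    congr 1
    ext x
    exact ⟨fun ⟨v, hv, e⟩ => e ▸ ⟨v.2, hv⟩, fun hx => ⟨⟨x, hx.1⟩, hx.2, rfl⟩⟩
  have hle : MulAction.stabilizer ↥Co0 v₀ ≤ frame := fun g hg => by
    rw [mem_frame]
    have e : ap g (e8 none) = e8 none := by
      rw [show e8 none = (v₀ : Vec) from rfl, ap_coe, MulAction.mem_stabilizer_iff.1 hg]
    rw [e]; exact Cong.refl _
  have horbF : MulAction.orbit ↥frame v₀ = Set.range crossVec := by
    ext w
    constructor
    · rintro ⟨⟨g, hg⟩, rfl⟩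
      obtain ⟨i, h | h⟩ := cross_std (ap_mem g (e8_mem none))
        (by rw [ap_norm g (e8_mem none), e8_norm]) hg
      · exact ⟨(i, true), Subtype.ext (by show e8 i = _; rw [← h]; exact ap_coe g v₀)⟩
      · exact ⟨(i, false), Subtype.ext (by show -e8 i = _; rw [← h]; exact ap_coe g v₀)⟩
    · rintro ⟨⟨i, b⟩, rfl⟩
      have hn : sqNorm ((crossVec (i, b) : ↥leechLattice) : Vec) = 64 := by
        cases b
        exacts [(sqNorm_neg _).trans (e8_norm i), e8_norm i]
      obtain ⟨g, hg⟩ := coEq_of_norm64 (e8_mem none) (crossVec (i, b)).2 (e8_norm none) hn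
      refine ⟨⟨g, ?_⟩, Subtype.ext ((ap_coe g v₀).symm.trans hg)⟩
      rw [mem_frame, hg]
      cases b
      exacts [(cong_neg (e8_mem i)).symm.trans (cong_e8 i none), cong_e8 i none]
  have hrel : (MulAction.stabilizer ↥Co0 v₀).relIndex frame = 48 := by
    have e : (MulAction.stabilizer ↥Co0 v₀).subgroupOf frame = MulAction.stabilizer ↥frame v₀ := by
      ext g; rfl
    rw [Subgroup.relIndex, e, MulAction.index_stabilizer, horbF,
      Set.ncard_range_of_injective crossVec_injective]
    simp [card_pt]
  have h1 := Subgroup.relIndex_mul_index hle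
  rw [hrel, hidx] at h1
  have h2 : frame.index = 8292375 := by omega
  rw [← frame.card_mul_index, card_frame, h2]

end

end Cfsg.Agent.LeechCount
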