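import Cfsg.Agent.Lib.LeechCount.Shapes

/-!
Numbers of short vectors of the lattice, and of residues modulo eight.
-/

set_option autoImplicit false

namespace Cfsg.Agent.LeechCount

open Cfsg Cfsg.Agent.Leech

noncomputable section

/-- Entry lists for even vectors of sum of squares at most 64. -/
def evenVals : Bool → List ℤ
  | false => [0, 4, -4, 8, -8]
  | true => [2, -2, 6, -6]

/-- Entry lists for odd vectors of sum of squares at most 64. -/
def oddVals : Bool → List ℤ
  | false => [1, -3, 5, -7]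
  | true => [-1, 3, -5, 7]

/-- Energy of an even entry. -/
def evenE (v : ℤ) : ℕ := v.natAbs * v.natAbs / 4

/-- Energy of an odd entry. -/
def oddE (v : ℤ) : ℕ := (v.natAbs * v.natAbs - 1) / 8

theorem entry_bound {x : Vec} (h : sqNorm x ≤ 64) (i : GolayPt) : -8 ≤ x i ∧ x i ≤ 8 := by
  have h1 : x i ^ 2 ≤ sqNorm x :=
    Finset.single_le_sum (f := fun j => x j ^ 2) (fun j _ => sq_nonneg _) (Finset.mem_univ i)
  constructor <;> nlinarith

theorem evenVals_iff : ∀ v ∈ Finset.Icc (-8 : ℤ) 8, (2 : ℤ) ∣ v - 0 →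
    v ∈ evenVals (decide (¬ (4 : ℤ) ∣ v - 0)) ∧ v ^ 2 = 4 * (evenE v : ℤ) := by
  decide +kernel

theorem oddVals_iff : ∀ v ∈ Finset.Icc (-8 : ℤ) 8, (2 : ℤ) ∣ v - 1 →
    v ∈ oddVals (decide (¬ (4 : ℤ) ∣ v - 1)) ∧ v ^ 2 = 8 * (oddE v : ℤ) + 1 := by
  decide +kernel

theorem evenVals_sound : ∀ b, (evenVals b).Nodup ∧ ∀ v ∈ evenVals b,
    (2 : ℤ) ∣ v - 0 ∧ (b = true ↔ ¬ (4 : ℤ) ∣ v - 0) ∧ v ^ 2 = 4 * (evenE v : ℤ) := by
  decide +kernel

theorem oddVals_sound : ∀ b, (oddVals b).Nodup ∧ ∀ v ∈ oddVals b,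
    (2 : ℤ) ∣ v - 1 ∧ (b = true ↔ ¬ (4 : ℤ) ∣ v - 1) ∧ v ^ 2 = 8 * (oddE v : ℤ) + 1 := by
  decide +kernel

/-- Lattice vectors of given sum of squares with allowed entries. -/
def shortSet (N : ℤ) (ok : ℤ → Bool) : Set Vec :=
  {x | x ∈ leechLattice ∧ sqNorm x = N ∧ ∀ i, ok (x i) = true}

/-- Those of one parity. -/
def shortPar (m N : ℤ) (ok : ℤ → Bool) : Set Vec :=
  {x | LatM m x ∧ sqNorm x = N ∧ ∀ i, ok (x i) = true}

theorem shortPar_even (ok : ℤ → Bool) (E : ℕ) (h64 : E ≤ 16) :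
    shortPar 0 (4 * E) ok = part 0 (fun _ b => (evenVals b).filter ok) evenE E := by
  ext x
  simp only [shortPar, part, Set.mem_setOf_eq, List.mem_filter]
  constructor
  · rintro ⟨hx, hn, hok⟩
    have hb := entry_bound (x := x) (by omega)
    have hv := fun i => evenVals_iff (x i) (Finset.mem_Icc.2 (hb i)) (hx.1 i)
    refine ⟨hx, fun i => ⟨?_, hok i⟩, ?_⟩
    · simpa [mem_pat] using (hv i).1
    · have : sqNorm x = 4 * ((∑ i, evenE (x i) : ℕ) : ℤ) := by
        rw [Nat.cast_sum, Finset.mul_sum]; exact Finset.sum_congr rfl fun i _ => (hv i).2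
      omega
  · rintro ⟨hx, hW, hE⟩
    refine ⟨hx, ?_, fun i => (hW i).2⟩
    rw [← hE, Nat.cast_sum, Finset.mul_sum]
    exact Finset.sum_congr rfl fun i _ => ((evenVals_sound _).2 _ (hW i).1).2.2

theorem shortPar_odd (ok : ℤ → Bool) (E : ℕ) (h64 : E ≤ 5) :
    shortPar 1 (8 * E + 24) ok = part 1 (fun _ b => (oddVals b).filter ok) oddE E := by
  ext x
  simp only [shortPar, part, Set.mem_setOf_eq, List.mem_filter]
  have hsum : ∀ y : Vec, (∀ i, y i ^ 2 = 8 * (oddE (y i) : ℤ) + 1) →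
      sqNorm y = 8 * ((∑ i, oddE (y i) : ℕ) : ℤ) + 24 := by
    intro y hy
    rw [sqNorm, Finset.sum_congr rfl fun i _ => hy i, Finset.sum_add_distrib, Nat.cast_sum, Finset.mul_sum]
    simp [card_pt]
  constructor
  · rintro ⟨hx, hn, hok⟩
    have hb := entry_bound (x := x) (by omega)
    have hv := fun i => oddVals_iff (x i) (Finset.mem_Icc.2 (hb i)) (hx.1 i)
    refine ⟨hx, fun i => ⟨?_, hok i⟩, ?_⟩
    · simpa [mem_pat] using (hv i).1
    · have := hsum x fun i => (hv i).2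
      omega
  · rintro ⟨hx, hW, hE⟩
    refine ⟨hx, ?_, fun i => (hW i).2⟩
    rw [hsum x fun i => ((oddVals_sound _).2 _ (hW i).1).2.2, hE]

theorem ncard_even (ok : ℤ → Bool) {N : ℤ} (E a b c d f : ℕ) (hN : N = 4 * E) (h64 : E ≤ 16)
    (h : [flatCnt (fun t => (evenVals t).filter ok) evenE E 0 0, flatCnt (fun t => (evenVals t).filter ok) evenE E 0 8,
      flatCnt (fun t => (evenVals t).filter ok) evenE E 0 12, flatCnt (fun t => (evenVals t).filter ok) evenE E 0 16,
      flatCnt (fun t => (evenVals t).filter ok) evenE E 0 24] = [a, b, c, d, f]) :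
    (shortPar 0 N ok).ncard = a + 759 * b + 2576 * c + 759 * d + f := by
  rw [hN, shortPar_even ok E h64]
  exact ncard_part_flat 0 rfl (fun t => (evenVals_sound t).1.filter _)
    (fun t v hv => ⟨((evenVals_sound t).2 v (List.mem_of_mem_filter hv)).1,
      ((evenVals_sound t).2 v (List.mem_of_mem_filter hv)).2.1⟩) h

theorem ncard_odd (ok : ℤ → Bool) {N : ℤ} (E a b c d f : ℕ) (hN : N = 8 * E + 24) (h64 : E ≤ 5)
    (h : [flatCnt (fun t => (oddVals t).filter ok) oddE E 4 0, flatCnt (fun t => (oddVals t).filter ok) oddE E 4 8,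
      flatCnt (fun t => (oddVals t).filter ok) oddE E 4 12, flatCnt (fun t => (oddVals t).filter ok) oddE E 4 16,
      flatCnt (fun t => (oddVals t).filter ok) oddE E 4 24] = [a, b, c, d, f]) :
    (shortPar 1 N ok).ncard = a + 759 * b + 2576 * c + 759 * d + f := by
  rw [hN, shortPar_odd ok E h64]
  exact ncard_part_flat 4 rfl (fun t => (oddVals_sound t).1.filter _)
    (fun t v hv => ⟨((oddVals_sound t).2 v (List.mem_of_mem_filter hv)).1,
      ((oddVals_sound t).2 v (List.mem_of_mem_filter hv)).2.1⟩) h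

theorem shortPar_finite (m N : ℤ) (ok : ℤ → Bool) (h : N ≤ 64) : (shortPar m N ok).Finite := by
  refine Set.Finite.subset (Set.Finite.pi' fun _ : GolayPt => Set.finite_Icc (-8 : ℤ) 8) ?_
  rintro x ⟨-, hn, -⟩ i
  exact entry_bound (x := x) (by omega) i

theorem shortSet_split (N : ℤ) (ok : ℤ → Bool) (h : N ≤ 64) :
    (shortSet N ok).ncard = (shortPar 0 N ok).ncard + (shortPar 1 N ok).ncard := by
  rw [← Set.ncard_union_eq ?_ (shortPar_finite 0 N ok h) (shortPar_finite 1 N ok h)]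
  · congr 1
    ext x
    constructor
    · rintro ⟨hx, hn, hok⟩
      rcases exists_witness hx with h' | h'
      exacts [Or.inl ⟨h', hn, hok⟩, Or.inr ⟨h', hn, hok⟩]
    · rintro (⟨hl, hn, hok⟩ | ⟨hl, hn, hok⟩) <;> exact ⟨(mem_leech_iff x).2 ⟨_, hl⟩, hn, hok⟩
  · rw [Set.disjoint_left]
    rintro x ⟨h0, -, -⟩ ⟨h1, -, -⟩
    have a := h0.1 none
    have b := h1.1 none
    omega

theorem short32 : (shortSet 32 fun _ => true).ncard = 196560 := by
  rw [shortSet_split _ _ (by norm_num),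
    ncard_even _ 8 1104 128 0 0 0 (by norm_num) (by norm_num) (by decide +kernel),
    ncard_odd _ 1 24 24 24 24 24 (by norm_num) (by norm_num) (by decide +kernel)]

theorem short48 : (shortSet 48 fun _ => true).ncard = 16773120 := by
  rw [shortSet_split _ _ (by norm_num),
    ncard_even _ 12 0 4096 2048 0 0 (by norm_num) (by norm_num) (by decide +kernel),
    ncard_odd _ 3 2048 2048 2048 2048 2048 (by norm_num) (by norm_num) (by decide +kernel)]

theorem short64 : (shortSet 64 fun _ => true).ncard = 398034000 := by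
  rw [shortSet_split _ _ (by norm_num),
    ncard_even _ 16 170064 62464 49152 32768 0 (by norm_num) (by norm_num) (by decide +kernel),
    ncard_odd _ 5 48576 48576 48576 48576 48576 (by norm_num) (by norm_num) (by decide +kernel)]

theorem setOf_norm_eq (N : ℤ) :
    {x : GolayPt → ℤ | x ∈ leechLattice ∧ sqNorm x = N} = shortSet N fun _ => true := by
  ext x; simp [shortSet]

end

end Cfsg.Agent.LeechCount
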