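import Mathlib.Data.Matrix.Mul
import Mathlib.LinearAlgebra.Matrix.Symmetric
import Mathlib.LinearAlgebra.Dimension.Constructions
import Mathlib.LinearAlgebra.FiniteDimensional.Basic
import Mathlib.Data.ZMod.Basic
import Mathlib.Tactic

/-!
Even integral forms without roots: congruence of short vectors modulo two.
-/

set_option autoImplicit false

namespace Cfsg.Agent.LeechCount

open Matrix

variable {n : ℕ} {B : Matrix (Fin n) (Fin n) ℤ}

/-- The bilinear value. -/
def bil (B : Matrix (Fin n) (Fin n) ℤ) (x y : Fin n → ℤ) : ℤ := x ⬝ᵥ (B *ᵥ y)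

theorem bil_symm (hs : B.IsSymm) (x y : Fin n → ℤ) : bil B x y = bil B y x := by
  rw [bil, bil, dotProduct_comm, Matrix.dotProduct_mulVec y B x, ← Matrix.mulVec_transpose, hs.eq]

theorem bil_add_right (x y z : Fin n → ℤ) : bil B x (y + z) = bil B x y + bil B x z := by
  simp [bil, Matrix.mulVec_add, dotProduct_add]

theorem bil_smul_right (c : ℤ) (x y : Fin n → ℤ) : bil B x (c • y) = c * bil B x y := by
  simp only [bil, Matrix.mulVec_smul, dotProduct_smul, smul_eq_mul]

theorem bil_smul_self (c : ℤ) (x : Fin n → ℤ) : bil B (c • x) (c • x) = c ^ 2 * bil B x x := by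
  simp only [bil, Matrix.mulVec_smul, dotProduct_smul, smul_dotProduct, smul_eq_mul]; ring

theorem bil_add_self (hs : B.IsSymm) (x y : Fin n → ℤ) :
    bil B (x + y) (x + y) = bil B x x + 2 * bil B x y + bil B y y := by
  have h := bil_symm hs y x
  simp only [bil] at h ⊢
  simp only [Matrix.mulVec_add, dotProduct_add, add_dotProduct]
  rw [h]; ring

theorem bil_sub_self (hs : B.IsSymm) (x y : Fin n → ℤ) :
    bil B (x - y) (x - y) = bil B x x - 2 * bil B x y + bil B y y := by
  have h := bil_symm hs y x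
  simp only [bil] at h ⊢
  simp only [Matrix.mulVec_sub, dotProduct_sub, sub_dotProduct]
  rw [h]; ring

theorem four_le_bil (hpos : ∀ x, x ≠ 0 → 0 < bil B x x) (heven : ∀ x, (2 : ℤ) ∣ bil B x x)
    (h2 : ∀ x, bil B x x ≠ 2) {x : Fin n → ℤ} (hx : x ≠ 0) : 4 ≤ bil B x x := by
  have := hpos x hx
  have := heven x
  have := h2 x
  omega

/-- Short vectors congruent modulo two are equal, opposite, or orthogonal of norm eight. -/
theorem cong_two (hs : B.IsSymm) (hpos : ∀ x, x ≠ 0 → 0 < bil B x x) (heven : ∀ x, (2 : ℤ) ∣ bil B x x)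
    (h2 : ∀ x, bil B x x ≠ 2) {x y : Fin n → ℤ} (hx : bil B x x ≤ 8) (hy : bil B y y ≤ 8)
    (hc : ∀ i, (2 : ℤ) ∣ (x - y) i) :
    y = x ∨ y = -x ∨ (bil B x x = 8 ∧ bil B y y = 8 ∧ bil B x y = 0) := by
  choose z hz using hc
  have ez : x - y = (2 : ℤ) • z := funext fun i => by rw [hz i]; simp
  have ew : x + y = (2 : ℤ) • (x - z) := funext fun i => by
    have := hz i
    simp only [Pi.sub_apply] at this
    simp only [Pi.add_apply, Pi.smul_apply, Pi.sub_apply, smul_eq_mul]; omega
  by_cases z0 : z = 0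
  · rw [z0, smul_zero] at ez
    exact Or.inl (sub_eq_zero.1 ez).symm
  by_cases w0 : x - z = 0
  · rw [w0, smul_zero] at ew
    exact Or.inr (Or.inl (eq_neg_of_add_eq_zero_right ew))
  have a := four_le_bil hpos heven h2 z0
  have b := four_le_bil hpos heven h2 w0
  have e1 := bil_sub_self hs x y
  have e2 := bil_add_self hs x y
  rw [ez, bil_smul_self] at e1
  rw [ew, bil_smul_self] at e2
  norm_num at e1 e2
  exact Or.inr (Or.inr ⟨by omega, by omega, by omega⟩)

/-- A family of pairwise orthogonal or opposite vectors of one positive norm has at most twice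
as many members as the dimension. -/
theorem card_orth_le {c : ℤ} (hc : c ≠ 0) (F : Finset (Fin n → ℤ)) (hn : ∀ x ∈ F, bil B x x = c)
    (hF : ∀ x ∈ F, ∀ y ∈ F, y = x ∨ y = -x ∨ bil B x y = 0) : F.card ≤ 2 * n := by
  classical
  let p : (Fin n → ℤ) → Finset (Fin n → ℤ) := fun v => {v, -v}
  have hsub : F.card ≤ 2 * (F.image p).card := by
    refine Finset.card_le_mul_card_image F 2 fun a ha => ?_
    obtain ⟨v, hv, rfl⟩ := Finset.mem_image.1 ha
    refine le_trans (Finset.card_le_card (t := p v) fun w hw => ?_) Finset.card_le_two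
    obtain ⟨-, hw⟩ := Finset.mem_filter.1 hw
    rw [← hw]; exact Finset.mem_insert_self _ _
  have hrep : ∀ a : ↥(F.image p), ∃ v ∈ F, p v = a := fun a => Finset.mem_image.1 a.2
  choose r hr hrp using hrep
  have hli : LinearIndependent ℤ r := by
    rw [Fintype.linearIndependent_iff]
    intro g hg a
    have hz : ∀ b, b ≠ a → bil B (r a) (r b) = 0 := by
      intro b hb
      rcases hF (r a) (hr a) (r b) (hr b) with h | h | h
      · exact absurd (Subtype.ext ((hrp b).symm.trans (by rw [h]; exact hrp a))) hb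
      · refine absurd (Subtype.ext ((hrp b).symm.trans ?_)) hb
        rw [h, ← hrp a]
        show ({-r a, - -r a} : Finset (Fin n → ℤ)) = {r a, -r a}
        rw [neg_neg, Finset.pair_comm]
      · exact h
    have h0 : bil B (r a) (∑ b, g b • r b) = 0 := by rw [hg]; simp [bil]
    have : bil B (r a) (∑ b, g b • r b) = ∑ b, g b * bil B (r a) (r b) := by
      simp only [bil, Matrix.mulVec_sum, dotProduct_sum, Matrix.mulVec_smul, dotProduct_smul, smul_eq_mul]
    rw [this, Finset.sum_eq_single a (fun b _ hb => by rw [hz b hb, mul_zero]) (by simp), hn _ (hr a)] at h0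
    exact (mul_eq_zero.1 h0).resolve_right hc
  have := hli.fintype_card_le_finrank
  rw [Fintype.card_coe, Module.finrank_fintype_fun_eq_card, Fintype.card_fin] at this
  omega

end Cfsg.Agent.LeechCount
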