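import Mathlib.Data.List.FinRange
import Mathlib.Data.List.OfFn
import Mathlib.Data.List.GetD
import Mathlib.Algebra.BigOperators.Fin
import Mathlib.Data.Fintype.BigOperators
import Mathlib.Data.Fintype.Pi
import Mathlib.Tactic

/-!
Counting tuples with entries in given lists by total energy and sum modulo eight.
-/

set_option autoImplicit false

namespace Cfsg.Agent.LeechCount

/-- Coded values: energy and residue modulo eight. -/
def cnt : List (List (ℕ × ℕ)) → ℕ → ℕ → ℕ
  | [], n, s => if n = 0 ∧ s = 0 then 1 else 0
  | V :: rest, n, s => (V.map fun p => if p.1 ≤ n then cnt rest (n - p.1) ((s + 8 - p.2 % 8) % 8) else 0).sum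

/-- Code of an integer value. -/
def code (e : ℤ → ℕ) (v : ℤ) : ℕ × ℕ := (e v, (v % 8).toNat)

/-- The tuples counted. -/
def solSet (e : ℤ → ℕ) {n : ℕ} (V : Fin n → List ℤ) (E s : ℕ) : Finset (Fin n → ℤ) :=
  (Fintype.piFinset fun i => (V i).toFinset).filter fun x =>
    (∑ i, e (x i)) = E ∧ (∑ i, x i) % 8 = (s : ℤ)

theorem mem_solSet {e : ℤ → ℕ} {n : ℕ} {V : Fin n → List ℤ} {E s : ℕ} {x : Fin n → ℤ} :
    x ∈ solSet e V E s ↔ (∀ i, x i ∈ V i) ∧ (∑ i, e (x i)) = E ∧ (∑ i, x i) % 8 = (s : ℤ) := by
  simp [solSet]

theorem card_solSet (e : ℤ → ℕ) : ∀ {n : ℕ} (V : Fin n → List ℤ), (∀ i, (V i).Nodup) →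
    ∀ E s : ℕ, s < 8 → (solSet e V E s).card = cnt (List.ofFn fun i => (V i).map (code e)) E s
  | 0, V, _, E, s, hs => by
      rw [List.ofFn_zero, cnt]
      by_cases h : E = 0 ∧ s = 0
      · rw [if_pos h, Finset.card_eq_one]
        refine ⟨Fin.elim0, Finset.ext fun x => ?_⟩
        rw [mem_solSet, Finset.mem_singleton]
        refine ⟨fun _ => Subsingleton.elim _ _, fun _ => ⟨fun i => i.elim0, by simp [h.1], by simp [h.2]⟩⟩
      · rw [if_neg h, Finset.card_eq_zero, Finset.eq_empty_iff_forall_notMem]
        intro x hx
        obtain ⟨-, h1, h2⟩ := mem_solSet.1 hx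
        simp at h1 h2
        exact h ⟨h1.symm, by omega⟩
  | n + 1, V, hV, E, s, hs => by
      classical
      rw [List.ofFn_succ, cnt, List.map_map, ← List.sum_toFinset _ (hV 0)]
      have hunion : solSet e V E s = (V 0).toFinset.biUnion fun v =>
          ((solSet e (fun i => V i.succ) (E - e v) (((s : ℤ) - v) % 8).toNat).filter fun _ => e v ≤ E).image
            (Fin.cons v) := by
        ext x
        simp only [Finset.mem_biUnion, Finset.mem_image, Finset.mem_filter, mem_solSet, List.mem_toFinset]
        constructor
        · rintro ⟨hx, h1, h2⟩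
          rw [Fin.sum_univ_succ] at h1 h2
          refine ⟨x 0, hx 0, Fin.tail x, ⟨⟨fun i => hx i.succ, ?_, ?_⟩, by omega⟩, Fin.cons_self_tail x⟩
          · show ∑ i : Fin n, e (x i.succ) = _
            omega
          · show (∑ i : Fin n, x i.succ) % 8 = _
            rw [Int.toNat_of_nonneg (Int.emod_nonneg _ (by norm_num)), ← h2]
            omega
        · rintro ⟨v, hv, y, ⟨⟨hy, h1, h2⟩, hle⟩, rfl⟩
          refine ⟨fun i => Fin.cases (by simpa using hv) (fun j => by simpa using hy j) i, ?_, ?_⟩
          · rw [Fin.sum_univ_succ]; simp only [Fin.cons_zero, Fin.cons_succ]; omega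
          · rw [Fin.sum_univ_succ]
            simp only [Fin.cons_zero, Fin.cons_succ]
            rw [Int.toNat_of_nonneg (Int.emod_nonneg _ (by norm_num))] at h2
            omega
      rw [hunion, Finset.card_biUnion]
      · refine Finset.sum_congr rfl fun v _ => ?_
        rw [Finset.card_image_of_injective _ (Fin.cons_right_injective (α := fun _ => ℤ) v)]
        simp only [Function.comp, code]
        by_cases hle : e v ≤ E
        · rw [Finset.filter_true_of_mem fun _ _ => hle,
            card_solSet e (fun i => V i.succ) (fun i => hV i.succ) _ _ (by omega)]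
          simp only [hle, ↓reduceIte]
          congr 1
          omega
        · rw [Finset.filter_false_of_mem fun _ _ => hle, Finset.card_empty]
          simp only [hle, ↓reduceIte]
      · intro v _ w _ hne
        rw [Function.onFun, Finset.disjoint_left]
        intro x hx hx'
        obtain ⟨a, -, rfl⟩ := Finset.mem_image.1 hx
        obtain ⟨b, -, hb⟩ := Finset.mem_image.1 hx'
        exact hne (by have := congrFun hb 0; simpa using this.symm)

theorem cnt_perm {l l' : List (List (ℕ × ℕ))} (h : l.Perm l') : ∀ n s, cnt l n s = cnt l' n s := by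
  induction h with
  | nil => intros; rfl
  | cons a _ ih => intro n s; simp only [cnt, ih]
  | trans _ _ ih1 ih2 => intro n s; rw [ih1, ih2]
  | swap a b l =>
    intro n s
    simp only [cnt]
    induction b with
    | nil => simp
    | cons p b ih =>
      rw [List.map_cons, List.sum_cons, ih]
      have : ∀ q : ℕ × ℕ, (if q.1 ≤ n then
            (List.map (fun r => if r.1 ≤ n - q.1 then cnt l (n - q.1 - r.1) (((s + 8 - q.2 % 8) % 8 + 8 - r.2 % 8) % 8) else 0)
              (p :: b)).sum else 0) =
          (if q.1 ≤ n then (if p.1 ≤ n - q.1 then cnt l (n - q.1 - p.1) (((s + 8 - q.2 % 8) % 8 + 8 - p.2 % 8) % 8) else 0) else 0) +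
          (if q.1 ≤ n then
            (List.map (fun r => if r.1 ≤ n - q.1 then cnt l (n - q.1 - r.1) (((s + 8 - q.2 % 8) % 8 + 8 - r.2 % 8) % 8) else 0)
              b).sum else 0) := by
        intro q; split <;> simp
      simp only [this, List.sum_map_add]
      congr 1
      clear ih this
      induction a with
      | nil => simp
      | cons q a iha =>
        simp only [List.map_cons, List.sum_cons, ← iha]
        by_cases hp : p.1 ≤ n
        · simp only [if_pos hp]
          congr 1
          by_cases hq : q.1 ≤ n
          · by_cases hpq : p.1 + q.1 ≤ n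
            · rw [if_pos (by omega), if_pos hq, if_pos (by omega)]
              congr 1 <;> omega
            · rw [if_neg (by omega), if_pos hq, if_neg (by omega)]
          · rw [if_neg (by omega), if_neg hq]
        · simp only [if_neg hp]
          by_cases hq : q.1 ≤ n
          · rw [if_pos hq, if_neg (by omega)]
          · rw [if_neg hq]

/-- One level of the table, indexed by eight times the energy plus the residue. -/
def nextTab (E : ℕ) (V : List (ℕ × ℕ)) (t : List ℕ) : List ℕ :=
  (List.range (8 * (E + 1))).map fun k =>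
    (V.map fun p => if Nat.ble p.1 (k / 8) then t.getD (8 * (k / 8 - p.1) + (k % 8 + 8 - p.2 % 8) % 8) 0 else 0).sum

/-- The whole table. -/
def cntTab (E : ℕ) : List (List (ℕ × ℕ)) → List ℕ
  | [] => (List.range (8 * (E + 1))).map fun k => if Nat.beq k 0 then 1 else 0
  | V :: rest => nextTab E V (cntTab E rest)

theorem cntTab_spec (E : ℕ) : ∀ (l : List (List (ℕ × ℕ))) (n s : ℕ), n ≤ E → s < 8 →
    (cntTab E l).getD (8 * n + s) 0 = cnt l n s
  | [], n, s, hn, hs => by
      rw [cntTab, List.getD_eq_getElem _ _ (by simp; omega)]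
      simp only [List.getElem_map, List.getElem_range, cnt]
      by_cases h : n = 0 ∧ s = 0
      · obtain ⟨rfl, rfl⟩ := h; simp
      · rw [if_neg h, if_neg]
        intro hb
        have := Nat.eq_of_beq_eq_true hb
        omega
  | V :: rest, n, s, hn, hs => by
      rw [cntTab, nextTab, List.getD_eq_getElem _ _ (by simp; omega)]
      simp only [List.getElem_map, List.getElem_range, cnt]
      refine congrArg List.sum (List.map_congr_left fun p _ => ?_)
      rw [show (8 * n + s) / 8 = n by omega, show (8 * n + s) % 8 = s by omega]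
      simp only [Nat.ble_eq]
      split
      · exact cntTab_spec E rest _ _ (by omega) (Nat.mod_lt _ (by norm_num))
      · rfl

end Cfsg.Agent.LeechCount
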