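import Mathlib

/-!
Simplicity of a transitive group with simple point stabiliser.
-/

set_option autoImplicit false

namespace Cfsg.Agent.LeechCount

open MulAction
open scoped Pointwise

/-- A transitive group with simple point stabiliser is simple, if only trivial unions of suborbits have
size dividing the degree, and some prime meets the stabiliser but no two point stabiliser while an
incompatible prime power part of the degree rules out a regular normal subgroup. -/
theorem isSimpleGroup_of_stab {G α : Type*} [Group G] [Finite G] [MulAction G α] [Finite α]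
    [IsPretransitive G α] (a : α) (hH : IsSimpleGroup ↥(stabilizer G a)) {ℓ p k m : ℕ} (hℓ : ℓ.Prime)
    (hp : p.Prime) (hn : Nat.card α = p ^ k * m) (hm : ¬ p ∣ m) (h1 : 1 < Nat.card α)
    (hℓn : ¬ ℓ ∣ Nat.card α) (hℓH : ℓ ∣ Nat.card ↥(stabilizer G a))
    (hpair : ∀ b, b ≠ a → ¬ ℓ ∣ Nat.card ↥(stabilizer G a ⊓ stabilizer G b))
    (hpk : p ^ k % ℓ ≠ 1)
    (hblock : ∀ O : Set α, a ∈ O → (∀ h ∈ stabilizer G a, ∀ b ∈ O, h • b ∈ O) → O.ncard ∣ Nat.card α →
      O = {a} ∨ O = Set.univ) : IsSimpleGroup G := by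
  haveI : Fact ℓ.Prime := ⟨hℓ⟩
  haveI : Fact p.Prime := ⟨hp⟩
  haveI : Nontrivial G := by
    haveI : Nontrivial α := Finite.one_lt_card_iff_nontrivial.1 h1
    obtain ⟨b, hb⟩ := exists_ne a
    obtain ⟨g, hg⟩ := exists_smul_eq G a b
    exact ⟨g, 1, fun e => hb (by rw [← hg, e, one_smul])⟩
  refine ⟨fun N hN => ?_⟩
  haveI := hN
  by_cases hN0 : N = ⊥
  · exact Or.inl hN0
  right
  have hcut := hH.eq_bot_or_eq_top_of_normal (N.subgroupOf (stabilizer G a)) inferInstance
  have hnt : orbit N a ≠ {a} := by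
    intro horb
    have hfix : ∀ n ∈ N, ∀ b : α, n • b = b := fun n hn b => by
      obtain ⟨g, rfl⟩ := exists_smul_eq G a b
      have hc : g⁻¹ * n * g ∈ N := by
        have := hN.conj_mem n hn g⁻¹; rwa [inv_inv] at this
      have ha : (g⁻¹ * n * g) • a = a := by
        have : (⟨_, hc⟩ : N) • a ∈ orbit N a := mem_orbit a _
        rw [horb] at this; exact this
      rw [mul_smul, mul_smul, inv_smul_eq_iff] at ha
      exact ha
    rcases hcut with h | h
    · apply hN0
      rw [Subgroup.eq_bot_iff_forall]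
      intro n hn
      exact (Subgroup.eq_bot_iff_forall _).1 (disjoint_iff.1 (Subgroup.subgroupOf_eq_bot.1 h)) n
        ⟨hn, mem_stabilizer_iff.2 (hfix n hn a)⟩
    · haveI : Nontrivial α := Finite.one_lt_card_iff_nontrivial.1 h1
      obtain ⟨b, hb⟩ := exists_ne a
      refine hpair b hb ?_
      rw [show stabilizer G a ⊓ stabilizer G b = stabilizer G a from
        inf_eq_left.2 fun g hg => mem_stabilizer_iff.2 (hfix g (Subgroup.subgroupOf_eq_top.1 h hg) b)]
      exact hℓH
  have hinv : ∀ h ∈ stabilizer G a, ∀ b ∈ orbit N a, h • b ∈ orbit N a := by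
    intro h hh b hb
    obtain ⟨n, rfl⟩ := hb
    refine ⟨⟨h * n * h⁻¹, hN.conj_mem _ n.2 h⟩, ?_⟩
    show (h * (n : G) * h⁻¹) • a = h • ((n : G) • a)
    rw [mul_smul, mul_smul, inv_smul_eq_iff.2 (mem_stabilizer_iff.1 hh).symm]
  have horb : orbit N a = Set.univ := by
    rcases hblock (orbit N a) (mem_orbit_self a) hinv
      (IsBlock.ncard_dvd_card (IsBlock.orbit_of_normal (N := N) a) ⟨a, mem_orbit_self a⟩) with h | h
    · exact absurd h hnt
    · exact h
  rcases hcut with hS | hS
  · exfalso
    have hreg : ∀ n ∈ N, n • a = a → n = 1 := fun n hn h =>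
      (Subgroup.eq_bot_iff_forall _).1 (disjoint_iff.1 (Subgroup.subgroupOf_eq_bot.1 hS)) n
        ⟨hn, mem_stabilizer_iff.2 h⟩
    have hregall : ∀ n ∈ N, ∀ c : α, n • c = c → n = 1 := fun n hn c hc => by
      obtain ⟨g, rfl⟩ := exists_smul_eq G a c
      have hc' : g⁻¹ * n * g ∈ N := by have := hN.conj_mem n hn g⁻¹; rwa [inv_inv] at this
      have := hreg _ hc' (by rw [mul_smul, mul_smul, inv_smul_eq_iff]; exact hc)
      rwa [mul_eq_one_iff_eq_inv, inv_mul_eq_iff_eq_mul, mul_inv_cancel] at this
    have hNcard : Nat.card N = Nat.card α := by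
      have hst : stabilizer N a = ⊥ := by
        rw [Subgroup.eq_bot_iff_forall]
        exact fun n hn => Subtype.ext (hreg n n.2 hn)
      rw [← Set.ncard_univ α, ← horb, ← index_stabilizer N a, hst, Subgroup.index_bot]
    obtain ⟨P⟩ : Nonempty (Sylow p N) := inferInstance
    have hPcard : Nat.card P = p ^ k := by
      have h := Sylow.card_eq_multiplicity P
      rw [hNcard, hn] at h
      have hm0 : m ≠ 0 := fun e => hm (e ▸ dvd_zero p)
      rw [Nat.factorization_mul (pow_ne_zero k hp.ne_zero) hm0, Finsupp.add_apply,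
        hp.factorization_pow, Finsupp.single_eq_same, Nat.factorization_eq_zero_of_not_dvd hm, add_zero] at h
      exact h
    set K : Subgroup G := Subgroup.normalizer (((P : Subgroup N).map N.subtype : Subgroup G) : Set G) with hK
    have hsup : K ⊔ N = ⊤ := Sylow.normalizer_sup_eq_top P
    have hKdvd : ℓ ∣ Nat.card K := by
      have h2 := Subgroup.card_mul_index N
      have h3 : N.index ∣ Nat.card K := by
        have : N.relIndex (K ⊔ N) = N.relIndex K := Subgroup.relIndex_sup_right (K := N) (H := K)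
        rw [hsup, Subgroup.relIndex_top_right] at this
        rw [this]; exact Subgroup.relIndex_dvd_card N K
      have h4 : ℓ ∣ Nat.card G := hℓH.trans (Subgroup.card_subgroup_dvd_card _)
      rw [← h2] at h4
      rcases hℓ.dvd_mul.1 h4 with h5 | h5
      · exact absurd (hNcard ▸ h5) hℓn
      · exact h5.trans h3
    obtain ⟨⟨x, hxK⟩, hx⟩ := exists_prime_orderOf_dvd_card' (G := K) ℓ hKdvd
    rw [Subgroup.orderOf_mk] at hx
    have hZ : IsPGroup ℓ (Subgroup.zpowers x) := IsPGroup.of_card (n := 1) (by rw [Nat.card_zpowers, hx, pow_one])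
    have huniq : ∀ c c' : α, x • c = c → x • c' = c' → c = c' := by
      intro c c' hc hc'
      by_contra hne
      obtain ⟨g, rfl⟩ := exists_smul_eq G a c
      refine hpair (g⁻¹ • c') (fun e => hne (by rw [inv_smul_eq_iff] at e; exact e.symm)) ?_
      have hmem : g⁻¹ * x * g ∈ stabilizer G a ⊓ stabilizer G (g⁻¹ • c') := by
        refine ⟨mem_stabilizer_iff.2 ?_, mem_stabilizer_iff.2 ?_⟩
        · rw [mul_smul, mul_smul, hc, inv_smul_smul]
        · rw [mul_smul, mul_smul, smul_inv_smul, hc']
      have ho : orderOf (g⁻¹ * x * g) = ℓ := by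
        rw [← hx]
        conv_rhs => rw [← MulEquiv.orderOf_eq (MulAut.conj g⁻¹) x]
        simp [MulAut.conj_apply]
      rw [← ho, ← Subgroup.orderOf_mk _ hmem]
      exact orderOf_dvd_natCard _
    have hfix : ∃ c : α, x • c = c := by
      have h := hZ.card_modEq_card_fixedPoints α
      by_contra hne
      push Not at hne
      have : IsEmpty (fixedPoints (Subgroup.zpowers x) α) :=
        ⟨fun c => hne c.1 (c.2 ⟨x, Subgroup.mem_zpowers x⟩)⟩
      rw [Nat.card_of_isEmpty (α := fixedPoints (Subgroup.zpowers x) α)] at h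
      exact hℓn ((Nat.modEq_zero_iff_dvd).1 h)
    obtain ⟨c, hc⟩ := hfix
    set Q : Subgroup G := (P : Subgroup N).map N.subtype with hQ
    have hconj : ∀ z : Subgroup.zpowers x, ∀ y ∈ Q, (z : G) * y * (z : G)⁻¹ ∈ Q := fun z y hy =>
      (Subgroup.mem_normalizer_iff.1 ((Subgroup.zpowers_le.2 hxK) z.2) y).1 hy
    letI : MulAction (Subgroup.zpowers x) Q :=
      { smul := fun z y => ⟨(z : G) * y * (z : G)⁻¹, hconj z y y.2⟩
        one_smul := fun y => Subtype.ext (show ((1 : Subgroup.zpowers x) : G) * y * ((1 : Subgroup.zpowers x) : G)⁻¹ = y by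
          simp)
        mul_smul := fun z w y => Subtype.ext (show ((z * w : Subgroup.zpowers x) : G) * y * ((z * w : Subgroup.zpowers x) : G)⁻¹ =
            (z : G) * ((w : G) * y * (w : G)⁻¹) * (z : G)⁻¹ by simp [mul_assoc]) }
    have hcard := hZ.card_modEq_card_fixedPoints (p := ℓ) Q
    have hone : fixedPoints (Subgroup.zpowers x) Q = {1} := by
      ext y
      constructor
      · intro hy
        have h := congrArg (fun z : Q => (z : G)) (hy ⟨x, Subgroup.mem_zpowers x⟩)
        change x * (y : G) * x⁻¹ = (y : G) at h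
        rw [mul_inv_eq_iff_eq_mul] at h
        have hyN : (y : G) ∈ N := by
          obtain ⟨z, -, hz⟩ := Subgroup.mem_map.1 y.2
          rw [← hz]; exact z.2
        exact Set.mem_singleton_iff.2 (Subtype.ext (hregall _ hyN c
          (huniq _ _ (by rw [← mul_smul, h, mul_smul, hc]) hc)))
      · rintro rfl
        exact fun z => Subtype.ext (show (z : G) * ((1 : Q) : G) * (z : G)⁻¹ = ((1 : Q) : G) by simp)
    rw [hone, Nat.card_coe_set_eq, Set.ncard_singleton, hQ,
      Subgroup.card_map_of_injective N.subtype_injective, hPcard] at hcard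
    apply hpk
    rw [hcard, Nat.one_mod_eq_one.2 hℓ.one_lt.ne']
  · rw [eq_top_iff]
    intro g _
    have : g • a ∈ orbit N a := by rw [horb]; exact Set.mem_univ _
    obtain ⟨n, hn⟩ := this
    have hst : (n : G)⁻¹ * g ∈ stabilizer G a := by
      rw [mem_stabilizer_iff, mul_smul, ← hn]
      exact inv_smul_smul (n : G) a
    have := N.mul_mem n.2 (Subgroup.subgroupOf_eq_top.1 hS hst)
    simpa using this

end Cfsg.Agent.LeechCount
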