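import Cfsg.Agent.Lib.LeechCount.HSData
import Cfsg.Agent.Lib.LeechCount.SimpleAct
import Cfsg.Agent.Lib.LeechCount.Order
import Cfsg.Prelude.Def_Sporadic

/-!
Orders of vector stabilisers, and the simple group of the Higman-Sims configuration.
-/

set_option autoImplicit false

namespace Cfsg.Agent.LeechCount

open Cfsg Cfsg.Agent.Leech MulAction

noncomputable section

attribute [local irreducible] normFS

theorem smul_eq_iff_ap (g : ↥Co0) (v w : ↥leechLattice) : g • v = w ↔ ap g (v : Vec) = w := by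
  rw [ap_coe]; exact ⟨fun h => congrArg Subtype.val h, fun h => Subtype.ext h⟩

theorem card_stab32 (v : ↥leechLattice) (hv : sqNorm (v : Vec) = 32) :
    Nat.card ↥(stabilizer ↥Co0 v) = 42305421312000 := by
  have h := Subgroup.card_mul_index (stabilizer ↥Co0 v)
  have horb : orbit ↥Co0 v = {w : ↥leechLattice | sqNorm (w : Vec) = 32} := by
    ext w
    constructor
    · rintro ⟨g, rfl⟩
      show sqNorm ((g • v : ↥leechLattice) : Vec) = 32
      rw [co0_smul_norm]; exact hv
    · intro hw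
      obtain ⟨g, hg⟩ := coEq_of_norm32 v.2 w.2 hv hw
      exact ⟨g, (smul_eq_iff_ap g v w).2 hg⟩
  have hi : (stabilizer ↥Co0 v).index = 196560 := by
    rw [index_stabilizer, horb, ← short32, ← setOf_norm_eq 32, ← Set.ncard_image_of_injective _ Subtype.val_injective]
    congr 1
    ext x
    exact ⟨fun ⟨v, hv, e⟩ => e ▸ ⟨v.2, hv⟩, fun hx => ⟨⟨x, hx.1⟩, hx.2, rfl⟩⟩
  rw [hi, co0_card] at h
  omega

theorem card_stab48 (v : ↥leechLattice) (hv : sqNorm (v : Vec) = 48) :
    Nat.card ↥(stabilizer ↥Co0 v) = 495766656000 := by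
  have h := Subgroup.card_mul_index (stabilizer ↥Co0 v)
  have horb : orbit ↥Co0 v = {w : ↥leechLattice | sqNorm (w : Vec) = 48} := by
    ext w
    constructor
    · rintro ⟨g, rfl⟩
      show sqNorm ((g • v : ↥leechLattice) : Vec) = 48
      rw [co0_smul_norm]; exact hv
    · intro hw
      obtain ⟨g, hg⟩ := (coEq48 v.2 hv).trans v.2 ((coEq48 w.2 hw).symm w.2)
      exact ⟨g, (smul_eq_iff_ap g v w).2 hg⟩
  have hi : (stabilizer ↥Co0 v).index = 16773120 := by
    rw [index_stabilizer, horb, ← short48, ← setOf_norm_eq 48, ← Set.ncard_image_of_injective _ Subtype.val_injective]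
    congr 1
    ext x
    exact ⟨fun ⟨v, hv, e⟩ => e ▸ ⟨v.2, hv⟩, fun hx => ⟨⟨x, hx.1⟩, hx.2, rfl⟩⟩
  rw [hi, co0_card] at h
  omega

theorem dot_of_fix (g : ↥Co0) {u x : ↥leechLattice} (h : g • u = u) :
    dotInt (u : Vec) ((g • x : ↥leechLattice) : Vec) = dotInt (u : Vec) x := by
  conv_lhs => rw [← h, co0_smul_dot]

instance co0Finite : Finite ↥Co0 := Nat.finite_of_card_ne_zero (by rw [co0_card]; norm_num)

/-- Cardinality of a stabiliser intersection from the size of the orbit. -/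
theorem card_inf_stab {G β : Type*} [Group G] [Finite G] [MulAction G β] (K : Subgroup G) (x : β) (n : ℕ)
    (hn : (orbit ↥K x).ncard = n) : n * Nat.card ↥(K ⊓ stabilizer G x) = Nat.card K := by
  have h := Subgroup.card_mul_index (stabilizer ↥K x)
  rw [index_stabilizer, hn] at h
  have e : stabilizer ↥K x = (K ⊓ stabilizer G x).subgroupOf K := by
    ext g
    simp [Subgroup.mem_subgroupOf, mem_stabilizer_iff, Subgroup.smul_def]
  rw [e, Nat.card_congr (Subgroup.subgroupOfEquivOfLe (inf_le_left (a := K) (b := stabilizer G x))).toEquiv] at h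
  rw [← h, mul_comm]

theorem card_hs {u X : ↥leechLattice} (hu : sqNorm (u : Vec) = 48) (hX : sqNorm (X : Vec) = 32)
    (hd : dotInt (X : Vec) u = -16) : Nat.card ↥(stabilizer ↥Co0 u ⊓ stabilizer ↥Co0 X) = 44352000 := by
  have horb : (orbit ↥(stabilizer ↥Co0 u) X).ncard = 11178 := by
    rw [← card_11178 u.2 hu, ← Set.ncard_image_of_injective _ Subtype.val_injective, ← Set.ncard_coe_finset]
    congr 1
    ext x
    simp only [Set.mem_image, Finset.mem_coe, mem_dotFS]
    constructor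
    · rintro ⟨y, ⟨g, rfl⟩, rfl⟩
      have hg : (g : ↥Co0) • u = u := g.2
      refine ⟨⟨(g • X).2, by show sqNorm (((g : ↥Co0) • X : ↥leechLattice) : Vec) = 32; rw [co0_smul_norm, hX]⟩, ?_⟩
      show dotInt (u : Vec) (((g : ↥Co0) • X : ↥leechLattice) : Vec) = -16
      rw [dot_of_fix _ hg, dot_comm, hd]
    · rintro ⟨⟨hx, hxn⟩, hxd⟩
      obtain ⟨g, g1, g2⟩ := coPair_subtype (v := X) (w := u) (v' := ⟨x, hx⟩) (w' := u)
        (coPair_six X.2 hX u.2 hu hd hx hxn u.2 hu (by rw [dot_comm]; exact hxd))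
      exact ⟨⟨x, hx⟩, ⟨⟨g, g2⟩, g1⟩, rfl⟩
  have h := card_inf_stab (stabilizer ↥Co0 u) X _ horb
  rw [card_stab48 u hu] at h
  omega

/-- The points of a configuration, as lattice vectors. -/
abbrev HSPts (u X : ↥leechLattice) : Type := {z : ↥leechLattice // (z : Vec) ∈ hsFS u X}

instance hsAction (u X : ↥leechLattice) :
    MulAction ↥(stabilizer ↥Co0 u ⊓ stabilizer ↥Co0 X) (HSPts u X) where
  smul g z := ⟨(g : ↥Co0) • z.1, by
    obtain ⟨⟨h1, h2⟩, h3, h4⟩ := mem_twoFS.1 z.2
    refine mem_twoFS.2 ⟨⟨SetLike.coe_mem _, by rw [co0_smul_norm, h2]⟩, ?_, ?_⟩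
    · rw [dot_of_fix _ (show (g : ↥Co0) • u = u from g.2.1), h3]
    · rw [dot_of_fix _ (show (g : ↥Co0) • X = X from g.2.2), h4]⟩
  one_smul z := Subtype.ext (one_smul _ z.1)
  mul_smul g h z := Subtype.ext (mul_smul (g : ↥Co0) (h : ↥Co0) z.1)

theorem hs_smul_val {u X : ↥leechLattice} (g : ↥(stabilizer ↥Co0 u ⊓ stabilizer ↥Co0 X)) (z : HSPts u X) :
    (g • z).1 = (g : ↥Co0) • z.1 := rfl

theorem frame_of_point {u X : ↥leechLattice} (hu : sqNorm (u : Vec) = 48) (hX : sqNorm (X : Vec) = 32)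
    (hd : dotInt (X : Vec) u = -16) (z : HSPts u X) : HSFrame u X (z.1 : Vec) := by
  obtain ⟨⟨h1, h2⟩, h3, h4⟩ := mem_twoFS.1 z.2
  exact ⟨u.2, hu, X.2, hX, hd, z.1.2, h2, h4, h3⟩

theorem M22_stab_simple {p q : GolayPt} (h : p ≠ q) :
    IsSimpleGroup ↥(stabilizer ↥M24 p ⊓ stabilizer ↥M24 q) ∧
      Nat.card ↥(stabilizer ↥M24 p ⊓ stabilizer ↥M24 q) = 443520 := by
  obtain ⟨e⟩ := Golay24.stab_two_equiv p q h
  haveI := Golay24.M22_simple
  exact ⟨e.isSimpleGroup, by rw [Nat.card_congr e.toEquiv, Golay24.card_M22]⟩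

theorem point_stab_simple {u X : ↥leechLattice} (hu : sqNorm (u : Vec) = 48) (hX : sqNorm (X : Vec) = 32)
    (hd : dotInt (X : Vec) u = -16) (z : HSPts u X)
    (hcard : Nat.card ↥(stabilizer ↥(stabilizer ↥Co0 u ⊓ stabilizer ↥Co0 X) z) = 443520) :
    IsSimpleGroup ↥(stabilizer ↥(stabilizer ↥Co0 u ⊓ stabilizer ↥Co0 X) z) := by
  classical
  obtain ⟨g, g1, g2, g3, g4⟩ := (frame_of_point hu hX hd z).read
  set H := stabilizer ↥(stabilizer ↥Co0 u ⊓ stabilizer ↥Co0 X) z with hH
  have hfix : ∀ h : ↥H, ap ((h : ↥(stabilizer ↥Co0 u ⊓ stabilizer ↥Co0 X)) : ↥Co0) u = (u : Vec) ∧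
      ap ((h : ↥(stabilizer ↥Co0 u ⊓ stabilizer ↥Co0 X)) : ↥Co0) X = (X : Vec) ∧
      ap ((h : ↥(stabilizer ↥Co0 u ⊓ stabilizer ↥Co0 X)) : ↥Co0) z.1 = (z.1 : Vec) := fun h => by
    have hz := congrArg Subtype.val (mem_stabilizer_iff.1 h.2)
    rw [hs_smul_val] at hz
    exact ⟨(smul_eq_iff_ap _ u u).1 h.1.2.1, (smul_eq_iff_ap _ X X).1 h.1.2.2, (smul_eq_iff_ap _ z.1 z.1).1 hz⟩
  let c : ↥H →* ↥Co0 := ((MulAut.conj g).toMonoidHom.comp (Subgroup.subtype _)).comp H.subtype
  have hc : ∀ (h : ↥H) (v : Vec), v ∈ leechLattice →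
      ap ((h : ↥(stabilizer ↥Co0 u ⊓ stabilizer ↥Co0 X)) : ↥Co0) v = v → ap (c h) (ap g v) = ap g v := by
    intro h v hv e
    show ap (g * ((h : ↥(stabilizer ↥Co0 u ⊓ stabilizer ↥Co0 X)) : ↥Co0) * g⁻¹) (ap g v) = _
    rw [ap_mul _ _ (ap_mem g hv), ap_inv_ap g hv, ap_mul _ _ hv, e]
  have he : ∀ h : ↥H, ap (c h) (e8 fP) = e8 fP ∧ ap (c h) (e8 fQ) = e8 fQ := fun h => by
    have a := hc h _ X.2 (hfix h).2.1
    have b := hc h _ z.1.2 (hfix h).2.2
    rw [g1] at a
    rw [g2] at b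
    have s1 : e8 fP = e44 fP fQ + d44 fP fQ := funext fun i => by
      simp only [e8, e44, d44, Pi.add_apply]
      by_cases h1 : i = fP
      · subst h1; simp
      · by_cases h2 : i = fQ
        · subst h2; simp
        · simp [h1, h2]
    have s2 : e8 fQ = e44 fP fQ - d44 fP fQ := funext fun i => by
      simp only [e8, e44, d44, Pi.sub_apply]
      by_cases h1 : i = fP
      · subst h1; simp
      · by_cases h2 : i = fQ
        · subst h2; simp
        · simp [h1, h2]
    exact ⟨by rw [s1, ap_add _ (e44_mem fP_ne_fQ) (d44_mem fP_ne_fQ), a, b],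
      by rw [s2, ap_sub _ (e44_mem fP_ne_fQ) (d44_mem fP_ne_fQ), a, b]⟩
  have hmem : ∀ h : ↥H, c h ∈ frame := fun h => by
    rw [mem_frame]
    show Cong (ap (c h) (e8 fP)) (e8 fP)
    rw [(he h).1]
    exact Cong.refl _
  let φ : ↥H →* ↥M24 := frameHom.comp (c.codRestrict frame hmem)
  have hmono : ∀ h : ↥H, ∃ S, InC S ∧ ∀ x ∈ leechLattice, ap (c h) x = mono (φ h : Equiv.Perm GolayPt) S x :=
    fun h => frameHom_spec ⟨c h, hmem h⟩
  have hin : ∀ h : ↥H, φ h ∈ stabilizer ↥M24 fP ⊓ stabilizer ↥M24 fQ := fun h => by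
    obtain ⟨S, -, hS⟩ := hmono h
    have key : ∀ p, ap (c h) (e8 p) = e8 p → (φ h : Equiv.Perm GolayPt) p = p := fun p hp => by
      have := congrFun ((hS _ (e8_mem p)).symm.trans hp) ((φ h : Equiv.Perm GolayPt) p)
      simp only [mono, Equiv.symm_apply_apply, e8, if_true] at this
      by_contra hne
      rw [if_neg hne] at this
      split at this <;> omega
    exact ⟨key _ (he h).1, key _ (he h).2⟩
  have hinj : Function.Injective φ := by
    rw [injective_iff_map_eq_one]
    intro h hh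
    obtain ⟨S, hS, hSm⟩ := hmono h
    have hu' := hc h _ u.2 (hfix h).1
    rw [hSm _ (ap_mem g u.2), hh] at hu'
    have hodd : ∀ i, ¬ (2 : ℤ) ∣ ap g (u : Vec) i := fun i => by
      have h1 : LatM 1 (ap g (u : Vec)) := latM_of_mem (ap_mem g u.2) (i := fP) (m := 1) (by rw [g3]; norm_num)
      have := h1.1 i
      omega
    have hS0 : ∀ i, i ∉ S := fun i hi => by
      have h2 := congrFun hu' i
      simp [mono, hi, Equiv.Perm.one_def] at h2
      exact hodd i ⟨0, by omega⟩
    have hc1 : c h = 1 := ext_ap fun x hx => by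
      rw [hSm x hx, hh, ap_one]
      funext i
      simp [mono, hS0 i, Equiv.Perm.one_def]
    have : g * ((h : ↥(stabilizer ↥Co0 u ⊓ stabilizer ↥Co0 X)) : ↥Co0) * g⁻¹ = 1 := hc1
    rw [conj_eq_one_iff] at this
    exact Subtype.ext (Subtype.ext this)
  obtain ⟨hsimp, hM⟩ := M22_stab_simple fP_ne_fQ
  let ψ : ↥H →* ↥(stabilizer ↥M24 fP ⊓ stabilizer ↥M24 fQ) := φ.codRestrict _ hin
  have hψ : Function.Injective ψ := fun a b e => hinj (congrArg Subtype.val e)
  have hbij : Function.Bijective ψ :=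
    (Nat.bijective_iff_injective_and_card ψ).2 ⟨hψ, by rw [hcard, hM]⟩
  exact (MulEquiv.ofBijective ψ hbij).isSimpleGroup

theorem isHS_stab {u X : ↥leechLattice} (hu : sqNorm (u : Vec) = 48) (hX : sqNorm (X : Vec) = 32)
    (hd : dotInt (X : Vec) u = -16) : IsHS ↥(stabilizer ↥Co0 u ⊓ stabilizer ↥Co0 X) := by
  classical
  refine ⟨?_, card_hs hu hX hd⟩
  set G := stabilizer ↥Co0 u ⊓ stabilizer ↥Co0 X with hG
  haveI hfinG : Finite G := Nat.finite_of_card_ne_zero (by rw [hG, card_hs hu hX hd]; norm_num)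
  have hn : Nat.card (HSPts u X) = 100 := by
    rw [← hs_count u.2 hu X.2 hX hd, ← Nat.card_eq_finsetCard]
    exact Nat.card_congr
      { toFun := fun z => ⟨(z.1 : Vec), z.2⟩
        invFun := fun x => ⟨⟨x.1, (mem_twoFS.1 x.2).1.1⟩, x.2⟩
        left_inv := fun z => rfl
        right_inv := fun x => rfl }
  haveI : Finite (HSPts u X) := Nat.finite_of_card_ne_zero (by rw [hn]; norm_num)
  haveI : IsPretransitive G (HSPts u X) := ⟨fun z z' => by
    have a := frame_of_point hu hX hd z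
    have b := frame_of_point hu hX hd z'
    obtain ⟨g, g1, g2, g3⟩ := frame_triple (a := 1) (b := -5) (N := 48) a.mX a.nX a.mz a.nz a.Xz a.mu a.nu
      (a.Xu.trans (by norm_num)) (by rw [dot_comm, a.uz]; norm_num) b.mX b.nX b.mz b.nz b.Xz b.mu b.nu
      (b.Xu.trans (by norm_num)) (by rw [dot_comm, b.uz]; norm_num) (by decide) (by norm_num)
    exact ⟨⟨g, mem_stabilizer_iff.2 ((smul_eq_iff_ap g u u).2 g3), mem_stabilizer_iff.2 ((smul_eq_iff_ap g X X).2 g1)⟩,
      Subtype.ext ((smul_eq_iff_ap g z.1 z'.1).2 g2)⟩⟩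
  obtain ⟨z⟩ : Nonempty (HSPts u X) := (Nat.card_pos_iff.1 (by rw [hn]; norm_num)).1
  have hH : Nat.card ↥(stabilizer G z) = 443520 := by
    have h := Subgroup.card_mul_index (stabilizer G z)
    have hcG : Nat.card G = 44352000 := card_hs hu hX hd
    rw [index_stabilizer_of_transitive, hn, hcG] at h
    omega
  have hz := frame_of_point hu hX hd z
  -- the two suborbits
  have hcls : ∀ b : HSPts u X, b ≠ z → dotInt (z.1 : Vec) b.1 = 8 ∨ dotInt (z.1 : Vec) b.1 = 16 := fun b hb => by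
    rcases hz.dot_point b.2 with h | h | h
    · exact Or.inl h
    · exact Or.inr h
    · refine absurd (Subtype.ext (Subtype.ext ?_)) hb
      have : sqNorm ((b.1 : Vec) - (z.1 : Vec)) = 0 := by
        rw [sqNorm_sub, (mem_twoFS.1 b.2).1.2, hz.nz, dot_comm, h]; norm_num
      exact sub_eq_zero.1 (sqNorm_eq_zero.1 this)
  have horb : ∀ b : HSPts u X, b ≠ z → orbit ↥(stabilizer G z) b =
      {y : HSPts u X | dotInt (z.1 : Vec) y.1 = dotInt (z.1 : Vec) b.1} := by
    intro b hb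
    ext y
    constructor
    · rintro ⟨h, rfl⟩
      have e := congrArg Subtype.val (mem_stabilizer_iff.1 h.2)
      rw [hs_smul_val] at e
      show dotInt (z.1 : Vec) ((((h : G) : ↥Co0) • b.1 : ↥leechLattice) : Vec) = _
      rw [dot_of_fix _ e]
    · intro hy
      obtain ⟨g, g1, g2, g3, g4⟩ := hz.trans_edge (frame_of_point hu hX hd b) (frame_of_point hu hX hd y)
        (hcls b hb) rfl hy
      exact ⟨⟨⟨g, mem_stabilizer_iff.2 ((smul_eq_iff_ap g u u).2 g1), mem_stabilizer_iff.2 ((smul_eq_iff_ap g X X).2 g2)⟩,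
        Subtype.ext ((smul_eq_iff_ap g z.1 z.1).2 g3)⟩, Subtype.ext ((smul_eq_iff_ap g b.1 y.1).2 g4)⟩
  have hsize : ∀ c : ℤ, c = 8 ∨ c = 16 → {y : HSPts u X | dotInt (z.1 : Vec) y.1 = c}.ncard =
      if c = 8 then 22 else 77 := by
    intro c hc
    have e : {y : HSPts u X | dotInt (z.1 : Vec) y.1 = c}.ncard =
        ((hsFS u X).filter fun y => dotInt (z.1 : Vec) y = c).card := by
      rw [← Set.ncard_image_of_injective _ (Subtype.val_injective.comp Subtype.val_injective : Function.Injective fun y : HSPts u X => (y.1 : Vec)),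
        ← Set.ncard_coe_finset]
      congr 1
      ext x
      simp only [Set.mem_image, Finset.coe_filter, Set.mem_ofPred_eq]
      exact ⟨fun ⟨y, hy, e⟩ => e ▸ ⟨y.2, hy⟩, fun ⟨h1, h2⟩ => ⟨⟨⟨x, (mem_twoFS.1 h1).1.1⟩, h1⟩, h2, rfl⟩⟩
    rw [e, hz.point_count (fun d => d = c) (fun d => d == c) (fun d => beq_iff_eq.symm)]
    rcases hc with rfl | rfl
    · rw [if_pos rfl]; exact hs_split.2.1
    · rw [if_neg (by norm_num)]; decide +kernel
  refine isSimpleGroup_of_stab z (point_stab_simple hu hX hd z hH) (ℓ := 11) (p := 5) (k := 2) (m := 4)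
    (by norm_num) (by norm_num) (by rw [hn]; norm_num) (by norm_num) (by rw [hn]; norm_num)
    (by rw [hn]; norm_num) (by rw [hH]; norm_num) ?_ (by norm_num) ?_
  · intro b hb
    have h := card_inf_stab (stabilizer G z) b _ rfl
    rw [horb b hb, hsize _ (hcls b hb), hH] at h
    rcases hcls b hb with e | e
    · rw [if_pos e] at h; omega
    · rw [if_neg (by omega)] at h; omega
  · intro O hzO hO hdvd
    have hsub : ∀ b ∈ O, b ≠ z → {y : HSPts u X | dotInt (z.1 : Vec) y.1 = dotInt (z.1 : Vec) b.1} ⊆ O :=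
      fun b hb hne y hy => by
        rw [← horb b hne] at hy
        obtain ⟨h, rfl⟩ := hy
        exact hO _ h.2 b hb
    by_cases h1 : O = {z}
    · exact Or.inl h1
    right
    rw [hn] at hdvd
    have hdisj : ∀ c : ℤ, c ≠ 32 → z ∉ {y : HSPts u X | dotInt (z.1 : Vec) y.1 = c} := fun c hc h => hc (by
      rw [← show dotInt (z.1 : Vec) z.1 = c from h, dot_self, hz.nz])
    by_cases h8 : ∃ b ∈ O, b ≠ z ∧ dotInt (z.1 : Vec) b.1 = 8
    · by_cases h16 : ∃ b ∈ O, b ≠ z ∧ dotInt (z.1 : Vec) b.1 = 16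
      · obtain ⟨b, hb, hbz, hb8⟩ := h8
        obtain ⟨b', hb', hbz', hb16⟩ := h16
        refine Set.eq_univ_of_forall fun y => ?_
        by_cases hy : y = z
        · exact hy ▸ hzO
        rcases hcls y hy with e | e
        · exact hsub b hb hbz (e.trans hb8.symm)
        · exact hsub b' hb' hbz' (e.trans hb16.symm)
      · push Not at h16
        exfalso
        obtain ⟨b, hb, hbz, hb8⟩ := h8
        have e : O = insert z {y : HSPts u X | dotInt (z.1 : Vec) y.1 = 8} := by
          ext y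
          constructor
          · intro hy
            by_cases hyz : y = z
            · exact Or.inl hyz
            · exact Or.inr ((hcls y hyz).resolve_right (h16 y hy hyz))
          · rintro (rfl | hy)
            · exact hzO
            · exact hsub b hb hbz (hy.trans hb8.symm)
        rw [e, Set.ncard_insert_of_notMem (hdisj 8 (by norm_num)), hsize 8 (Or.inl rfl), if_pos rfl] at hdvd
        norm_num at hdvd
    · push Not at h8
      exfalso
      obtain ⟨b, hb, hbz⟩ : ∃ b ∈ O, b ≠ z := by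
        by_contra hne
        push Not at hne
        exact h1 (Set.eq_singleton_iff_unique_mem.2 ⟨hzO, hne⟩)
      have hb16 := (hcls b hbz).resolve_left (h8 b hb hbz)
      have e : O = insert z {y : HSPts u X | dotInt (z.1 : Vec) y.1 = 16} := by
        ext y
        constructor
        · intro hy
          by_cases hyz : y = z
          · exact Or.inl hyz
          · exact Or.inr ((hcls y hyz).resolve_left (h8 y hy hyz))
        · rintro (rfl | hy)
          · exact hzO
          · exact hsub b hb hbz (hy.trans hb16.symm)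
      rw [e, Set.ncard_insert_of_notMem (hdisj 16 (by norm_num)), hsize 16 (Or.inr rfl), if_neg (by norm_num)] at hdvd
      norm_num at hdvd

end

end Cfsg.Agent.LeechCount
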