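import Cfsg.Agent.Lib.LeechCount.McL2025
import Cfsg.Agent.Lib.LeechCount.HSGroup

/-!
The group fixing two minimal vectors with product -8: order, action on the 2025 points, simplicity.
-/

set_option autoImplicit false

namespace Cfsg.Agent.LeechCount

open Cfsg Cfsg.Agent.Leech MulAction

noncomputable section

attribute [local irreducible] normFS

/-- A group fixing an orthogonal pair of minimal vectors and an odd vector, of the order of M22, is simple. -/
theorem triple_stab_simple {u X z : ↥leechLattice} (hX : sqNorm (X : Vec) = 32) (hz : sqNorm (z : Vec) = 32)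
    (hXz : dotInt (X : Vec) z = 0) {g : ↥Co0} (g1 : ap g X = e44 fP fQ) (g2 : ap g z = d44 fP fQ)
    (hodd : ¬ (2 : ℤ) ∣ ap g u fP) (K : Subgroup ↥Co0)
    (hK : K ≤ stabilizer ↥Co0 u ⊓ stabilizer ↥Co0 X ⊓ stabilizer ↥Co0 z) (hcard : Nat.card ↥K = 443520) :
    IsSimpleGroup ↥K := by
  classical
  have hfix : ∀ (h : ↥K) (v : ↥leechLattice), v = u ∨ v = X ∨ v = z → ap (h : ↥Co0) v = (v : Vec) := fun h v hv => by
    obtain ⟨⟨a, b⟩, c⟩ := hK h.2
    rcases hv with rfl | rfl | rfl
    exacts [(smul_eq_iff_ap _ _ _).1 a, (smul_eq_iff_ap _ _ _).1 b, (smul_eq_iff_ap _ _ _).1 c]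
  let c : ↥K →* ↥Co0 := (MulAut.conj g).toMonoidHom.comp K.subtype
  have hc : ∀ (h : ↥K) (v : ↥leechLattice), v = u ∨ v = X ∨ v = z → ap (c h) (ap g v) = ap g v := by
    intro h v hv
    show ap (g * (h : ↥Co0) * g⁻¹) (ap g v) = _
    rw [ap_mul _ _ (ap_mem g v.2), ap_inv_ap g v.2, ap_mul _ _ v.2, hfix h v hv]
  have he : ∀ h : ↥K, ap (c h) (e8 fP) = e8 fP ∧ ap (c h) (e8 fQ) = e8 fQ := fun h => by
    have a := hc h X (Or.inr (Or.inl rfl))
    have b := hc h z (Or.inr (Or.inr rfl))
    rw [g1] at a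
    rw [g2] at b
    have s1 : e8 fP = e44 fP fQ + d44 fP fQ := funext fun i => by
      simp only [e8, e44, d44, Pi.add_apply]
      by_cases h1 : i = fP
      · subst h1; simp
      · by_cases h2 : i = fQ
        · subst h2; simp
        · simp [h1, h2]
    have s2 : e8 fQ = e44 fP fQ - d44 fP fQ := funext fun i => by
      simp only [e8, e44, d44, Pi.sub_apply]
      by_cases h1 : i = fP
      · subst h1; simp
      · by_cases h2 : i = fQ
        · subst h2; simp
        · simp [h1, h2]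
    exact ⟨by rw [s1, ap_add _ (e44_mem fP_ne_fQ) (d44_mem fP_ne_fQ), a, b],
      by rw [s2, ap_sub _ (e44_mem fP_ne_fQ) (d44_mem fP_ne_fQ), a, b]⟩
  have hmem : ∀ h : ↥K, c h ∈ frame := fun h => by
    rw [mem_frame]
    show Cong (ap (c h) (e8 fP)) (e8 fP)
    rw [(he h).1]
    exact Cong.refl _
  let φ : ↥K →* ↥M24 := frameHom.comp (c.codRestrict frame hmem)
  have hmono : ∀ h : ↥K, ∃ S, InC S ∧ ∀ x ∈ leechLattice, ap (c h) x = mono (φ h : Equiv.Perm GolayPt) S x :=
    fun h => frameHom_spec ⟨c h, hmem h⟩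
  have hin : ∀ h : ↥K, φ h ∈ stabilizer ↥M24 fP ⊓ stabilizer ↥M24 fQ := fun h => by
    obtain ⟨S, -, hS⟩ := hmono h
    have key : ∀ p, ap (c h) (e8 p) = e8 p → (φ h : Equiv.Perm GolayPt) p = p := fun p hp => by
      have := congrFun ((hS _ (e8_mem p)).symm.trans hp) ((φ h : Equiv.Perm GolayPt) p)
      simp only [mono, Equiv.symm_apply_apply, e8, if_true] at this
      by_contra hne
      rw [if_neg hne] at this
      split at this <;> omega
    exact ⟨key _ (he h).1, key _ (he h).2⟩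
  have hinj : Function.Injective φ := by
    rw [injective_iff_map_eq_one]
    intro h hh
    obtain ⟨S, hS, hSm⟩ := hmono h
    have hu' := hc h u (Or.inl rfl)
    rw [hSm _ (ap_mem g u.2), hh] at hu'
    have hall : ∀ i, ¬ (2 : ℤ) ∣ ap g (u : Vec) i := fun i => by
      have h1 : LatM 1 (ap g (u : Vec)) := latM_of_mem (ap_mem g u.2) (i := fP) (m := 1) (by omega)
      have := h1.1 i
      omega
    have hS0 : ∀ i, i ∉ S := fun i hi => by
      have h2 := congrFun hu' i
      simp [mono, hi, Equiv.Perm.one_def] at h2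
      exact hall i ⟨0, by omega⟩
    have hc1 : c h = 1 := ext_ap fun x hx => by
      rw [hSm x hx, hh, ap_one]
      funext i
      simp [mono, hS0 i, Equiv.Perm.one_def]
    have : g * (h : ↥Co0) * g⁻¹ = 1 := hc1
    rw [conj_eq_one_iff] at this
    exact Subtype.ext this
  obtain ⟨hsimp, hM⟩ := M22_stab_simple fP_ne_fQ
  let ψ : ↥K →* ↥(stabilizer ↥M24 fP ⊓ stabilizer ↥M24 fQ) := φ.codRestrict _ hin
  have hψ : Function.Injective ψ := fun a b e => hinj (congrArg Subtype.val e)
  have hbij : Function.Bijective ψ :=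
    (Nat.bijective_iff_injective_and_card ψ).2 ⟨hψ, by rw [hcard, hM]⟩
  exact (MulEquiv.ofBijective ψ hbij).isSimpleGroup

theorem card_mcl {v w : ↥leechLattice} (hv : sqNorm (v : Vec) = 32) (hw : sqNorm (w : Vec) = 32)
    (hd : dotInt (v : Vec) w = -8) : Nat.card ↥(stabilizer ↥Co0 v ⊓ stabilizer ↥Co0 w) = 898128000 := by
  have horb : (orbit ↥(stabilizer ↥Co0 v) w).ncard = 47104 := by
    rw [← (dot_counts v.2 hv).2.1, ← Set.ncard_image_of_injective _ Subtype.val_injective, ← Set.ncard_coe_finset]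
    congr 1
    ext x
    simp only [Set.mem_image, Finset.mem_coe, mem_dotFS]
    constructor
    · rintro ⟨y, ⟨g, rfl⟩, rfl⟩
      have hg : (g : ↥Co0) • v = v := g.2
      refine ⟨⟨(g • w).2, by show sqNorm (((g : ↥Co0) • w : ↥leechLattice) : Vec) = 32; rw [co0_smul_norm, hw]⟩, ?_⟩
      show dotInt (v : Vec) (((g : ↥Co0) • w : ↥leechLattice) : Vec) = -8
      rw [dot_of_fix _ hg, hd]
    · rintro ⟨⟨hx, hxn⟩, hxd⟩
      obtain ⟨g, g1, g2⟩ := coPair_subtype (v := v) (w := w) (v' := v) (w' := ⟨x, hx⟩)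
        (coPair_eight v.2 hv w.2 hw hd v.2 hv hx hxn hxd)
      exact ⟨⟨x, hx⟩, ⟨⟨g, g1⟩, g2⟩, rfl⟩
  have h := card_inf_stab (stabilizer ↥Co0 v) w _ horb
  rw [card_stab32 v hv] at h
  omega

/-- The 2025 points. -/
abbrev McLPts (v w : ↥leechLattice) : Type := {x : ↥leechLattice // (x : Vec) ∈ twoFS v 0 w 16}

instance mclAction (v w : ↥leechLattice) :
    MulAction ↥(stabilizer ↥Co0 v ⊓ stabilizer ↥Co0 w) (McLPts v w) where
  smul g x := ⟨(g : ↥Co0) • x.1, by
    obtain ⟨⟨h1, h2⟩, h3, h4⟩ := mem_twoFS.1 x.2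
    refine mem_twoFS.2 ⟨⟨SetLike.coe_mem _, by rw [co0_smul_norm, h2]⟩, ?_, ?_⟩
    · rw [dot_of_fix _ (show (g : ↥Co0) • v = v from g.2.1), h3]
    · rw [dot_of_fix _ (show (g : ↥Co0) • w = w from g.2.2), h4]⟩
  one_smul x := Subtype.ext (one_smul _ x.1)
  mul_smul g h x := Subtype.ext (mul_smul (g : ↥Co0) (h : ↥Co0) x.1)

theorem mcl_smul_val {v w : ↥leechLattice} (g : ↥(stabilizer ↥Co0 v ⊓ stabilizer ↥Co0 w)) (x : McLPts v w) :
    (g • x).1 = (g : ↥Co0) • x.1 := rfl

theorem isMcL_stab {v w : ↥leechLattice} (hv : sqNorm (v : Vec) = 32) (hw : sqNorm (w : Vec) = 32)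
    (hd : dotInt (v : Vec) w = -8) : IsMcL ↥(stabilizer ↥Co0 v ⊓ stabilizer ↥Co0 w) := by
  classical
  refine ⟨?_, card_mcl hv hw hd⟩
  set G := stabilizer ↥Co0 v ⊓ stabilizer ↥Co0 w with hG
  have hcG : Nat.card G = 898128000 := card_mcl hv hw hd
  haveI : Finite G := Nat.finite_of_card_ne_zero (by rw [hcG]; norm_num)
  have hn : Nat.card (McLPts v w) = 2025 := by
    rw [← card_2025 v.2 hv w.2 hw hd, ← Nat.card_eq_finsetCard]
    exact Nat.card_congr
      { toFun := fun z => ⟨(z.1 : Vec), z.2⟩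
        invFun := fun x => ⟨⟨x.1, (mem_twoFS.1 x.2).1.1⟩, x.2⟩
        left_inv := fun z => rfl
        right_inv := fun x => rfl }
  haveI : Finite (McLPts v w) := Nat.finite_of_card_ne_zero (by rw [hn]; norm_num)
  have hpt : ∀ x : McLPts v w, McLPoint v w (x.1 : Vec) := fun x => McLPoint.of_mem v.2 hv w.2 hw hd x.2
  haveI : IsPretransitive G (McLPts v w) := ⟨fun x x' => by
    obtain ⟨g, g1, g2, g3⟩ := (hpt x).trans (hpt x')
    exact ⟨⟨g, mem_stabilizer_iff.2 ((smul_eq_iff_ap g v v).2 g1), mem_stabilizer_iff.2 ((smul_eq_iff_ap g w w).2 g2)⟩,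
      Subtype.ext ((smul_eq_iff_ap g x.1 x'.1).2 g3)⟩⟩
  obtain ⟨a⟩ : Nonempty (McLPts v w) := (Nat.card_pos_iff.1 (by rw [hn]; norm_num)).1
  have hH : Nat.card ↥(stabilizer G a) = 443520 := by
    have h := Subgroup.card_mul_index (stabilizer G a)
    rw [index_stabilizer_of_transitive, hn, hcG] at h
    omega
  have hsimp : IsSimpleGroup ↥(stabilizer G a) := by
    obtain ⟨g, g1, g2, hb⟩ := (hpt a).read
    let e := (stabilizer G a).equivMapOfInjective G.subtype G.subtype_injective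
    haveI := triple_stab_simple (u := w) (X := v) (z := a.1) hv (hpt a).nx (hpt a).vx g1 g2
      (by rw [hb.atP]; decide) ((stabilizer G a).map G.subtype) (by
        rintro _ ⟨h, hh, rfl⟩
        exact ⟨⟨h.2.2, h.2.1⟩, congrArg Subtype.val hh⟩)
      (by rw [← Nat.card_congr e.toEquiv, hH])
    exact e.isSimpleGroup
  have hcls : ∀ b : McLPts v w, b ≠ a → dotInt (a.1 : Vec) b.1 = 0 ∨ dotInt (a.1 : Vec) b.1 = 8 ∨
      dotInt (a.1 : Vec) b.1 = 16 := fun b hb => by
    have h := (hpt a).dot_point b.2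
    simp only [Finset.mem_insert, Finset.mem_singleton] at h
    rcases h with h | h | h | h
    · refine absurd (Subtype.ext (Subtype.ext ?_)) hb
      have : sqNorm ((b.1 : Vec) - (a.1 : Vec)) = 0 := by
        rw [sqNorm_sub, (hpt b).nx, (hpt a).nx, dot_comm, h]; norm_num
      exact sub_eq_zero.1 (sqNorm_eq_zero.1 this)
    · exact Or.inl h
    · exact Or.inr (Or.inr h)
    · exact Or.inr (Or.inl h)
  have horb : ∀ b : McLPts v w, b ≠ a → orbit ↥(stabilizer G a) b =
      {y : McLPts v w | dotInt (a.1 : Vec) y.1 = dotInt (a.1 : Vec) b.1} := by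
    intro b hb
    ext y
    constructor
    · rintro ⟨h, rfl⟩
      have e := congrArg Subtype.val (mem_stabilizer_iff.1 h.2)
      rw [mcl_smul_val] at e
      show dotInt (a.1 : Vec) ((((h : G) : ↥Co0) • b.1 : ↥leechLattice) : Vec) = _
      rw [dot_of_fix _ e]
    · intro hy
      obtain ⟨g, g1, g2, g3, g4⟩ := (hpt a).cls_trans (hcls b hb) (Finset.mem_filter.2 ⟨b.2, rfl⟩)
        (Finset.mem_filter.2 ⟨y.2, hy⟩)
      exact ⟨⟨⟨g, mem_stabilizer_iff.2 ((smul_eq_iff_ap g v v).2 g1), mem_stabilizer_iff.2 ((smul_eq_iff_ap g w w).2 g2)⟩,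
        Subtype.ext ((smul_eq_iff_ap g a.1 a.1).2 g3)⟩, Subtype.ext ((smul_eq_iff_ap g b.1 y.1).2 g4)⟩
  have hsize : ∀ c : ℤ, {y : McLPts v w | dotInt (a.1 : Vec) y.1 = c}.ncard = (clsFS v w a.1 c).card := by
    intro c
    rw [← Set.ncard_image_of_injective _ (Subtype.val_injective.comp Subtype.val_injective :
        Function.Injective fun y : McLPts v w => (y.1 : Vec)), ← Set.ncard_coe_finset]
    congr 1
    ext x
    simp only [Set.mem_image, clsFS, Finset.coe_filter, Set.mem_ofPred_eq]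
    exact ⟨fun ⟨y, hy, e⟩ => e ▸ ⟨y.2, hy⟩, fun ⟨h1, h2⟩ => ⟨⟨⟨x, (mem_twoFS.1 h1).1.1⟩, h1⟩, h2, rfl⟩⟩
  obtain ⟨n32, n0, n16, n8⟩ := (hpt a).cls_card
  refine isSimpleGroup_of_stab a hsimp (ℓ := 11) (p := 5) (k := 2) (m := 81)
    (by norm_num) (by norm_num) (by rw [hn]; norm_num) (by norm_num) (by rw [hn]; norm_num)
    (by rw [hn]; norm_num) (by rw [hH]; norm_num) ?_ (by norm_num) ?_
  · intro b hb
    have h := card_inf_stab (stabilizer G a) b _ rfl
    rw [horb b hb, hsize, hH] at h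
    rcases hcls b hb with e | e | e <;> rw [e] at h
    · rw [n0] at h; omega
    · rw [n8] at h; omega
    · rw [n16] at h; omega
  · intro O haO hO hdvd
    by_cases h1 : O = {a}
    · exact Or.inl h1
    right
    rw [hn] at hdvd
    have hsub : ∀ b ∈ O, b ≠ a → ∀ y : McLPts v w, dotInt (a.1 : Vec) y.1 = dotInt (a.1 : Vec) b.1 → y ∈ O :=
      fun b hb hne y hy => by
        have hy' : y ∈ orbit ↥(stabilizer G a) b := by rw [horb b hne]; exact hy
        obtain ⟨h, rfl⟩ := hy'
        exact hO _ h.2 b hb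
    set C : ℤ → Set (McLPts v w) := fun c => {y | dotInt (a.1 : Vec) y.1 = c} with hC
    have haa : dotInt (a.1 : Vec) a.1 = 32 := by rw [dot_self, (hpt a).nx]
    have hdec : ∀ c : ℤ, c = 0 ∨ c = 8 ∨ c = 16 → C c ⊆ O ∨ Disjoint (C c) O := by
      intro c hc
      rw [or_iff_not_imp_right, Set.not_disjoint_iff]
      rintro ⟨b, hb, hbO⟩ y hy
      have hba : b ≠ a := fun e => by
        have h2 : dotInt (a.1 : Vec) b.1 = c := hb
        rw [e] at h2
        omega
      exact hsub b hbO hba y ((show dotInt (a.1 : Vec) y.1 = c from hy).trans (Eq.symm hb))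
    -- the sizes of the classes
    have hsum : ∀ S : Finset ℤ, S ⊆ {0, 8, 16} → (∀ c ∈ S, C c ⊆ O) → (∀ c ∈ ({0, 8, 16} : Finset ℤ), c ∉ S → Disjoint (C c) O) →
        O.ncard = 1 + ∑ c ∈ S, (clsFS v w a.1 c).card := by
      intro S hS hin hout
      have e : O = insert a {y : McLPts v w | dotInt (a.1 : Vec) y.1 ∈ S} := by
        ext y
        constructor
        · intro hy
          by_cases hya : y = a
          · exact Or.inl hya
          refine Or.inr ?_
          by_contra hne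
          exact Set.disjoint_left.1 (hout _ (by rcases hcls y hya with e | e | e <;> simp [e]) hne) rfl hy
        · rintro (rfl | hy)
          · exact haO
          · exact hin _ hy rfl
      have e2 : ∀ S : Finset ℤ, {y : McLPts v w | dotInt (a.1 : Vec) y.1 ∈ S}.ncard =
          ∑ c ∈ S, (clsFS v w a.1 c).card := by
        intro S
        induction S using Finset.induction with
        | empty => simp
        | insert c S hc ih =>
          rw [Finset.sum_insert hc, ← hsize c, ← ih, ← Set.ncard_union_eq (Set.disjoint_left.2 fun y h1 h2 => hc (by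
            rw [← show dotInt (a.1 : Vec) y.1 = c from h1]; exact h2))]
          congr 1
          ext y
          simp [Finset.mem_insert]
      rw [e, Set.ncard_insert_of_notMem (fun h => by
        have h2 := hS (show dotInt (a.1 : Vec) a.1 ∈ S from h)
        simp [haa] at h2), e2 S, add_comm]
    set S := ({0, 8, 16} : Finset ℤ).filter fun c => C c ⊆ O with hSdef
    have hcard := hsum S (Finset.filter_subset _ _) (fun c hc => (Finset.mem_filter.1 hc).2) fun c hc hcS =>
      (hdec c (by simpa using hc)).resolve_left fun h => hcS (Finset.mem_filter.2 ⟨hc, h⟩)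
    have key : ∀ T ∈ ({0, 8, 16} : Finset ℤ).powerset, T = ({0, 8, 16} : Finset ℤ) ∨ T = ∅ ∨
        ¬ (1 + ∑ c ∈ T, if c = 0 then 330 else if c = 8 then 1232 else 462) ∣ 2025 := by decide +kernel
    have hv2 : ∑ c ∈ S, (clsFS v w a.1 c).card = ∑ c ∈ S, if c = 0 then 330 else if c = 8 then 1232 else 462 := by
      refine Finset.sum_congr rfl fun c hc => ?_
      have hc' := (Finset.mem_filter.1 hc).1
      simp only [Finset.mem_insert, Finset.mem_singleton] at hc'
      rcases hc' with rfl | rfl | rfl <;> simp [n0, n8, n16]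
    rcases key S (Finset.mem_powerset.2 (Finset.filter_subset _ _)) with e | e | e
    · refine Set.eq_univ_of_forall fun y => ?_
      by_cases hy : y = a
      · exact hy ▸ haO
      have : dotInt (a.1 : Vec) y.1 ∈ S := by rw [e]; rcases hcls y hy with e | e | e <;> simp [e]
      exact (Finset.mem_filter.1 this).2 rfl
    · exfalso
      rw [e, Finset.sum_empty] at hcard
      obtain ⟨z, hz⟩ := Set.ncard_eq_one.1 hcard
      refine h1 ?_
      rw [hz] at haO ⊢
      rw [Set.mem_singleton_iff.1 haO]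
    · exact absurd (by rw [← hv2, ← hcard]; exact hdvd) e

end

end Cfsg.Agent.LeechCount
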