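import Cfsg.Agent.Lib.LeechCount.HSGroup
import Cfsg.Agent.Lib.LeechCount.McLGroup
import Cfsg.Agent.Lib.Leech.UStab
import Cfsg.Agent.Lib.Leech.Quad

/-!
The stabiliser of a minimal vector is simple.

A normal subgroup either contains the stabilisers of the vectors of product -8, and then with them a
monomial subgroup and a copy of the stabiliser of a point in the Mathieu group, or it is a small 2-group.
-/

set_option autoImplicit false

namespace Cfsg.Agent.LeechCount

open Cfsg Cfsg.Agent.Leech MulAction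

noncomputable section

attribute [local irreducible] normFS

/-- The chosen minimal vector. -/
def co2U : ↥leechLattice := ⟨Spor.vecU, vecU_mem⟩

/-- Its stabiliser. -/
abbrev co2G : Subgroup ↥Co0 := stabilizer ↥Co0 co2U

theorem mem_co2G {g : ↥Co0} : g ∈ co2G ↔ ap g Spor.vecU = Spor.vecU :=
  mem_stabilizer_iff.trans (smul_eq_iff_ap g co2U co2U)

theorem negOne_not_mem : negOne ∉ co2G := fun h => by
  have h1 := mem_co2G.1 h
  rw [ap_negOne vecU_mem] at h1
  have h2 := congrFun h1 ptP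
  simp [vecU_eq, e44] at h2

theorem card_co2G : Nat.card ↥co2G = 42305421312000 := card_stab32 co2U vecU_norm

instance co2Finite : Finite ↥co2G := Nat.finite_of_card_ne_zero (by rw [card_co2G]; norm_num)

theorem mcl_in_co2 {w : ↥leechLattice} (hw : sqNorm (w : Vec) = 32) (hd : dotInt Spor.vecU (w : Vec) = -8) :
    IsSimpleGroup ↥((stabilizer ↥Co0 w).subgroupOf co2G) ∧
      Nat.card ↥((stabilizer ↥Co0 w).subgroupOf co2G) = 898128000 := by
  obtain ⟨hs, hc⟩ := isMcL_stab (v := co2U) vecU_norm hw hd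
  haveI := hs
  have e : ↥((stabilizer ↥Co0 w).subgroupOf co2G) ≃* ↥(co2G ⊓ stabilizer ↥Co0 w) := by
    rw [← Subgroup.inf_subgroupOf_left]
    exact Subgroup.subgroupOfEquivOfLe inf_le_left
  exact ⟨e.isSimpleGroup, by rw [Nat.card_congr e.toEquiv, hc]⟩

theorem permHom_injective : Function.Injective permHom := fun σ τ h => Subtype.ext (Equiv.ext fun i => by
  have h1 : e8 ((σ : Equiv.Perm GolayPt) i) = e8 ((τ : Equiv.Perm GolayPt) i) := by
    rw [← perm_e8 σ.2, ← perm_e8 τ.2]
    exact congrArg (fun g => ap g (e8 i)) h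
  have := congrFun h1 ((σ : Equiv.Perm GolayPt) i)
  by_contra hne
  simp [e8, hne] at this)

theorem M23_stab_simple :
    IsSimpleGroup ↥(stabilizer ↥M24 (none : GolayPt)) ∧
      Nat.card ↥(stabilizer ↥M24 (none : GolayPt)) = 10200960 := by
  obtain ⟨e⟩ := Golay24.stab_one_equiv (none : GolayPt)
  haveI := Golay24.M23_simple
  exact ⟨e.isSimpleGroup, by rw [Nat.card_congr e.toEquiv, Golay24.card_M23]⟩

theorem exists_co2_M23 : ∃ g0 : ↥Co0, ap g0 oddMin = Spor.vecU ∧
    ∀ σ ∈ stabilizer ↥M24 (none : GolayPt), g0 * permHom σ * g0⁻¹ ∈ co2G := by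
  have hL : oddMin ∈ leechLattice := (mem_leech_iff _).2 ⟨1, oddMin_latM.1⟩
  obtain ⟨g0, hg⟩ := coEq_of_norm32 hL vecU_mem oddMin_latM.2.2 vecU_norm
  refine ⟨g0, hg, fun σ hσ => ?_⟩
  rw [mem_co2G, ap_mul _ _ vecU_mem, ap_mul _ _ (ap_mem _ vecU_mem), ← hg, ap_inv_ap g0 hL]
  congr 1
  funext i
  show ap (permCo σ σ.2) oddMin i = oddMin i
  rw [ap_permCo σ.2 hL]
  have h0 : (σ : Equiv.Perm GolayPt) none = none := hσ
  by_cases hi : i = none
  · subst hi
    rw [show (σ : Equiv.Perm GolayPt).symm none = none from (Equiv.symm_apply_eq _).2 h0.symm]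
  · have : (σ : Equiv.Perm GolayPt).symm i ≠ none := fun h => hi (by
      have := (Equiv.symm_apply_eq _).1 h
      rw [h0] at this; exact this)
    simp [oddMin, hi, this]

/-- a point with entry three at `r` -/
def co2W (r : GolayPt) : Vec := fun i => if i = r then 3 else -1

theorem co2W_facts {r : GolayPt} (hP : r ≠ ptP) (hQ : r ≠ ptQ) :
    co2W r ∈ leechLattice ∧ sqNorm (co2W r) = 32 ∧ dotInt Spor.vecU (co2W r) = -8 := by
  have hsum : ∀ (a b : ℤ), (∑ i : GolayPt, if i = r then a else b) = a + 23 * b := fun a b => by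
    have : ∀ i : GolayPt, (if i = r then a else b) = b + if i = r then a - b else 0 := fun i => by split <;> ring
    rw [Finset.sum_congr rfl fun i _ => this i, Finset.sum_add_distrib, Finset.sum_ite_eq' Finset.univ r,
      if_pos (Finset.mem_univ _), Finset.sum_const, Finset.card_univ, card_pt, nsmul_eq_mul]
    push_cast; ring
  refine ⟨(mem_leech_iff _).2 ⟨1, fun i => ?_, ?_, ?_⟩, ?_, ?_⟩
  · simp only [co2W]; split <;> omega
  · simp only [co2W]; rw [hsum]; norm_num
  · have : pat 1 (co2W r) = Finset.univ := Finset.eq_univ_of_forall fun i => by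
      rw [mem_pat]; simp only [co2W]; split <;> omega
    rw [this]; exact InC_univ
  · simp only [sqNorm, co2W, ite_pow]; rw [hsum]; norm_num
  · rw [dot_comm, dot_vecU]; simp [co2W, Ne.symm hP, Ne.symm hQ]

theorem signCo_inv_eq {S : Finset GolayPt} (hS : InC S) : (signCo S hS)⁻¹ = signCo S hS :=
  inv_eq_of_mul_eq_one_right (ext_ap fun x hx => funext fun i => by
    rw [ap_mul _ _ hx, ap_signCo hS (ap_mem _ hx), ap_signCo hS hx, ap_one]
    by_cases hi : i ∈ S <;> simp [hi])

theorem signCo_mem_co2G {S : Finset GolayPt} (hS : InC S) (hP : ptP ∉ S) (hQ : ptQ ∉ S) :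
    signCo S hS ∈ co2G := mem_co2G.2 (funext fun i => by
  rw [ap_signCo hS vecU_mem]
  by_cases hi : i ∈ S
  · have h1 : i ≠ ptP := fun h => hP (h ▸ hi)
    have h2 : i ≠ ptQ := fun h => hQ (h ▸ hi)
    simp [hi, vecU_eq, e44, h1, h2]
  · simp [hi])

/-- an octad avoiding both chosen points misses an octad through exactly one of them -/
theorem exists_disjoint_octad {S : Finset GolayPt} (hS : InC S) (h8 : S.card = 8) (hP : ptP ∉ S) (hQ : ptQ ∉ S) :
    ∃ O, InC O ∧ O.card = 8 ∧ ptP ∈ O ∧ ptQ ∉ O ∧ Disjoint S O := by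
  classical
  have hpq : ptP ≠ ptQ := by simp
  obtain ⟨X, hX, hsep⟩ : ∃ X : Sx, X.tet 0 ⊆ S ∧ X.idx ptP ≠ X.idx ptQ := by
    have key : ∀ T ⊆ S, T.card = 4 → (∃ O, InC O ∧ O.card = 8 ∧ insert ptP (insert ptQ T) ⊆ O) ∨
        ∃ X : Sx, X.tet 0 ⊆ S ∧ X.idx ptP ≠ X.idx ptQ := fun T hT hT4 => by
      obtain ⟨X, hX⟩ := exists_sx T hT4
      by_cases he : X.idx ptP = X.idx ptQ
      · left
        have hne : (0 : Fin 6) ≠ X.idx ptP := fun h => hP (hT (hX ▸ X.mem_tet.2 h.symm))
        refine ⟨_, X.InC_pair hne, by rw [Finset.card_union_of_disjoint (X.tet_disjoint hne), X.tet_card, X.tet_card], ?_⟩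
        refine Finset.insert_subset (Finset.mem_union_right _ (X.mem_tet.2 rfl))
          (Finset.insert_subset (Finset.mem_union_right _ (X.mem_tet.2 he.symm)) ?_)
        rw [hX]; exact Finset.subset_union_left
      · exact Or.inr ⟨X, hX ▸ hT, he⟩
    obtain ⟨T, hT, hT4⟩ := exists_four_of_le (S := S) (by omega)
    rcases key T hT hT4 with ⟨O, hO, hO8, hsub⟩ | h
    swap
    · exact h
    obtain ⟨b, hb⟩ : (S \ T).Nonempty := Finset.card_pos.1 (by rw [Finset.card_sdiff_of_subset hT]; omega)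
    obtain ⟨a, ha⟩ : T.Nonempty := Finset.card_pos.1 (by omega)
    obtain ⟨hbS, hbT⟩ := Finset.mem_sdiff.1 hb
    rcases key (insert b (T.erase a)) (Finset.insert_subset hbS ((Finset.erase_subset _ _).trans hT))
      (by rw [Finset.card_insert_of_notMem (fun h => hbT (Finset.mem_of_mem_erase h)), Finset.card_erase_of_mem ha, hT4])
      with ⟨O', hO', hO'8, hsub'⟩ | h
    swap
    · exact h
    exfalso
    have hOO : O = O' := by
      refine InC_octad_unique hO hO' hO8 hO'8 ?_
      have hs : insert ptP (insert ptQ (T.erase a)) ⊆ O ∩ O' := Finset.subset_inter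
        ((Finset.insert_subset_insert _ (Finset.insert_subset_insert _ (Finset.erase_subset a T))).trans hsub)
        ((Finset.insert_subset_insert _ (Finset.insert_subset_insert _ (Finset.subset_insert _ _))).trans hsub')
      have := Finset.card_le_card hs
      rw [Finset.card_insert_of_notMem, Finset.card_insert_of_notMem, Finset.card_erase_of_mem ha, hT4] at this
      · exact this
      · exact fun h => hQ (hT (Finset.mem_of_mem_erase h))
      · simp only [Finset.mem_insert, not_or]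
        exact ⟨hpq, fun h => hP (hT (Finset.mem_of_mem_erase h))⟩
    have hOS : O = S := by
      refine InC_octad_unique hO hS hO8 h8 ?_
      have hs : insert b T ⊆ O ∩ S := Finset.subset_inter
        (Finset.insert_subset (hOO ▸ hsub' (by simp)) ((Finset.subset_insert _ _).trans ((Finset.subset_insert _ _).trans hsub)))
        (Finset.insert_subset hbS hT)
      have := Finset.card_le_card hs
      rw [Finset.card_insert_of_notMem hbT, hT4] at this
      exact this
    exact hP (hOS ▸ hsub (Finset.mem_insert_self _ _))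
  obtain ⟨j, hj, hje⟩ := tet_of_octad X hS h8 hX
  have hSe : S = X.tet 0 ∪ X.tet j := by rw [hje, Finset.union_sdiff_of_subset hX]
  have hout : ∀ p, p ∉ S → X.idx p ≠ 0 ∧ X.idx p ≠ j := fun p hp =>
    ⟨fun h => hp (hSe ▸ Finset.mem_union_left _ (X.mem_tet.2 h)),
      fun h => hp (hSe ▸ Finset.mem_union_right _ (X.mem_tet.2 h))⟩
  obtain ⟨hk0, hkj⟩ := hout _ hP
  obtain ⟨m, hm0, hmj, hmk, hml⟩ :=
    (show ∀ j k l : Fin 6, ∃ m : Fin 6, m ≠ 0 ∧ m ≠ j ∧ m ≠ k ∧ m ≠ l by decide) j (X.idx ptP) (X.idx ptQ)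
  refine ⟨_, X.InC_pair hmk.symm, by rw [Finset.card_union_of_disjoint (X.tet_disjoint hmk.symm), X.tet_card, X.tet_card],
    Finset.mem_union_left _ (X.mem_tet.2 rfl), ?_, ?_⟩
  · simp only [Finset.mem_union, X.mem_tet, not_or]
    exact ⟨fun h => hsep h.symm, fun h => hml h.symm⟩
  · rw [Finset.disjoint_left]
    intro i hi hi'
    simp only [hSe, Finset.mem_union, X.mem_tet] at hi hi'
    rcases hi with h | h <;> rcases hi' with h' | h' <;> rw [h] at h'
    exacts [hk0 h'.symm, hm0 h'.symm, hkj h'.symm, hmj h'.symm]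

section Normal

variable (N : Subgroup ↥co2G) [hN : N.Normal]

/-- a normal subgroup containing all stabilisers of the points is everything -/
theorem co2_top_of_stab
    (hfix : ∀ g : ↥co2G, ∀ w : ↥leechLattice, sqNorm (w : Vec) = 32 → dotInt Spor.vecU (w : Vec) = -8 →
      (g : ↥Co0) • w = w → g ∈ N) : N = ⊤ := by
  classical
  have hpq : ptP ≠ ptQ := by simp
  -- permutations fixing both chosen points
  have hr0P : (some 1 : GolayPt) ≠ ptP := by decide
  have hr0Q : (some 1 : GolayPt) ≠ ptQ := by decide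
  have hperm : ∀ σ : ↥M24, (σ : Equiv.Perm GolayPt) ptP ∈ ({ptP, ptQ} : Finset GolayPt) →
      (σ : Equiv.Perm GolayPt) ptQ ∈ ({ptP, ptQ} : Finset GolayPt) → permHom σ ∈ co2G := fun σ h1 h2 => by
    rw [mem_co2G]
    show ap (permCo σ σ.2) Spor.vecU = _
    rw [vecU_eq, perm_e44 σ.2 hpq]
    have hne : (σ : Equiv.Perm GolayPt) ptP ≠ (σ : Equiv.Perm GolayPt) ptQ := fun h => hpq ((σ : Equiv.Perm GolayPt).injective h)
    simp only [Finset.mem_insert, Finset.mem_singleton] at h1 h2
    rcases h1 with e | e <;> rcases h2 with e' | e' <;> rw [e, e'] at hne ⊢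
    · exact absurd rfl hne
    · funext i; simp [e44, or_comm]
    · exact absurd rfl hne
  have hpermfix : ∀ (σ : ↥M24) (hσ : permHom σ ∈ co2G) (r : GolayPt), r ≠ ptP → r ≠ ptQ →
      (σ : Equiv.Perm GolayPt) r = r → (⟨_, hσ⟩ : ↥co2G) ∈ N := fun σ hσ r hP hQ hr => by
    obtain ⟨hw, hwn, hwd⟩ := co2W_facts hP hQ
    refine hfix _ ⟨co2W r, hw⟩ hwn hwd ((smul_eq_iff_ap _ _ _).2 (funext fun i => ?_))
    show ap (permCo σ σ.2) (co2W r) i = co2W r i
    rw [ap_permCo σ.2 hw]
    have : (σ : Equiv.Perm GolayPt).symm i = r ↔ i = r := by rw [Equiv.symm_apply_eq, hr]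
    simp only [co2W, this]
  set M22 := stabilizer ↥M24 ptP ⊓ stabilizer ↥M24 ptQ with hM22
  obtain ⟨hs22, hc22⟩ := M22_stab_simple hpq
  have hmem22 : ∀ σ : ↥M22, permHom (σ : ↥M24) ∈ co2G := fun σ => by
    have h1 : ((σ : ↥M24) : Equiv.Perm GolayPt) ptP = ptP := σ.2.1
    have h2 : ((σ : ↥M24) : Equiv.Perm GolayPt) ptQ = ptQ := σ.2.2
    exact hperm _ (by simp [h1]) (by simp [h2])
  let ψ : ↥M22 →* ↥co2G := (permHom.comp M22.subtype).codRestrict co2G hmem22
  have h22 : ∀ σ : ↥M22, ψ σ ∈ N := by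
    obtain ⟨σ, hσ, hs⟩ := M24_four_transitive ![ptP, ptQ, (some 1), some 2] ![ptP, ptQ, (some 1), some 3]
      (by decide)
      (by decide)
    let τ : ↥M22 := ⟨⟨σ, hσ⟩, hs 0, hs 1⟩
    have hτ : ψ τ ∈ N := hpermfix ⟨σ, hσ⟩ (hmem22 τ) (some 1) hr0P hr0Q (hs 2)
    rcases hs22.eq_bot_or_eq_top_of_normal (N.comap ψ) (hN.comap ψ) with h | h
    · have h1 : τ = 1 := Subgroup.mem_bot.1 (h ▸ hτ)
      have h2 := congrArg (fun u : ↥M22 => ((u : ↥M24) : Equiv.Perm GolayPt) (some 2)) h1
      simp only [OneMemClass.coe_one, Equiv.Perm.one_apply] at h2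
      have h3 : σ (some 2) = some 3 := hs 3
      exact absurd (h3.symm.trans h2) (by decide)
    · exact fun σ' => (Subgroup.mem_comap.1 (h ▸ Subgroup.mem_top σ' : σ' ∈ N.comap ψ))
  obtain ⟨sw, hsw, hsws⟩ := M24_four_transitive ![ptP, ptQ, (some 1), some 2] ![ptQ, ptP, (some 1), some 2]
    (by decide)
    (by decide)
  have hsP : sw ptP = ptQ := hsws 0
  have hsQ : sw ptQ = ptP := hsws 1
  have hswG := hperm ⟨sw, hsw⟩ (by simp [hsP]) (by simp [hsQ])
  have hswN : (⟨_, hswG⟩ : ↥co2G) ∈ N := hpermfix ⟨sw, hsw⟩ hswG (some 1) hr0P hr0Q (hsws 2)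
  have hPN : ∀ (σ : ↥M24) (hσ : permHom σ ∈ co2G), (σ : Equiv.Perm GolayPt) ptP ∈ ({ptP, ptQ} : Finset GolayPt) →
      (σ : Equiv.Perm GolayPt) ptQ ∈ ({ptP, ptQ} : Finset GolayPt) → (⟨_, hσ⟩ : ↥co2G) ∈ N := fun σ hσ h1 h2 => by
    simp only [Finset.mem_insert, Finset.mem_singleton] at h1 h2
    rcases h1 with e | e <;> rcases h2 with e' | e'
    · exact absurd ((σ : Equiv.Perm GolayPt).injective (e.trans e'.symm)) hpq
    · exact h22 ⟨σ, e, e'⟩
    · let τ : ↥M22 := ⟨⟨sw, hsw⟩ * σ, (show sw ((σ : Equiv.Perm GolayPt) ptP) = ptP by rw [e, hsQ]),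
        (show sw ((σ : Equiv.Perm GolayPt) ptQ) = ptQ by rw [e', hsP])⟩
      have : (⟨_, hσ⟩ : ↥co2G) = (⟨_, hswG⟩ : ↥co2G)⁻¹ * ψ τ := Subtype.ext (by
        show permHom σ = (permHom ⟨sw, hsw⟩)⁻¹ * permHom (⟨sw, hsw⟩ * σ)
        rw [map_mul, inv_mul_cancel_left])
      rw [this]
      exact mul_mem (inv_mem hswN) (h22 τ)
    · exact absurd ((σ : Equiv.Perm GolayPt).injective (e.trans e'.symm)) hpq
  -- sign changes
  have hoct : ∀ S (hS : InC S) (hP : ptP ∉ S) (hQ : ptQ ∉ S), S.card = 8 →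
      (⟨_, signCo_mem_co2G hS hP hQ⟩ : ↥co2G) ∈ N := fun S hS hP hQ h8 => by
    obtain ⟨O, hO, hO8, hOP, hOQ, hd⟩ := exists_disjoint_octad hS h8 hP hQ
    have hw : -twoVec O ∈ leechLattice := neg_mem ((mem_leech_iff _).2 ⟨0, (twoVec_latM hO).1⟩)
    refine hfix _ ⟨_, hw⟩ (by rw [sqNorm_neg, twoVec_norm hO8]) ?_ ((smul_eq_iff_ap _ _ _).2 (funext fun i => ?_))
    · rw [dot_comm, dot_vecU]; simp [twoVec, hOP, hOQ]
    · show ap (signCo S hS) (-twoVec O) i = _
      rw [ap_signCo hS hw]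
      by_cases hi : i ∈ S
      · simp [hi, twoVec, Finset.disjoint_left.1 hd hi]
      · simp [hi]
  have hsign : ∀ n S (hS : InC S) (hP : ptP ∉ S) (hQ : ptQ ∉ S), S.card = n →
      (⟨_, signCo_mem_co2G hS hP hQ⟩ : ↥co2G) ∈ N := by
    intro n
    induction n using Nat.strong_induction_on with
    | _ n ih =>
      intro S hS hP hQ hn
      rcases InC_weights hS with e | e | e | e | e
      · have h0 : S = ∅ := Finset.card_eq_zero.1 e
        subst h0
        convert one_mem N
        exact ext_ap fun x hx => funext fun i => by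
          rw [OneMemClass.coe_one, ap_one, ap_signCo hS hx]; simp
      · exact hoct S hS hP hQ e
      all_goals
        obtain ⟨T, hT, hT4⟩ := exists_four_of_le (S := S) (by omega)
        obtain ⟨X, hX⟩ := exists_sx T hT4
        obtain ⟨p, hp, hpPQ⟩ : ∃ p ∈ S \ T, X.idx p ≠ X.idx ptP ∧ X.idx p ≠ X.idx ptQ := by
          by_contra hc
          push Not at hc
          have hsub : S \ T ⊆ ((X.tet (X.idx ptP) ∪ X.tet (X.idx ptQ)).erase ptP).erase ptQ := fun p hp => by
            have hpS := (Finset.mem_sdiff.1 hp).1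
            simp only [Finset.mem_erase, Finset.mem_union, X.mem_tet]
            refine ⟨fun h => hQ (h ▸ hpS), fun h => hP (h ▸ hpS), ?_⟩
            by_cases h : X.idx p = X.idx ptP
            · exact Or.inl h
            · exact Or.inr (hc p hp h)
          have := Finset.card_le_card hsub
          rw [Finset.card_sdiff_of_subset hT, hT4] at this
          have h2 := Finset.card_erase_le (s := (X.tet (X.idx ptP) ∪ X.tet (X.idx ptQ)).erase ptP) (a := ptQ)
          rw [Finset.card_erase_of_mem (Finset.mem_union_left _ (X.mem_tet.2 rfl))] at h2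
          have h3 := Finset.card_union_le (X.tet (X.idx ptP)) (X.tet (X.idx ptQ))
          rw [X.tet_card, X.tet_card] at h3
          omega
        obtain ⟨hpS, hpT⟩ := Finset.mem_sdiff.1 hp
        have hp0 : (0 : Fin 6) ≠ X.idx p := fun h => hpT (hX ▸ X.mem_tet.2 h.symm)
        set O := X.tet 0 ∪ X.tet (X.idx p) with hOdef
        have hO : InC O := X.InC_pair hp0
        have hO8 : O.card = 8 := by rw [hOdef, Finset.card_union_of_disjoint (X.tet_disjoint hp0), X.tet_card, X.tet_card]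
        have hOP : ptP ∉ O := by
          simp only [hOdef, Finset.mem_union, X.mem_tet, not_or]
          exact ⟨fun h => hP (hT (hX ▸ X.mem_tet.2 h)), fun h => hpPQ.1 h.symm⟩
        have hOQ : ptQ ∉ O := by
          simp only [hOdef, Finset.mem_union, X.mem_tet, not_or]
          exact ⟨fun h => hQ (hT (hX ▸ X.mem_tet.2 h)), fun h => hpPQ.2 h.symm⟩
        have hlt : (symmDiff S O).card < n := by
          have := card_symmDiff_add S O
          have h5 : insert p T ⊆ S ∩ O := Finset.subset_inter (Finset.insert_subset hpS hT)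
            (Finset.insert_subset (Finset.mem_union_right _ (X.mem_tet.2 rfl)) (hX ▸ Finset.subset_union_left))
          have := Finset.card_le_card h5
          rw [Finset.card_insert_of_notMem hpT, hT4] at this
          omega
        have hP' : ptP ∉ symmDiff S O := by simp [Finset.mem_symmDiff, hP, hOP]
        have hQ' : ptQ ∉ symmDiff S O := by simp [Finset.mem_symmDiff, hQ, hOQ]
        have hmul : (⟨_, signCo_mem_co2G hS hP hQ⟩ : ↥co2G) =
            (⟨_, signCo_mem_co2G (InC_symmDiff hS hO) hP' hQ'⟩ : ↥co2G) * ⟨_, signCo_mem_co2G hO hOP hOQ⟩ :=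
          Subtype.ext (signCo_mul (InC_symmDiff hS hO) hO hS (by rw [symmDiff_assoc, symmDiff_self, symmDiff_bot]))
        rw [hmul]
        exact mul_mem (ih _ hlt _ (InC_symmDiff hS hO) hP' hQ' rfl) (hoct O hO hOP hOQ hO8)
  -- the monomial subgroup
  set L := frame.subgroupOf co2G with hL
  let φ : ↥L →* ↥M24 :=
    frameHom.comp ((co2G.subtype.comp L.subtype).codRestrict frame fun g => g.2)
  have hdec : ∀ g : ↥L, ∃ S, ∃ hS : InC S, ((g : ↥co2G) : ↥Co0) = signCo S hS * permHom (φ g) ∧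
      ptP ∉ S ∧ ptQ ∉ S ∧ ((φ g : ↥M24) : Equiv.Perm GolayPt) ptP ∈ ({ptP, ptQ} : Finset GolayPt) ∧
      ((φ g : ↥M24) : Equiv.Perm GolayPt) ptQ ∈ ({ptP, ptQ} : Finset GolayPt) := fun g => by
    obtain ⟨S, hS, h⟩ := frameHom_spec ⟨((g : ↥co2G) : ↥Co0), g.2⟩
    change ∀ x ∈ leechLattice, ap ((g : ↥co2G) : ↥Co0) x = mono ((φ g : ↥M24) : Equiv.Perm GolayPt) S x at h
    have hu := mem_co2G.1 (g : ↥co2G).2
    rw [h _ vecU_mem] at hu
    set σ := ((φ g : ↥M24) : Equiv.Perm GolayPt) with hσ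
    have key : ∀ p, p = ptP ∨ p = ptQ → σ p ∉ S ∧ σ p ∈ ({ptP, ptQ} : Finset GolayPt) := fun p hp => by
      have h1 := congrFun hu (σ p)
      simp only [mono, Equiv.symm_apply_apply] at h1
      have hv : Spor.vecU p = 4 := by rcases hp with rfl | rfl <;> simp [vecU_eq, e44]
      rw [hv] at h1
      have h2 : σ p ∈ ({ptP, ptQ} : Finset GolayPt) := by
        simp only [vecU_eq, e44, Finset.mem_insert, Finset.mem_singleton] at h1 ⊢
        by_contra hne
        rw [if_neg hne] at h1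
        split at h1 <;> omega
      refine ⟨fun hmem => ?_, h2⟩
      simp only [Finset.mem_insert, Finset.mem_singleton] at h2
      rw [if_pos hmem] at h1
      rcases h2 with e | e <;> simp [vecU_eq, e44, e] at h1
    obtain ⟨a1, a2⟩ := key ptP (Or.inl rfl)
    obtain ⟨b1, b2⟩ := key ptQ (Or.inr rfl)
    refine ⟨S, hS, ext_ap fun x hx => ?_, ?_, ?_, a2, b2⟩
    · rw [ap_mul _ _ hx, h x hx, ap_signCo_mono hS (ap_mem _ hx)]
      show _ = mono 1 S (ap (permCo σ (φ g).2) x)
      rw [ap_permCo_mono _ hx, mono_mono]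
      simp [← Finset.bot_eq_empty, hσ]
    all_goals
      simp only [Finset.mem_insert, Finset.mem_singleton] at a2 b2
      have hne : σ ptP ≠ σ ptQ := fun h => hpq (σ.injective h)
      rcases a2 with e | e <;> rcases b2 with e' | e' <;> rw [e, e'] at hne <;>
        first
        | exact absurd rfl hne
        | exact e ▸ a1
        | exact e' ▸ b1
  have hLN : L ≤ N := fun g hg => by
    obtain ⟨S, hS, he, hP, hQ, h1, h2⟩ := hdec ⟨g, hg⟩
    have hσ := hperm (φ ⟨g, hg⟩) h1 h2
    have : g = (⟨_, signCo_mem_co2G hS hP hQ⟩ : ↥co2G) * ⟨_, hσ⟩ := Subtype.ext he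
    rw [this]
    exact mul_mem (hsign _ S hS hP hQ rfl) (hPN _ hσ h1 h2)
  have hrange : Nat.card ↥φ.range = 2 * 443520 := by
    have hR : φ.range ⊓ stabilizer ↥M24 ptP = M22 := by
      ext σ
      constructor
      · rintro ⟨⟨g, rfl⟩, hP⟩
        obtain ⟨S, hS, -, -, -, -, h2⟩ := hdec g
        refine ⟨hP, ?_⟩
        simp only [Finset.mem_insert, Finset.mem_singleton] at h2
        rcases h2 with e | e
        · exact absurd (((φ g : ↥M24) : Equiv.Perm GolayPt).injective (e.trans (show _ = ptP from hP).symm)) hpq.symm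
        · exact e
      · intro hσ
        refine ⟨⟨⟨⟨permHom σ, hmem22 ⟨σ, hσ⟩⟩, Subgroup.mem_subgroupOf.2 (permCo_mem_frame σ.2)⟩, ?_⟩, hσ.1⟩
        exact frameHom_permCo σ.2
    have horb : (orbit ↥φ.range ptP).ncard = 2 := by
      have : orbit ↥φ.range ptP = {ptP, ptQ} := Set.ext fun i => by
        constructor
        · rintro ⟨⟨_, g, rfl⟩, rfl⟩
          obtain ⟨S, hS, -, -, -, h1, -⟩ := hdec g
          simp only [Finset.mem_insert, Finset.mem_singleton] at h1
          exact h1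
        · rintro (rfl | rfl)
          · exact mem_orbit_self _
          · exact ⟨⟨⟨sw, hsw⟩, ⟨⟨⟨permHom ⟨sw, hsw⟩, hswG⟩, Subgroup.mem_subgroupOf.2 (permCo_mem_frame hsw)⟩,
              frameHom_permCo hsw⟩⟩, hsP⟩
      rw [this, Set.ncard_pair hpq]
    have h := card_inf_stab φ.range ptP 2 horb
    rw [hR, hc22] at h
    exact h.symm
  have hker : 2 ^ 10 ∣ Nat.card ↥φ.ker := by
    let ρ : Multiplicative ↥golayCode →* Multiplicative (ZMod 2 × ZMod 2) :=
      MonoidHom.mk' (fun c => Multiplicative.ofAdd (wd c ptP, wd c ptQ)) fun a b => by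
        rw [wd_mul]; rfl
    have hρ : Function.Surjective ρ := fun p => by
      obtain ⟨⟨a, b⟩, rfl⟩ := Multiplicative.ofAdd.surjective p
      obtain ⟨c, hc, he⟩ := exists_InC_inter_small (T := ({ptP, ptQ} : Finset GolayPt))
        (A := ({ptP, ptQ} : Finset GolayPt).filter fun i => (i = ptP ∧ a ≠ 0) ∨ (i = ptQ ∧ b ≠ 0))
        (Finset.filter_subset _ _) (Finset.card_le_two.trans (by norm_num))
      obtain ⟨v, hv, rfl⟩ := hc
      refine ⟨Multiplicative.ofAdd ⟨v, hv⟩, congrArg Multiplicative.ofAdd (Prod.ext ?_ ?_)⟩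
      · have := Finset.ext_iff.1 he ptP
        simp [support₂, hpq] at this
        show v ptP = a
        exact (show ∀ u a : ZMod 2, (¬u = 0 ↔ ¬a = 0) → u = a by decide) _ _ this
      · have := Finset.ext_iff.1 he ptQ
        simp [support₂, hpq.symm] at this
        show v ptQ = b
        exact (show ∀ u a : ZMod 2, (¬u = 0 ↔ ¬a = 0) → u = a by decide) _ _ this
    have hcE : Nat.card ↥ρ.ker = 2 ^ 10 := by
      have h := Subgroup.card_mul_index ρ.ker
      rw [Subgroup.index_ker, MonoidHom.range_eq_top.2 hρ, Subgroup.card_top, Nat.card_congr Multiplicative.toAdd,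
        Nat.card_congr Multiplicative.toAdd, Nat.card_prod, Nat.card_zmod, Module.natCard_eq_pow_finrank (K := ZMod 2) (V := ↥golayCode),
        Golay24.golayCode_finrank, Nat.card_zmod] at h
      omega
    have hE : ∀ c : ↥ρ.ker, ptP ∉ support₂ (wd (c : Multiplicative ↥golayCode)) ∧
        ptQ ∉ support₂ (wd (c : Multiplicative ↥golayCode)) := fun c => by
      have h : (wd (c : Multiplicative ↥golayCode) ptP, wd (c : Multiplicative ↥golayCode) ptQ) = ((0, 0) : ZMod 2 × ZMod 2) :=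
        congrArg Multiplicative.toAdd (MonoidHom.mem_ker.1 c.2)
      simp only [Prod.mk.injEq] at h
      simp [support₂, h.1, h.2]
    let e1 : ↥ρ.ker →* ↥co2G := (signHom.comp ρ.ker.subtype).codRestrict co2G fun c =>
      signCo_mem_co2G (InC_support _) (hE c).1 (hE c).2
    let e2 : ↥ρ.ker →* ↥L := e1.codRestrict L fun c => Subgroup.mem_subgroupOf.2 (signCo_mem_frame (InC_support _))
    let e3 : ↥ρ.ker →* ↥φ.ker := e2.codRestrict φ.ker fun c => by
      rw [MonoidHom.mem_ker]
      obtain ⟨S, -, hh⟩ := frameHom_spec ⟨signHom (c : Multiplicative ↥golayCode), signs_le_frame ⟨_, rfl⟩⟩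
      refine Subtype.ext ((mono_unique (S := S) (S' := support₂ (wd (c : Multiplicative ↥golayCode))) fun i => ?_).1)
      refine (hh _ (e8_mem i)).symm.trans ?_
      exact ap_signCo_mono (InC_support _) (e8_mem i)
    rw [← hcE]
    refine Subgroup.card_dvd_of_injective e3 fun a b hab => ?_
    have h1 : signHom (a : Multiplicative ↥golayCode) = signHom (b : Multiplicative ↥golayCode) :=
      congrArg (fun z : ↥φ.ker => (((z : ↥L) : ↥co2G) : ↥Co0)) hab
    have hs : support₂ (wd (a : Multiplicative ↥golayCode)) = support₂ (wd (b : Multiplicative ↥golayCode)) := by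
      refine (mono_unique (σ := 1) (σ' := 1) fun i => ?_).2
      exact (ap_signCo_mono (InC_support _) (e8_mem i)).symm.trans
        ((congrArg (fun z => ap z (e8 i)) h1).trans (ap_signCo_mono (InC_support _) (e8_mem i)))
    refine Subtype.ext (Multiplicative.toAdd.injective (Subtype.ext (funext fun p => ?_)))
    have := Finset.ext_iff.1 hs p
    simp only [support₂, Finset.mem_filter, Finset.mem_univ, true_and] at this
    revert this
    show _ → wd (a : Multiplicative ↥golayCode) p = wd (b : Multiplicative ↥golayCode) p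
    generalize wd (a : Multiplicative ↥golayCode) p = u, wd (b : Multiplicative ↥golayCode) p = w
    revert u w; decide
  have hLcard : 2 ^ 10 * (2 * 443520) ∣ Nat.card ↥L := by
    rw [← Subgroup.card_mul_index φ.ker, Subgroup.index_ker, hrange]
    exact Nat.mul_dvd_mul hker dvd_rfl
  -- the copy of the stabiliser of a point
  obtain ⟨g0, hg0, hmem23⟩ := exists_co2_M23
  obtain ⟨hs23, hc23⟩ := M23_stab_simple
  let θ : ↥(stabilizer ↥M24 (none : GolayPt)) →* ↥co2G :=
    ((MulAut.conj g0).toMonoidHom.comp (permHom.comp (Subgroup.subtype _))).codRestrict co2G fun σ => hmem23 σ σ.2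
  have hθ : Function.Injective θ := fun a b h => Subtype.ext (permHom_injective ((MulAut.conj g0).injective
    (congrArg Subtype.val h)))
  have h23 : 10200960 ∣ Nat.card ↥N := by
    have hall : ∀ σ, θ σ ∈ N := by
      obtain ⟨σ, hσ, hs⟩ := M24_four_transitive ![none, some 1, some 2, some 3] ![none, some 1, some 2, some 4]
        (by decide)
        (by decide)
      let τ : ↥(stabilizer ↥M24 (none : GolayPt)) := ⟨⟨σ, hσ⟩, hs 0⟩
      have h12 : (some 1 : GolayPt) ≠ some 2 := by decide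
      have hL' : oddMin ∈ leechLattice := (mem_leech_iff _).2 ⟨1, oddMin_latM.1⟩
      have hw : -e44 (some 1) (some 2) ∈ leechLattice := neg_mem (e44_mem h12)
      have hτ : θ τ ∈ N := by
        refine hfix _ ⟨_, ap_mem g0 hw⟩ (by rw [ap_norm g0 hw, sqNorm_neg, e44_norm h12]) ?_
          ((smul_eq_iff_ap _ _ _).2 ?_)
        · rw [← hg0, ap_dot g0 hL' hw, dot_comm, dot_neg_left, dot_comm (e44 (some 1) (some 2)), dotAny_e44 _ h12]
          simp [oddMin]
        · show ap (g0 * permHom ⟨σ, hσ⟩ * g0⁻¹) (ap g0 (-e44 (some 1) (some 2))) = ap g0 (-e44 (some 1) (some 2))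
          rw [ap_mul _ _ (ap_mem g0 hw), ap_inv_ap g0 hw, ap_mul _ _ hw]
          congr 1
          show ap (permCo σ hσ) _ = _
          rw [ap_neg _ (e44_mem h12), perm_e44 hσ h12, show σ (some 1) = some 1 from hs 1, show σ (some 2) = some 2 from hs 2]
      rcases hs23.eq_bot_or_eq_top_of_normal (N.comap θ) (hN.comap θ) with h | h
      · have h1 : τ = 1 := Subgroup.mem_bot.1 (h ▸ hτ)
        have h2 := congrArg (fun u : ↥(stabilizer ↥M24 (none : GolayPt)) => ((u : ↥M24) : Equiv.Perm GolayPt) (some 3)) h1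
        simp only [OneMemClass.coe_one, Equiv.Perm.one_apply] at h2
        have h3 : σ (some 3) = some 4 := hs 3
        exact absurd (h3.symm.trans h2) (by decide)
      · exact fun σ' => Subgroup.mem_comap.1 (h ▸ Subgroup.mem_top σ' : σ' ∈ N.comap θ)
    rw [← hc23]
    exact Subgroup.card_dvd_of_injective (θ.codRestrict N hall) fun a b h => hθ (congrArg Subtype.val h)
  -- assemble the order
  obtain ⟨hw0, hw0n, hw0d⟩ := co2W_facts hr0P hr0Q
  obtain ⟨-, hH⟩ := mcl_in_co2 (w := ⟨co2W (some 1), hw0⟩) hw0n hw0d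
  have hHN : 898128000 ∣ Nat.card ↥N := by
    rw [← hH]
    exact Subgroup.card_dvd_of_le fun g hg => hfix g _ hw0n hw0d (Subgroup.mem_subgroupOf.1 hg)
  have hLN' : 2 ^ 10 * (2 * 443520) ∣ Nat.card ↥N := hLcard.trans (Subgroup.card_dvd_of_le hLN)
  have hall := Nat.lcm_dvd (Nat.lcm_dvd hHN hLN') h23
  have hle := Subgroup.card_le_card_group N
  have hpos : 0 < Nat.card ↥N := Nat.card_pos
  refine Subgroup.eq_top_of_card_eq N ?_
  have : (Nat.lcm (Nat.lcm 898128000 (2 ^ 10 * (2 * 443520))) 10200960) = 42305421312000 := by decide +kernel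
  rw [this] at hall
  have := Nat.le_of_dvd hpos hall
  rw [card_co2G] at hle ⊢
  omega

/-- the stabiliser of a minimal vector has no proper normal subgroup -/
theorem co2_normal_cases : N = ⊥ ∨ N = ⊤ := by
  classical
  by_cases hbot : N = ⊥
  · exact Or.inl hbot
  right
  obtain ⟨hw0, hw0n, hw0d⟩ := co2W_facts (r := (some 1 : GolayPt)) (by decide) (by decide)
  obtain ⟨hs, hH⟩ := mcl_in_co2 (w := ⟨co2W (some 1), hw0⟩) hw0n hw0d
  set H := (stabilizer ↥Co0 (⟨co2W (some 1), hw0⟩ : ↥leechLattice)).subgroupOf co2G with hHdef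
  rcases hs.eq_bot_or_eq_top_of_normal (N.subgroupOf H) inferInstance with h | h
  swap
  · -- the stabilisers lie inside
    refine co2_top_of_stab N fun g w hwn hwd hgw => ?_
    obtain ⟨k, k1, k2⟩ := coPair_subtype (v := co2U) (w := ⟨co2W (some 1), hw0⟩) (v' := co2U) (w' := w)
      (coPair_eight vecU_mem vecU_norm hw0 hw0n hw0d vecU_mem vecU_norm w.2 hwn hwd)
    let k' : ↥co2G := ⟨k, k1⟩
    have hmem : k'⁻¹ * g * k' ∈ H := Subgroup.mem_subgroupOf.2 (mem_stabilizer_iff.2 (by
      show (k⁻¹ * (g : ↥Co0) * k) • (⟨co2W (some 1), hw0⟩ : ↥leechLattice) = _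
      rw [mul_smul, mul_smul, k2, hgw, ← k2, inv_smul_smul]))
    have := hN.conj_mem _ (Subgroup.subgroupOf_eq_top.1 h hmem) k'
    simpa [mul_assoc] using this
  exfalso
  -- a small normal subgroup
  have hdvd : Nat.card ↥N ∣ 47104 := by
    let π : ↥H →* ↥co2G ⧸ N := (QuotientGroup.mk' N).comp H.subtype
    have hπ : Function.Injective π := by
      rw [injective_iff_map_eq_one]
      intro a ha
      have h1 : (a : ↥co2G) ∈ N := (QuotientGroup.eq_one_iff _).1 ha
      exact Subgroup.mem_bot.1 (h ▸ (Subgroup.mem_subgroupOf.2 h1))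
    obtain ⟨c, hc⟩ := Subgroup.card_dvd_of_injective π hπ
    have h2 := Subgroup.card_eq_card_quotient_mul_card_subgroup N
    rw [card_co2G, hc, hH] at h2
    exact ⟨c, by linarith [show 898128000 * (47104 : ℕ) = 42305421312000 by norm_num,
      show Nat.card ↥N * c * 898128000 = 47104 * 898128000 by linarith]⟩
  haveI : Fact (Nat.Prime 23) := ⟨by norm_num⟩
  haveI : Fact (Nat.Prime 2) := ⟨Nat.prime_two⟩
  obtain ⟨g0, -, hmem23⟩ := exists_co2_M23
  obtain ⟨hs23, hc23⟩ := M23_stab_simple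
  let θ : ↥(stabilizer ↥M24 (none : GolayPt)) →* ↥co2G :=
    ((MulAut.conj g0).toMonoidHom.comp (permHom.comp (Subgroup.subtype _))).codRestrict co2G fun σ => hmem23 σ σ.2
  have hθ : Function.Injective θ := fun a b e => Subtype.ext (permHom_injective ((MulAut.conj g0).injective
    (congrArg Subtype.val e)))
  have hno : ¬ 23 ∣ Nat.card ↥N := fun h23 => by
    obtain ⟨x, hx⟩ := exists_prime_orderOf_dvd_card' (G := ↥(stabilizer ↥M24 (none : GolayPt))) 23 (by rw [hc23]; norm_num)
    have hxN : θ x ∈ N := by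
      rw [← QuotientGroup.eq_one_iff, ← orderOf_eq_one_iff]
      have h1 : orderOf (QuotientGroup.mk (θ x) : ↥co2G ⧸ N) ∣ orderOf (θ x) :=
        orderOf_map_dvd (QuotientGroup.mk' N) (θ x)
      rw [orderOf_injective θ hθ x, hx] at h1
      rcases (Nat.dvd_prime (by norm_num : Nat.Prime 23)).1 h1 with e | e
      · exact e
      · exfalso
        have h2 : 23 ∣ Nat.card (↥co2G ⧸ N) := e ▸ orderOf_dvd_natCard _
        have h3 := Nat.mul_dvd_mul h2 h23
        rw [← Subgroup.card_eq_card_quotient_mul_card_subgroup N, card_co2G] at h3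
        norm_num at h3
    rcases hs23.eq_bot_or_eq_top_of_normal (N.comap θ) (hN.comap θ) with e | e
    · have hx1 : x = 1 := Subgroup.mem_bot.1 (e ▸ hxN)
      rw [hx1, orderOf_one] at hx
      norm_num at hx
    · have h1 : Nat.card ↥(stabilizer ↥M24 (none : GolayPt)) ∣ Nat.card ↥N :=
        Subgroup.card_dvd_of_injective (θ.codRestrict N fun σ => Subgroup.mem_comap.1 (e ▸ Subgroup.mem_top σ : σ ∈ N.comap θ))
          fun a b e' => hθ (congrArg Subtype.val e')
      rw [hc23] at h1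
      exact absurd (Nat.le_of_dvd (by norm_num) (h1.trans hdvd)) (by norm_num)
  have hp : IsPGroup 2 ↥N := by
    have h2 : Nat.card ↥N ∣ 2 ^ 11 := by
      have hco : Nat.Coprime (Nat.card ↥N) 23 := ((Nat.Prime.coprime_iff_not_dvd (by norm_num)).2 hno).symm
      exact hco.dvd_of_dvd_mul_right (by norm_num; exact hdvd)
    obtain ⟨k, -, hk⟩ := (Nat.dvd_prime_pow Nat.prime_two).1 h2
    exact IsPGroup.of_card hk
  haveI : Nontrivial ↥N := N.nontrivial_iff_ne_bot.2 hbot
  obtain ⟨k, hk⟩ := (IsPGroup.iff_card).1 (hp.to_subgroup (Subgroup.center ↥N))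
  haveI := hp.center_nontrivial
  have h1lt : 1 < Nat.card ↥(Subgroup.center ↥N) := Finite.one_lt_card
  obtain ⟨z, hz⟩ := exists_prime_orderOf_dvd_card' (G := ↥(Subgroup.center ↥N)) 2 (by
    rw [hk] at h1lt ⊢
    rcases k with _ | k
    · norm_num at h1lt
    · exact dvd_pow_self 2 (by omega))
  let A : Subgroup ↥co2G :=
    { carrier := {a | a ∈ N ∧ (∀ b ∈ N, a * b = b * a) ∧ a * a = 1}
      one_mem' := ⟨one_mem N, fun b _ => by group, one_mul 1⟩
      mul_mem' := fun {a b} ha hb => ⟨mul_mem ha.1 hb.1, fun c hc => by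
          rw [mul_assoc, hb.2.1 c hc, ← mul_assoc, ha.2.1 c hc, mul_assoc],
        by rw [mul_assoc, ← mul_assoc b a b, hb.2.1 a ha.1, mul_assoc, hb.2.2, mul_one, ha.2.2]⟩
      inv_mem' := fun {a} ha => by
        have : a⁻¹ = a := inv_eq_of_mul_eq_one_right ha.2.2
        rw [this]; exact ha }
  have hzA : ((z : ↥N) : ↥co2G) ∈ A := by
    refine ⟨(z : ↥N).2, fun b hb => ?_, ?_⟩
    · exact congrArg Subtype.val (Subgroup.mem_center_iff.1 z.2 ⟨b, hb⟩).symm
    · have := pow_orderOf_eq_one z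
      rw [hz, pow_two] at this
      exact congrArg (fun u : ↥(Subgroup.center ↥N) => ((u : ↥N) : ↥co2G)) this
  have hle : A.map co2G.subtype ≤ Subgroup.center ↥Co0 := by
    refine fixU_normal_le_center (Set.toFinite _) ?_ ?_ ?_ ?_
    · rintro _ ⟨a, -, rfl⟩
      exact Or.inl (mem_co2G.1 a.2)
    · intro g hg a ha
      obtain ⟨b, hb, rfl⟩ := ha
      have hgen : ∀ g' : ↥co2G, (g' : ↥Co0) * (b : ↥Co0) * (g' : ↥Co0)⁻¹ ∈ A.map co2G.subtype := fun g' => by
        refine ⟨g' * b * g'⁻¹, ⟨hN.conj_mem _ hb.1 g', fun c hc => ?_, ?_⟩, rfl⟩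
        · have h1 := hb.2.1 (g'⁻¹ * c * g') (by simpa using hN.conj_mem c hc g'⁻¹)
          calc g' * b * g'⁻¹ * c = g' * (b * (g'⁻¹ * c * g')) * g'⁻¹ := by group
            _ = g' * ((g'⁻¹ * c * g') * b) * g'⁻¹ := by rw [h1]
            _ = c * (g' * b * g'⁻¹) := by group
        · calc g' * b * g'⁻¹ * (g' * b * g'⁻¹) = g' * (b * b) * g'⁻¹ := by group
            _ = 1 := by rw [hb.2.2]; group
      rcases hg with e | e
      · exact hgen ⟨g, mem_co2G.2 e⟩
      · have hg' : negOne * g ∈ co2G := mem_co2G.2 (by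
          rw [ap_mul _ _ vecU_mem, e, ap_negOne (neg_mem vecU_mem), neg_neg])
        have hc := Subgroup.mem_center_iff.1 negOne_mem_center
        have h1 := hgen ⟨negOne * g, hg'⟩
        have : (negOne * g) * (b : ↥Co0) * (negOne * g)⁻¹ = g * (b : ↥Co0) * g⁻¹ := by
          calc (negOne * g) * (b : ↥Co0) * (negOne * g)⁻¹ = negOne * (g * (b : ↥Co0) * g⁻¹) * negOne⁻¹ := by group
            _ = (g * (b : ↥Co0) * g⁻¹) * negOne * negOne⁻¹ := by rw [hc]
            _ = _ := by group
        rw [this] at h1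
        exact h1
    · rintro _ ⟨a, ha, rfl⟩
      rw [← map_mul, ha.2.2, map_one]
      exact one_mem _
    · rintro _ ⟨a, ha, rfl⟩ _ ⟨b, hb, rfl⟩
      rw [← map_inv, ← map_inv, ← map_mul, ← map_mul, ← map_mul, ha.2.1 b hb.1]
      simp
  rcases center_eq.1 (hle ⟨_, hzA, rfl⟩) with e | e
  · have : z = 1 := Subtype.ext (Subtype.ext (Subtype.ext e))
    rw [this, orderOf_one] at hz
    norm_num at hz
  · exact negOne_not_mem (e ▸ ((z : ↥N) : ↥co2G).2)

end Normal

theorem isCo2_stab {v : ↥leechLattice} (hv : sqNorm (v : Vec) = 32) : IsCo2 ↥(stabilizer ↥Co0 v) := by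
  refine ⟨?_, card_stab32 v hv⟩
  haveI : Nontrivial ↥co2G := Finite.one_lt_card_iff_nontrivial.1 (by rw [card_co2G]; norm_num)
  haveI : IsSimpleGroup ↥co2G := ⟨fun N hN => @co2_normal_cases N hN⟩
  obtain ⟨g, hg⟩ := coEq_of_norm32 v.2 vecU_mem hv vecU_norm
  exact (stabilizerEquivStabilizer ((smul_eq_iff_ap g v co2U).2 hg).symm).isSimpleGroup

end

end Cfsg.Agent.LeechCount
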