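import Cfsg.Agent.Lib.LeechCount.Moments

/-!
The 552 minimal vectors at the least distance from the vector (-5, -1^23), as an explicit list, and
counts of its members by products with further vectors.
-/

set_option autoImplicit false

namespace Cfsg.Agent.LeechCount

open Cfsg Cfsg.Agent.Leech

noncomputable section

/-- The vector of a list of 24 entries. -/
def vecOf (l : List ℤ) : Vec := fun i => l.getD (Golay24.idx i).val 0

/-- Product of two lists. -/
def dotL (a b : List ℤ) : ℤ := (List.zipWith (· * ·) a b).sum

/-- The vector (-5, -1^23) as a list. -/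
def uList : List ℤ := (List.range 24).map fun j => if j = 23 then -5 else -1

/-- The members of the first two shapes. -/
def lowList : List (List ℤ) :=
  ((List.range 23).map fun k => (List.range 24).map fun j => if j = 23 ∨ j = k then -4 else 0) ++
    (((Golay24.weightList 8).filter fun m => m.testBit 23).map fun m =>
      (List.range 24).map fun j => if m.testBit j then -2 else 0)

/-- The 552 vectors. -/
def list552 : List (List ℤ) := lowList ++ lowList.map fun l => List.zipWith (· - ·) uList l

theorem vecOf_range (f : ℕ → ℤ) : vecOf ((List.range 24).map f) = fun i => f (Golay24.idx i).val := by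
  funext i
  simp [vecOf]

theorem vecOf_sub {a b : List ℤ} (ha : a.length = 24) (hb : b.length = 24) :
    vecOf (List.zipWith (· - ·) a b) = vecOf a - vecOf b := by
  funext i
  have h := (Golay24.idx i).isLt
  simp only [vecOf, Pi.sub_apply]
  rw [List.getD_eq_getElem _ _ (by simp [ha, hb]), List.getD_eq_getElem _ _ (by omega),
    List.getD_eq_getElem _ _ (by omega), List.getElem_zipWith]

theorem dot_vecOf {a b : List ℤ} (ha : a.length = 24) (hb : b.length = 24) :
    dotInt (vecOf a) (vecOf b) = dotL a b := by
  rw [dotInt, ← Equiv.sum_comp Golay24.ptEquiv.symm, dotL,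
    show List.zipWith (· * ·) a b = List.ofFn fun k : Fin 24 => a.getD k.val 0 * b.getD k.val 0 from ?_,
    List.sum_ofFn]
  · refine Finset.sum_congr rfl fun k _ => ?_
    show vecOf a (Golay24.pt k) * vecOf b (Golay24.pt k) = _
    simp [vecOf]
  · refine List.ext_getElem (by simp [ha, hb]) fun n h1 h2 => ?_
    rw [List.getElem_ofFn, List.getElem_zipWith, List.getD_eq_getElem, List.getD_eq_getElem]

theorem vecOf_inj {a b : List ℤ} (ha : a.length = 24) (hb : b.length = 24) (h : vecOf a = vecOf b) : a = b := by
  refine List.ext_getElem (ha.trans hb.symm) fun n h1 h2 => ?_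
  have := congrFun h (Golay24.pt ⟨n, by omega⟩)
  simpa [vecOf, List.getElem?_eq_getElem h1, List.getElem?_eq_getElem h2] using this

theorem uList_eq : vecOf uList = Spor.vecV := by
  rw [uList, vecOf_range]
  decide +kernel

theorem vecV_leech : Spor.vecV ∈ leechLattice := (mem_leech_iff _).2 ⟨1, vecV_latM⟩

theorem vecV_norm : sqNorm Spor.vecV = 48 := by decide +kernel

theorem uList_length : uList.length = 24 := by simp [uList]

theorem list552_check : list552.length = 552 ∧ list552.Nodup ∧
    (list552.all fun l => decide (l.length = 24) && decide (dotL l l = 32) && decide (dotL uList l = 24)) = true := by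
  decide +kernel

theorem lowList_mem : ∀ l ∈ lowList, vecOf l ∈ leechLattice ∧ l.length = 24 := by
  intro l hl
  rcases List.mem_append.1 hl with h | h <;> obtain ⟨k, hk, rfl⟩ := List.mem_map.1 h
  · refine ⟨?_, by simp⟩
    rw [List.mem_range] at hk
    have hne : Golay24.pt ⟨23, by omega⟩ ≠ Golay24.pt ⟨k, by omega⟩ := fun e => by
      have := congrArg (fun x => (Golay24.idx x).val) e
      simp at this
      omega
    convert neg_mem (e44_mem hne) using 1
    rw [vecOf_range]
    funext i
    have e : ∀ (n : ℕ) (hn : n < 24), (Golay24.idx i).val = n ↔ i = Golay24.pt ⟨n, hn⟩ := fun n hn =>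
      ⟨fun h => by rw [← Golay24.pt_idx i]; congr 1; exact Fin.ext h, fun h => by rw [h]; simp⟩
    simp only [Pi.neg_apply, e44, e 23 (by omega), e k (by omega)]
    split_ifs <;> rfl
  · refine ⟨?_, by simp⟩
    have hC : InC (Golay24.setOf k) := by
      show _ ∈ supports _
      have hk' := List.mem_of_mem_filter hk
      rw [Golay24.mem_supports_iff, Golay24.maskOf_setOf (Golay24.weightList_lt hk')]
      exact List.mem_of_mem_filter hk'
    convert neg_mem ((mem_leech_iff _).2 ⟨0, (twoVec_latM hC).1⟩) using 1
    rw [vecOf_range]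
    funext i
    simp only [Pi.neg_apply, twoVec, Golay24.mem_setOf]
    split_ifs <;> rfl

theorem list552_mem : ∀ l ∈ list552, vecOf l ∈ leechLattice ∧ l.length = 24 ∧ dotL l l = 32 ∧ dotL uList l = 24 := by
  intro l hl
  have h := List.all_eq_true.1 list552_check.2.2 l hl
  simp only [Bool.and_eq_true, decide_eq_true_eq] at h
  refine ⟨?_, h.1.1, h.1.2, h.2⟩
  rcases List.mem_append.1 hl with h' | h'
  · exact (lowList_mem l h').1
  · obtain ⟨a, ha, rfl⟩ := List.mem_map.1 h'
    rw [vecOf_sub uList_length (lowList_mem a ha).2, uList_eq]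
    exact sub_mem vecV_leech (lowList_mem a ha).1

theorem vecOf_injOn : Set.InjOn vecOf {l : List ℤ | l ∈ list552} := fun a ha b hb h =>
  vecOf_inj (list552_mem a ha).2.1 (list552_mem b hb).2.1 h

theorem dotFS_vecV : dotFS 24 Spor.vecV = (list552.map vecOf).toFinset := by
  refine (Finset.eq_of_subset_of_card_le (fun x hx => ?_) ?_).symm
  · rw [List.mem_toFinset, List.mem_map] at hx
    obtain ⟨l, hl, rfl⟩ := hx
    obtain ⟨hm, hlen, hn, hd⟩ := list552_mem l hl
    refine mem_dotFS.2 ⟨⟨hm, ?_⟩, ?_⟩
    · rw [← hn, ← dot_vecOf hlen hlen]; simp [sqNorm, dotInt, pow_two]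
    · rw [← uList_eq, dot_vecOf uList_length hlen, hd]
  · rw [card_dot_twentyfour vecV_leech vecV_norm,
      List.toFinset_card_of_nodup (list552_check.2.1.map_on fun a ha b hb h => vecOf_injOn ha hb h),
      List.length_map, list552_check.1]

/-- Counting the 552 vectors by further conditions through the list. -/
theorem card_filter552 (P : Vec → Prop) [DecidablePred P] (Q : List ℤ → Bool)
    (h : ∀ l ∈ list552, P (vecOf l) ↔ Q l = true) :
    ((dotFS 24 Spor.vecV).filter P).card = (list552.filter Q).length := by
  rw [dotFS_vecV, List.filter_toFinset,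
    List.toFinset_card_of_nodup ((list552_check.2.1.map_on fun a ha b hb e => vecOf_injOn ha hb e).filter _),
    List.filter_map, List.length_map]
  exact congrArg List.length (List.filter_congr fun l hl => by
    rw [Bool.eq_iff_iff, Function.comp_apply, decide_eq_true_eq]; exact h l hl)

theorem card_dot_pair {a : Vec} {aL : List ℤ} (ha : vecOf aL = a) (hl : aL.length = 24) (c : ℤ) :
    ((dotFS 24 Spor.vecV).filter fun x => dotInt a x = c).card = (list552.filter fun l => dotL aL l == c).length :=
  card_filter552 _ _ fun l hl' => by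
    rw [beq_iff_eq, ← ha, dot_vecOf hl (list552_mem l hl').2.1]

end

end Cfsg.Agent.LeechCount
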