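import Cfsg.Agent.Lib.LeechCount.Counts
import Mathlib.GroupTheory.Index
import Mathlib.Data.ZMod.Basic

/-!
The index of the lattice in the integer vectors, and of twice the lattice in the lattice.
-/

set_option autoImplicit false

namespace Cfsg.Agent.LeechCount

open Cfsg Cfsg.Agent.Leech

noncomputable section

/-- Residue lists. -/
def resVals (m : ℤ) : Bool → List ℤ
  | false => [m, m + 4]
  | true => [m + 2, m + 6]

/-- The residue vectors of the lattice. -/
def resSet : Set Vec := {x | x ∈ leechLattice ∧ ∀ i, 0 ≤ x i ∧ x i < 8}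

theorem resVals_sound : ∀ m ∈ ({0, 1} : Finset ℤ), ∀ b, (resVals m b).Nodup ∧ ∀ v ∈ resVals m b,
    (2 : ℤ) ∣ v - m ∧ (b = true ↔ ¬ (4 : ℤ) ∣ v - m) ∧ 0 ≤ v ∧ v < 8 := by
  decide +kernel

theorem resVals_iff : ∀ m ∈ ({0, 1} : Finset ℤ), ∀ v ∈ Finset.Icc (0 : ℤ) 7, (2 : ℤ) ∣ v - m →
    v ∈ resVals m (decide (¬ (4 : ℤ) ∣ v - m)) := by
  decide +kernel

theorem res_part (m : ℤ) (hm : m ∈ ({0, 1} : Finset ℤ)) :
    {x : Vec | LatM m x ∧ ∀ i, 0 ≤ x i ∧ x i < 8} = part m (fun _ => resVals m) (fun _ => 0) 0 := by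
  ext x
  simp only [part, Finset.sum_const_zero, and_true]
  constructor
  · rintro ⟨hx, hb⟩
    refine ⟨hx, fun i => ?_⟩
    have := resVals_iff m hm (x i) (Finset.mem_Icc.2 ⟨(hb i).1, by have := (hb i).2; omega⟩) (hx.1 i)
    simpa [mem_pat] using this
  · rintro ⟨hx, hW⟩
    exact ⟨hx, fun i => ((resVals_sound m hm _).2 _ (hW i)).2.2⟩

theorem resSet_ncard : resSet.ncard = 2 ^ 36 := by
  have hfin : ∀ m : ℤ, {x : Vec | LatM m x ∧ ∀ i, 0 ≤ x i ∧ x i < 8}.Finite := fun m =>
    (Set.Finite.pi' fun _ : GolayPt => Set.finite_Icc (0 : ℤ) 8).subset fun x hx i =>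
      ⟨(hx.2 i).1, (hx.2 i).2.le⟩
  have hsplit : resSet = {x : Vec | LatM 0 x ∧ ∀ i, 0 ≤ x i ∧ x i < 8} ∪
      {x : Vec | LatM 1 x ∧ ∀ i, 0 ≤ x i ∧ x i < 8} := by
    ext x
    constructor
    · rintro ⟨hx, hb⟩
      rcases exists_witness hx with h | h
      exacts [Or.inl ⟨h, hb⟩, Or.inr ⟨h, hb⟩]
    · rintro (⟨hl, hb⟩ | ⟨hl, hb⟩) <;> exact ⟨(mem_leech_iff x).2 ⟨_, hl⟩, hb⟩
  rw [hsplit, Set.ncard_union_eq ?_ (hfin 0) (hfin 1), res_part 0 (by simp), res_part 1 (by simp),
    ncard_part_flat (a := 8388608) (b := 8388608) (c := 8388608) (d := 8388608) (f := 8388608) 0 rfl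
      (fun b => (resVals_sound 0 (by simp) b).1)
      (fun b v hv => ⟨((resVals_sound 0 (by simp) b).2 v hv).1, ((resVals_sound 0 (by simp) b).2 v hv).2.1⟩)
      (by decide +kernel),
    ncard_part_flat (a := 8388608) (b := 8388608) (c := 8388608) (d := 8388608) (f := 8388608) 4 rfl
      (fun b => (resVals_sound 1 (by simp) b).1)
      (fun b v hv => ⟨((resVals_sound 1 (by simp) b).2 v hv).1, ((resVals_sound 1 (by simp) b).2 v hv).2.1⟩)
      (by decide +kernel)]
  · norm_num
  · rw [Set.disjoint_left]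
    rintro x ⟨h0, -⟩ ⟨h1, -⟩
    have a := h0.1 none
    have b := h1.1 none
    omega

/-- Reduction modulo eight. -/
def redEight : Vec →+ (GolayPt → ZMod 8) where
  toFun x i := (x i : ZMod 8)
  map_zero' := funext fun i => by simp
  map_add' x y := funext fun i => by simp

theorem eight_mem {x : Vec} (h : ∀ i, (8 : ℤ) ∣ x i) : x ∈ leechLattice :=
  (mem_leech_iff _).2 ⟨0, (four_dvd_mem h).1⟩
where
  four_dvd_mem {x : Vec} (h : ∀ i, (8 : ℤ) ∣ x i) : LatM 0 x ∧ True := by
    have hp : pat 0 x = ∅ := Finset.eq_empty_of_forall_notMem fun i hi => by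
      rw [mem_pat] at hi; have := h i; omega
    exact ⟨⟨fun i => by have := h i; omega, by rw [mul_zero, sub_zero]; exact Finset.dvd_sum fun i _ => h i, hp ▸ InC_empty⟩, trivial⟩

theorem leech_index : leechLattice.index = 2 ^ 36 := by
  have hsurj : Function.Surjective redEight := fun f =>
    ⟨fun i => ((f i).val : ℤ), funext fun i => by simp [redEight]⟩
  have hker : redEight.ker ≤ leechLattice := fun x hx => eight_mem fun i => by
    have := congrFun ((AddMonoidHom.mem_ker).1 hx) i
    exact (ZMod.intCast_zmod_eq_zero_iff_dvd (x i) 8).1 this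
  have h := (leechLattice.map redEight).card_mul_index
  have hidx : (leechLattice.map redEight).index = leechLattice.index := by
    rw [AddSubgroup.index_map, AddMonoidHom.range_eq_top.2 hsurj, AddSubgroup.index_top, mul_one,
      sup_eq_left.2 hker]
  have hcard : Nat.card (leechLattice.map redEight) = 2 ^ 36 := by
    rw [← resSet_ncard, ← SetLike.coe_sort_coe, Nat.card_coe_set_eq]
    refine (Set.ncard_congr (fun x _ => redEight x) (fun x hx => show redEight x ∈ (leechLattice.map redEight : Set _) from ⟨x, hx.1, rfl⟩) (fun a b ha hb e => ?_) ?_).symm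
    · funext i
      have e1 := congrFun e i
      have h8 := (ZMod.intCast_eq_intCast_iff' (a i) (b i) 8).1 e1
      obtain ⟨a0, a1⟩ := ha.2 i
      obtain ⟨b0, b1⟩ := hb.2 i
      omega
    · rintro _ ⟨y, hy, rfl⟩
      refine ⟨fun i => y i % 8, ⟨?_, fun i => ⟨Int.emod_nonneg _ (by norm_num), Int.emod_lt_of_pos _ (by norm_num)⟩⟩, funext fun i => by simp [redEight]; exact (ZMod.intCast_mod (y i) 8)⟩
      have h2 : (fun i => y i % 8) = y - (fun i => 8 * (y i / 8)) := funext fun i => by
        simp only [Pi.sub_apply]; omega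
      rw [h2]
      exact sub_mem hy (eight_mem fun i => dvd_mul_right _ _)
  rw [hcard, hidx, Nat.card_pi] at h
  simp only [Nat.card_zmod, Finset.prod_const, Finset.card_univ, card_pt] at h
  norm_num at h ⊢
  omega

/-- Reduction modulo two. -/
def redTwo : Vec →+ (GolayPt → ZMod 2) where
  toFun x i := (x i : ZMod 2)
  map_zero' := funext fun i => by simp
  map_add' x y := funext fun i => by simp

/-- Doubling. -/
def dblHom : Vec →+ Vec where
  toFun x := 2 • x
  map_zero' := smul_zero 2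
  map_add' x y := smul_add 2 x y

theorem double_relIndex : (leechLattice.map dblHom).relIndex leechLattice = 2 ^ 24 := by
  have hle : leechLattice.map dblHom ≤ leechLattice := by
    rintro _ ⟨z, hz, rfl⟩; exact nsmul_mem hz 2
  have hinj : dblHom.ker = ⊥ := (AddMonoidHom.ker_eq_bot_iff _).2 fun x y h => funext fun i => by
    have := congrFun h i
    simp only [dblHom, AddMonoidHom.coe_mk, ZeroHom.coe_mk, two_nsmul, Pi.add_apply] at this
    omega
  have hr : dblHom.range = redTwo.ker := by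
    ext x
    constructor
    · rintro ⟨y, rfl⟩
      rw [AddMonoidHom.mem_ker]
      funext i
      have : (2 : ZMod 2) = 0 := rfl
      simp [redTwo, dblHom, this]
    · intro hx
      refine ⟨fun i => x i / 2, funext fun i => ?_⟩
      have := (ZMod.intCast_zmod_eq_zero_iff_dvd (x i) 2).1 (congrFun ((AddMonoidHom.mem_ker).1 hx) i)
      simp only [dblHom, AddMonoidHom.coe_mk, ZeroHom.coe_mk, two_nsmul, Pi.add_apply]
      omega
  have hsurj : Function.Surjective redTwo := fun f =>
    ⟨fun i => ((f i).val : ℤ), funext fun i => by simp [redTwo]⟩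
  have h2 : dblHom.range.index = 2 ^ 24 := by
    rw [hr, AddSubgroup.index_ker, AddMonoidHom.range_eq_top.2 hsurj, AddSubgroup.card_top, Nat.card_pi]
    simp [Nat.card_zmod, card_pt]
  have h := AddSubgroup.relIndex_mul_index hle
  rw [AddSubgroup.index_map, hinj, sup_bot_eq, h2, leech_index] at h
  exact Nat.eq_of_mul_eq_mul_right (by positivity : 0 < 2 ^ 36) (h.trans (mul_comm _ _))

end

end Cfsg.Agent.LeechCount
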