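import Cfsg.Agent.Lib.LeechCount.Config
import Cfsg.Agent.Lib.Golay.OctadStab

/-!
The McLaughlin configuration: 275 points, with their two further orbits of 112 and 162.
-/

set_option autoImplicit false

namespace Cfsg.Agent.LeechCount

open Cfsg Cfsg.Agent.Leech
open scoped symmDiff Pointwise

noncomputable section

attribute [local irreducible] normFS

/-- Octads through two points avoiding a third form one orbit of the stabiliser of the three. -/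
theorem octad_pair_avoid {p q r r' : GolayPt} (hpq : p ≠ q) {O O' : Finset GolayPt} (hO : InC O) (h8 : O.card = 8)
    (hO' : InC O') (h8' : O'.card = 8) (hp : p ∈ O) (hq : q ∈ O) (hr : r ∉ O) (hp' : p ∈ O') (hq' : q ∈ O')
    (hr' : r' ∉ O') :
    ∃ σ : Equiv.Perm GolayPt, σ ∈ M24 ∧ σ p = p ∧ σ q = q ∧ σ r = r' ∧ ∀ i, σ i ∈ O' ↔ i ∈ O := by
  have hget : ∀ S : Finset GolayPt, S.card = 8 → p ∈ S → q ∈ S → ∃ f : Fin 5 ↪ GolayPt, f 0 = p ∧ f 1 = q ∧ ∀ k, f k ∈ S := by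
    intro S hS hpS hqS
    obtain ⟨T, hT, hT3⟩ := Finset.exists_subset_card_eq (n := 3) (s := (S.erase p).erase q) (by
      rw [Finset.card_erase_of_mem (Finset.mem_erase.2 ⟨Ne.symm hpq, hqS⟩), Finset.card_erase_of_mem hpS, hS]
      norm_num)
    obtain ⟨a, b, c, hab, hac, hbc, rfl⟩ := Finset.card_eq_three.1 hT3
    have hm : ∀ z ∈ ({a, b, c} : Finset GolayPt), z ∈ S ∧ z ≠ p ∧ z ≠ q := fun z hz => by
      have := hT hz
      simp only [Finset.mem_erase] at this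
      exact ⟨this.2.2, this.2.1, this.1⟩
    obtain ⟨ha1, ha2, ha3⟩ := hm a (by simp)
    obtain ⟨hb1, hb2, hb3⟩ := hm b (by simp)
    obtain ⟨hc1, hc2, hc3⟩ := hm c (by simp)
    refine ⟨⟨![p, q, a, b, c], ?_⟩, rfl, rfl, ?_⟩
    · intro i j
      fin_cases i <;> fin_cases j <;> simp_all [eq_comm]
    · intro k
      fin_cases k <;> assumption
  obtain ⟨f, f0, f1, fS⟩ := hget O h8 hp hq
  obtain ⟨g, g0, g1, gS⟩ := hget O' h8' hp' hq'
  obtain ⟨σ, hσ, hs⟩ := Golay24.exists_five_map f g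
  have himg : O.image σ = O' := by
    have hC := (M24_map hσ O).2 hO
    have hc8 : (O.image σ).card = 8 := by rw [Finset.card_image_of_injective _ σ.injective, h8]
    have h5 : (Finset.univ.map g) ⊆ O.image σ ∩ O' := by
      intro z hz
      obtain ⟨k, -, rfl⟩ := Finset.mem_map.1 hz
      exact Finset.mem_inter.2 ⟨Finset.mem_image.2 ⟨f k, fS k, hs k⟩, gS k⟩
    have := Finset.card_le_card h5
    rw [Finset.card_map, Finset.card_univ, Fintype.card_fin] at this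
    have h4 := card_symmDiff_add (O.image σ) O'
    rw [hc8, h8'] at h4
    rcases InC_weights (InC_symmDiff hC hO') with e | e | e | e | e
    · exact symmDiff_eq_bot.1 (Finset.card_eq_zero.1 e)
    all_goals omega
  have hsr : σ r ∉ O' := fun h => by
    rw [← himg, Finset.mem_image] at h
    obtain ⟨z, hz, he⟩ := h
    exact hr (σ.injective he ▸ hz)
  obtain ⟨-, htr, -⟩ := Golay24.octFix_spec (o := O') ⟨hO', h8'⟩
  obtain ⟨k, hk, hkr⟩ := htr _ hsr r' hr'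
  rw [Golay24.mem_octFix] at hk
  have hiff : ∀ i, σ i ∈ O' ↔ i ∈ O := fun i => by
    rw [← himg]; simp
  refine ⟨k * σ, M24.mul_mem hk.1 hσ, ?_, ?_, hkr, fun i => ?_⟩
  · rw [Equiv.Perm.mul_apply, ← f0, hs, g0, hk.2 _ hp', f0]
  · rw [Equiv.Perm.mul_apply, ← f1, hs, g1, hk.2 _ hq', f1]
  · rw [Equiv.Perm.mul_apply, ← hiff i]
    constructor
    · intro h
      have h2 : k (k (σ i)) = k (σ i) := hk.2 _ h
      rw [← k.injective h2]; exact h
    · intro h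
      rw [hk.2 _ h]; exact h

/-- Moving an odd reading by a permutation of the code, keeping ratios with it. -/
theorem perm_reading {x y : Vec} (hx : x ∈ leechLattice) (hy : y ∈ leechLattice) (hp : x fP = y fP)
    (hq : x fQ = y fQ) (hodd : ¬ (2 : ℤ) ∣ x fP) (hxn : sqNorm x = x fP ^ 2 + x fQ ^ 2 + 22)
    (hyn : sqNorm y = y fP ^ 2 + y fQ ^ 2 + 22) {σ : Equiv.Perm GolayPt} (hσ : σ ∈ M24) (hσP : σ fP = fP)
    (hσQ : σ fQ = fQ) :
    ∃ k : ↥Co0, ap k (e44 fP fQ) = e44 fP fQ ∧ ap k (d44 fP fQ) = d44 fP fQ ∧ ap k x = y ∧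
      ∀ z ∈ leechLattice, ∀ z' : Vec, (∀ i, z i * y (σ i) = z' (σ i) * x i) → ap k z = z' := by
  have hx' := ap_mem (permCo σ hσ) hx
  have hvalP : ap (permCo σ hσ) x fP = x fP := by rw [ap_permCo hσ hx, σ.symm_apply_eq.2 hσP.symm]
  have hvalQ : ap (permCo σ hσ) x fQ = x fQ := by rw [ap_permCo hσ hx, σ.symm_apply_eq.2 hσQ.symm]
  have hx1 : LatM 1 (ap (permCo σ hσ) x) := latM_of_mem hx' (i := fP) (by rw [hvalP]; omega)
  have hy1 : LatM 1 y := latM_of_mem hy (i := fP) (by rw [← hp]; omega)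
  obtain ⟨S, hS, he, hne⟩ := signs_odd hx' hy fun i => by
    by_cases h1 : i = fP
    · exact Or.inl (by rw [h1, hvalP, hp])
    by_cases h2 : i = fQ
    · exact Or.inl (by rw [h2, hvalQ, hq])
    rcases abs_one_others hx1 fP_ne_fQ (by rw [ap_norm _ hx, hvalP, hvalQ, hxn]) i h1 h2 with e | e <;>
      rcases abs_one_others hy1 fP_ne_fQ hyn i h1 h2 with e' | e' <;> simp [e, e']
  have hSP : fP ∉ S := fun h => hne fP h (by rw [hvalP, hp])
  have hSQ : fQ ∉ S := fun h => hne fQ h (by rw [hvalQ, hq])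
  have hfix : ∀ z : Vec, (∀ i, i ≠ fP → i ≠ fQ → z i = 0) → z ∈ leechLattice →
      ap (signCo S hS) z = z := fun z hz hzm => funext fun i => by
    rw [ap_signCo hS hzm]
    by_cases hi : i ∈ S
    · rw [if_pos hi, hz i (fun e => hSP (e ▸ hi)) (fun e => hSQ (e ▸ hi)), neg_zero]
    · rw [if_neg hi]
  refine ⟨signCo S hS * permCo σ hσ, ?_, ?_, ?_, fun z hz z' h => funext fun j => ?_⟩
  · rw [ap_mul _ _ (e44_mem fP_ne_fQ), perm_e44 hσ fP_ne_fQ, hσP, hσQ]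
    exact hfix _ (fun i h1 h2 => by simp [e44, h1, h2]) (e44_mem fP_ne_fQ)
  · rw [ap_mul _ _ (d44_mem fP_ne_fQ), show ap (permCo σ hσ) (d44 fP fQ) = d44 fP fQ from funext fun j => by
      rw [ap_permCo hσ (d44_mem fP_ne_fQ)]
      simp only [d44, σ.symm_apply_eq, hσP, hσQ]]
    exact hfix _ (fun i h1 h2 => by simp [d44, h1, h2]) (d44_mem fP_ne_fQ)
  · rw [ap_mul _ _ hx, he]
  · have h1 := h (σ.symm j)
    rw [σ.apply_symm_apply] at h1
    have h2 : y j = if j ∈ S then -x (σ.symm j) else x (σ.symm j) := by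
      rw [← he, ap_signCo hS hx', ap_permCo hσ hx]
    have hne0 : x (σ.symm j) ≠ 0 := by
      have h3 := hx1.1 j
      rw [ap_permCo hσ hx] at h3
      omega
    rw [ap_mul _ _ hz, ap_signCo hS (ap_mem _ hz), ap_permCo hσ hz]
    rw [h2] at h1
    by_cases hj : j ∈ S
    · rw [if_pos hj] at h1 ⊢
      exact mul_right_cancel₀ hne0 (by rw [← h1]; ring)
    · rw [if_neg hj] at h1 ⊢
      exact mul_right_cancel₀ hne0 h1

/-- In the frame, a point of the configuration is (0, 4) and four times the base entry at one more place. -/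
theorem point_shape {w x : Vec} (hw : w ∈ leechLattice) (hwn : sqNorm w = 32) (hwP : w fP = -3) (hwQ : w fQ = 1)
    (hx : x ∈ leechLattice) (hxn : sqNorm x = 32) (hxP : x fP = 0) (hxQ : x fQ = 4) (hd : dotInt w x = 8) :
    ∃ r, r ≠ fP ∧ r ≠ fQ ∧ x r = 4 * w r ∧ ∀ i, i ≠ fP → i ≠ fQ → i ≠ r → x i = 0 := by
  obtain ⟨r, hrP, hrQ, hr, hr0⟩ := sixteen_shape (neg_mem hx) (by rw [sqNorm_neg, hxn]) (by simp [hxP])
    (by simp [hxQ])
  have h0 : ∀ i, i ≠ fP → i ≠ fQ → i ≠ r → x i = 0 := fun i a b c => by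
    have := hr0 i a b c; simpa using this
  refine ⟨r, hrP, hrQ, ?_, h0⟩
  have hsum : dotInt w x = 4 + w r * x r := by
    rw [dotInt, ← Finset.add_sum_erase _ _ (Finset.mem_univ fQ), ← Finset.add_sum_erase _ _
      (Finset.mem_erase.2 ⟨hrQ, Finset.mem_univ r⟩), Finset.sum_eq_zero fun i hi => ?_, hwQ, hxQ]
    · ring
    · obtain ⟨hir, hiQ⟩ : i ≠ r ∧ i ≠ fQ := by simpa using hi
      by_cases hiP : i = fP
      · rw [hiP, hxP, mul_zero]
      · rw [h0 i hiP hiQ hir, mul_zero]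
  have hw1 := abs_one_others (latM_of_mem hw (i := fP) (by rw [hwP]; norm_num)) fP_ne_fQ
    (by rw [hwn, hwP, hwQ]; norm_num) r hrP hrQ
  simp only [Pi.neg_apply] at hr
  rcases hw1 with e | e <;> rw [e] at hsum ⊢ <;> omega

/-- In the frame, a point at product 8 is (2, 2) and twice the base entries on an octad. -/
theorem edge_shape {w y : Vec} (hw : w ∈ leechLattice) (hwn : sqNorm w = 32) (hwP : w fP = -3) (hwQ : w fQ = 1)
    (hy : y ∈ leechLattice) (hyn : sqNorm y = 32) (hyP : y fP = 2) (hyQ : y fQ = 2) (hd : dotInt w y = 8) :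
    ∃ O, InC O ∧ O.card = 8 ∧ fP ∈ O ∧ fQ ∈ O ∧ ∀ i, i ≠ fP → i ≠ fQ → y i = if i ∈ O then 2 * w i else 0 := by
  have h : LatM 0 y := (exists_witness hy).resolve_right fun h => by have := h.1 fP; omega
  obtain ⟨hc, h2⟩ := pat_abs_two h (by omega)
  have hP : fP ∈ pat 0 y := mem_pat.2 (by rw [hyP]; decide)
  have hQ : fQ ∈ pat 0 y := mem_pat.2 (by rw [hyQ]; decide)
  have h8 := hc.resolve_left fun e => by simp [e] at hP
  have hsplit := Finset.sum_sdiff (f := fun i => y i ^ 2) (Finset.subset_univ (pat 0 y))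
  have hpatsum : ∑ i ∈ pat 0 y, y i ^ 2 = 4 * ((pat 0 y).card : ℤ) := by
    rw [Finset.sum_congr rfl fun i hi => show y i ^ 2 = 4 by rw [← sq_abs, h2 i hi]; norm_num]
    simp [mul_comm]
  change _ = sqNorm y at hsplit
  rw [hpatsum, hyn] at hsplit
  have hnn : (0 : ℤ) ≤ ∑ i ∈ Finset.univ \ pat 0 y, y i ^ 2 := Finset.sum_nonneg fun i _ => sq_nonneg _
  have hcard : (pat 0 y).card = 8 := by omega
  have hz : ∀ i ∉ pat 0 y, y i = 0 := fun i hi => by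
    have h0 : ∑ i ∈ Finset.univ \ pat 0 y, y i ^ 2 = 0 := by omega
    exact pow_eq_zero_iff two_ne_zero |>.1
      ((Finset.sum_eq_zero_iff_of_nonneg fun i _ => sq_nonneg (y i)).1 h0 i (by simp [hi]))
  have hw1 : LatM 1 w := latM_of_mem hw (i := fP) (by rw [hwP]; norm_num)
  have hone := abs_one_others hw1 fP_ne_fQ (by rw [hwn, hwP, hwQ]; norm_num)
  refine ⟨pat 0 y, h.2.2, hcard, hP, hQ, fun i hiP hiQ => ?_⟩
  by_cases hi : i ∈ pat 0 y
  · rw [if_pos hi]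
    by_contra hne
    have hdot : dotInt w y = ∑ j ∈ pat 0 y, w j * y j :=
      (Finset.sum_subset (Finset.subset_univ _) fun j _ hj => by rw [hz j hj, mul_zero]).symm
    rw [hd, ← Finset.add_sum_erase _ _ hP, ← Finset.add_sum_erase _ _ (Finset.mem_erase.2 ⟨Ne.symm fP_ne_fQ, hQ⟩),
      hwP, hyP, hwQ, hyQ] at hdot
    have hle : ∀ j ∈ ((pat 0 y).erase fP).erase fQ, w j * y j ≤ 2 := fun j hj => by
      obtain ⟨hjQ, hjP, hjy⟩ : j ≠ fQ ∧ j ≠ fP ∧ j ∈ pat 0 y := by simpa using hj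
      have e2 := h2 j hjy
      rcases hone j hjP hjQ with e | e <;> rw [e] <;>
        rcases abs_cases (y j) with ⟨e', _⟩ | ⟨e', _⟩ <;> omega
    have himem : i ∈ ((pat 0 y).erase fP).erase fQ := by simp [hiP, hiQ, hi]
    rw [← Finset.add_sum_erase _ _ himem] at hdot
    have hrest := Finset.sum_le_card_nsmul ((((pat 0 y).erase fP).erase fQ).erase i) (fun j => w j * y j) 2
      fun j hj => hle j (Finset.mem_of_mem_erase hj)
    rw [Finset.card_erase_of_mem himem, Finset.card_erase_of_mem (Finset.mem_erase.2 ⟨Ne.symm fP_ne_fQ, hQ⟩),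
      Finset.card_erase_of_mem hP, hcard, nsmul_eq_mul] at hrest
    norm_num at hrest
    have hi2 := h2 i hi
    rcases hone i hiP hiQ with e | e <;> rw [e] at hne hdot <;>
      rcases abs_cases (y i) with ⟨e', _⟩ | ⟨e', _⟩ <;> omega
  · rw [if_neg hi]; exact hz i hi

/-- The frame conditions on (v, t, w, x). -/
structure Seen (v t w x : Vec) : Prop where
  mv : v ∈ leechLattice
  nv : sqNorm v = 32
  mt : t ∈ leechLattice
  nt : sqNorm t = 32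
  vt : dotInt v t = 0
  mw : w ∈ leechLattice
  nw : sqNorm w = 32
  vw : dotInt v w = -8
  tw : dotInt t w = -16
  mx : x ∈ leechLattice
  nx : sqNorm x = 32
  vx : dotInt v x = 16
  wx : dotInt w x = 8
  tx : dotInt t x = -16

theorem Seen.read {v t w x : Vec} (h : Seen v t w x) :
    ∃ g : ↥Co0, ap g v = e44 fP fQ ∧ ap g t = d44 fP fQ ∧ ap g w fP = -3 ∧ ap g w fQ = 1 ∧
      ap g x fP = 0 ∧ ap g x fQ = 4 ∧ dotInt (ap g w) (ap g x) = 8 := by
  obtain ⟨g, g1, g2⟩ := exists_frame h.mv h.nv h.mt h.nt h.vt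
  have e : ∀ z ∈ leechLattice, 4 * (ap g z fP + ap g z fQ) = dotInt v z ∧
      4 * (ap g z fP - ap g z fQ) = dotInt t z := fun z hz => by
    refine ⟨?_, ?_⟩
    · rw [← dotAny_e44 _ fP_ne_fQ, ← g1, ap_dot g hz h.mv, dot_comm]
    · rw [← dotAny_d44 _ fP_ne_fQ, ← g2, ap_dot g hz h.mt, dot_comm]
  have a := e w h.mw
  have b := e x h.mx
  rw [h.vw, h.tw] at a
  rw [h.vx, h.tx] at b
  exact ⟨g, g1, g2, by omega, by omega, by omega, by omega, by rw [ap_dot g h.mw h.mx, h.wx]⟩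

theorem Seen.trans_point {v t w x v' t' w' x' : Vec} (h : Seen v t w x) (h' : Seen v' t' w' x') :
    ∃ g : ↥Co0, ap g v = v' ∧ ap g t = t' ∧ ap g w = w' ∧ ap g x = x' := by
  obtain ⟨g, g1, g2, g3, g4, g5, g6, g7⟩ := h.read
  obtain ⟨f, f1, f2, f3, f4, f5, f6, f7⟩ := h'.read
  have hw := ap_mem g h.mw
  have hw' := ap_mem f h'.mw
  obtain ⟨r, hrP, hrQ, hr, hr0⟩ := point_shape hw (by rw [ap_norm g h.mw, h.nw]) g3 g4 (ap_mem g h.mx)
    (by rw [ap_norm g h.mx, h.nx]) g5 g6 g7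
  obtain ⟨s, hsP, hsQ, hs, hs0⟩ := point_shape hw' (by rw [ap_norm f h'.mw, h'.nw]) f3 f4 (ap_mem f h'.mx)
    (by rw [ap_norm f h'.mx, h'.nx]) f5 f6 f7
  obtain ⟨σ, hσ, hσi⟩ := Golay24.exists_map_le_five (by norm_num : (3 : ℕ) ≤ 5)
    ⟨![fP, fQ, r], by intro a b; fin_cases a <;> fin_cases b <;> simp_all [eq_comm]⟩
    ⟨![fP, fQ, s], by intro a b; fin_cases a <;> fin_cases b <;> simp_all [eq_comm]⟩
  have hσP : σ fP = fP := hσi 0
  have hσQ : σ fQ = fQ := hσi 1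
  have hσr : σ r = s := hσi 2
  obtain ⟨k, k1, k2, k3, k4⟩ := perm_reading hw hw' (by rw [g3, f3]) (by rw [g4, f4]) (by rw [g3]; decide)
    (by rw [ap_norm g h.mw, h.nw, g3, g4]; norm_num) (by rw [ap_norm f h'.mw, h'.nw, f3, f4]; norm_num) hσ hσP hσQ
  have kx : ap k (ap g x) = ap f x' := k4 _ (ap_mem g h.mx) _ fun i => by
    by_cases i1 : i = fP
    · subst i1; rw [hσP, g5, f5]; ring
    by_cases i2 : i = fQ
    · subst i2; rw [hσQ, g6, f6, g4, f4]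
    by_cases i3 : i = r
    · subst i3; rw [hσr, hr, hs]; ring
    · rw [hr0 i i1 i2 i3, hs0 _ (fun e => i1 (σ.injective (e.trans hσP.symm)))
        (fun e => i2 (σ.injective (e.trans hσQ.symm))) (fun e => i3 (σ.injective (e.trans hσr.symm)))]
      ring
  refine ⟨f⁻¹ * k * g, ?_, ?_, ?_, ?_⟩
  · rw [ap_mul _ _ h.mv, g1, ap_mul _ _ (e44_mem fP_ne_fQ), k1, ← f1, ap_inv_ap f h'.mv]
  · rw [ap_mul _ _ h.mt, g2, ap_mul _ _ (d44_mem fP_ne_fQ), k2, ← f2, ap_inv_ap f h'.mt]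
  · rw [ap_mul _ _ h.mw, ap_mul _ _ hw, k3, ap_inv_ap f h'.mw]
  · rw [ap_mul _ _ h.mx, ap_mul _ _ (ap_mem g h.mx), kx, ap_inv_ap f h'.mx]

theorem Seen.trans_far {v t w x y v' t' w' x' y' : Vec} (h : Seen v t w x) (hy : Seen v t w y)
    (hd : dotInt x y = 16) (h' : Seen v' t' w' x') (hy' : Seen v' t' w' y') (hd' : dotInt x' y' = 16) :
    ∃ g : ↥Co0, ap g v = v' ∧ ap g w = w' ∧ ap g x = x' ∧ ap g y = y' := by
  obtain ⟨g, g1, g2, g3, g4, g5, g6, g7⟩ := h.read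
  obtain ⟨f, f1, f2, f3, f4, f5, f6, f7⟩ := h'.read
  have hw := ap_mem g h.mw
  have hw' := ap_mem f h'.mw
  have read2 : ∀ {v t w x y : Vec} {g : ↥Co0}, Seen v t w y → x ∈ leechLattice → ap g v = e44 fP fQ → ap g t = d44 fP fQ →
      ap g w fP = -3 → ap g w fQ = 1 → ap g x fP = 0 → ap g x fQ = 4 → dotInt (ap g w) (ap g x) = 8 →
      sqNorm x = 32 → dotInt x y = 16 → ∃ r s, r ≠ fP ∧ r ≠ fQ ∧ s ≠ fP ∧ s ≠ fQ ∧ r ≠ s ∧
        ap g x r = 4 * ap g w r ∧ (∀ i, i ≠ fP → i ≠ fQ → i ≠ r → ap g x i = 0) ∧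
        ap g y fP = 0 ∧ ap g y fQ = 4 ∧
        ap g y s = 4 * ap g w s ∧ ∀ i, i ≠ fP → i ≠ fQ → i ≠ s → ap g y i = 0 := by
    intro v t w x y g hy hx g1 g2 g3 g4 g5 g6 g7 hxn hd
    have a : 4 * (ap g y fP + ap g y fQ) = 16 := by
      rw [← dotAny_e44 _ fP_ne_fQ, ← g1, ap_dot g hy.mx hy.mv, dot_comm, hy.vx]
    have b : 4 * (ap g y fP - ap g y fQ) = -16 := by
      rw [← dotAny_d44 _ fP_ne_fQ, ← g2, ap_dot g hy.mx hy.mt, dot_comm, hy.tx]
    have y5 : ap g y fP = 0 := by omega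
    have y6 : ap g y fQ = 4 := by omega
    obtain ⟨r, hrP, hrQ, hr, hr0⟩ := point_shape (ap_mem g hy.mw) (by rw [ap_norm g hy.mw, hy.nw]) g3 g4
      (ap_mem g hx) (by rw [ap_norm g hx, hxn]) g5 g6 g7
    obtain ⟨s, hsP, hsQ, hs, hs0⟩ := point_shape (ap_mem g hy.mw) (by rw [ap_norm g hy.mw, hy.nw]) g3 g4
      (ap_mem g hy.mx) (by rw [ap_norm g hy.mx, hy.nx]) y5 y6 (by rw [ap_dot g hy.mw hy.mx, hy.wx])
    refine ⟨r, s, hrP, hrQ, hsP, hsQ, fun e => ?_, hr, hr0, y5, y6, hs, hs0⟩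
    subst e
    have : ap g x = ap g y := funext fun i => by
      by_cases i1 : i = fP
      · subst i1; rw [g5, y5]
      by_cases i2 : i = fQ
      · subst i2; rw [g6, y6]
      by_cases i3 : i = r
      · subst i3; rw [hr, hs]
      · rw [hr0 i i1 i2 i3, hs0 i i1 i2 i3]
    have e2 := ap_inj g hx hy.mx this
    rw [e2] at hd
    have := hy.nx
    have : dotInt y y = 32 := by rw [← hy.nx]; simp [dotInt, sqNorm, pow_two]
    omega
  obtain ⟨r, a, hrP, hrQ, haP, haQ, hra, hr, hr0, y5, y6, ha, ha0⟩ :=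
    read2 hy h.mx g1 g2 g3 g4 g5 g6 g7 h.nx hd
  obtain ⟨s, b, hsP, hsQ, hbP, hbQ, hsb, hs, hs0, z5, z6, hb, hb0⟩ :=
    read2 hy' h'.mx f1 f2 f3 f4 f5 f6 f7 h'.nx hd'
  obtain ⟨σ, hσ, hσi⟩ := Golay24.exists_map_le_five (by norm_num : (4 : ℕ) ≤ 5)
    ⟨![fP, fQ, r, a], by intro i j; fin_cases i <;> fin_cases j <;> simp_all [eq_comm]⟩
    ⟨![fP, fQ, s, b], by intro i j; fin_cases i <;> fin_cases j <;> simp_all [eq_comm]⟩
  have hσP : σ fP = fP := hσi 0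
  have hσQ : σ fQ = fQ := hσi 1
  have hσr : σ r = s := hσi 2
  have hσa : σ a = b := hσi 3
  obtain ⟨k, k1, k2, k3, k4⟩ := perm_reading hw hw' (by rw [g3, f3]) (by rw [g4, f4]) (by rw [g3]; decide)
    (by rw [ap_norm g h.mw, h.nw, g3, g4]; norm_num) (by rw [ap_norm f h'.mw, h'.nw, f3, f4]; norm_num) hσ hσP hσQ
  have mk : ∀ {z z' : Vec} {c d : GolayPt}, z ∈ leechLattice → σ c = d → z fP = 0 → z fQ = 4 → z' fP = 0 → z' fQ = 4 →
      z c = 4 * ap g w c → z' d = 4 * ap f w' d → (∀ i, i ≠ fP → i ≠ fQ → i ≠ c → z i = 0) →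
      (∀ i, i ≠ fP → i ≠ fQ → i ≠ d → z' i = 0) → ap k z = z' := by
    intro z z' c d hz hcd p1 p2 p3 p4 hc hd hc0 hd0
    refine k4 z hz z' fun i => ?_
    by_cases i1 : i = fP
    · subst i1; rw [hσP, p1, p3]; ring
    by_cases i2 : i = fQ
    · subst i2; rw [hσQ, p2, p4, g4, f4]
    by_cases i3 : i = c
    · subst i3; rw [hcd, hc, hd]; ring
    · rw [hc0 i i1 i2 i3, hd0 _ (fun e => i1 (σ.injective (e.trans hσP.symm)))
        (fun e => i2 (σ.injective (e.trans hσQ.symm))) (fun e => i3 (σ.injective (e.trans hcd.symm)))]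
      ring
  refine ⟨f⁻¹ * k * g, ?_, ?_, ?_, ?_⟩
  · rw [ap_mul _ _ h.mv, g1, ap_mul _ _ (e44_mem fP_ne_fQ), k1, ← f1, ap_inv_ap f h'.mv]
  · rw [ap_mul _ _ h.mw, ap_mul _ _ hw, k3, ap_inv_ap f h'.mw]
  · rw [ap_mul _ _ h.mx, ap_mul _ _ (ap_mem g h.mx), mk (ap_mem g h.mx) hσr g5 g6 f5 f6 hr hs hr0 hs0,
      ap_inv_ap f h'.mx]
  · rw [ap_mul _ _ hy.mx, ap_mul _ _ (ap_mem g hy.mx), mk (ap_mem g hy.mx) hσa y5 y6 z5 z6 ha hb ha0 hb0,
      ap_inv_ap f hy'.mx]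

theorem Seen.trans_near {v t w x y v' t' w' x' y' : Vec} (h : Seen v t w x) (hy : y ∈ leechLattice)
    (hyn : sqNorm y = 32) (hyv : dotInt v y = 16) (hyw : dotInt w y = 8) (hyt : dotInt t y = 0)
    (hd : dotInt x y = 8) (h' : Seen v' t' w' x') (hy' : y' ∈ leechLattice)
    (hyn' : sqNorm y' = 32) (hyv' : dotInt v' y' = 16) (hyw' : dotInt w' y' = 8) (hyt' : dotInt t' y' = 0)
    (hd' : dotInt x' y' = 8) :
    ∃ g : ↥Co0, ap g v = v' ∧ ap g w = w' ∧ ap g x = x' ∧ ap g y = y' := by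
  obtain ⟨g, g1, g2, g3, g4, g5, g6, g7⟩ := h.read
  obtain ⟨f, f1, f2, f3, f4, f5, f6, f7⟩ := h'.read
  have read3 : ∀ {v t w x y : Vec} {g : ↥Co0}, Seen v t w x → y ∈ leechLattice → sqNorm y = 32 →
      dotInt v y = 16 → dotInt w y = 8 → dotInt t y = 0 → dotInt x y = 8 → ap g v = e44 fP fQ →
      ap g t = d44 fP fQ → ap g w fP = -3 → ap g w fQ = 1 → ap g x fP = 0 → ap g x fQ = 4 →
      dotInt (ap g w) (ap g x) = 8 → ∃ r O, r ≠ fP ∧ r ≠ fQ ∧ r ∉ O ∧ InC O ∧ O.card = 8 ∧ fP ∈ O ∧ fQ ∈ O ∧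
        ap g x r = 4 * ap g w r ∧ (∀ i, i ≠ fP → i ≠ fQ → i ≠ r → ap g x i = 0) ∧
        ap g y fP = 2 ∧ ap g y fQ = 2 ∧ ∀ i, i ≠ fP → i ≠ fQ → ap g y i = if i ∈ O then 2 * ap g w i else 0 := by
    intro v t w x y g h hy hyn hyv hyw hyt hd g1 g2 g3 g4 g5 g6 g7
    have a : 4 * (ap g y fP + ap g y fQ) = 16 := by
      rw [← dotAny_e44 _ fP_ne_fQ, ← g1, ap_dot g hy h.mv, dot_comm, hyv]
    have b : 4 * (ap g y fP - ap g y fQ) = 0 := by
      rw [← dotAny_d44 _ fP_ne_fQ, ← g2, ap_dot g hy h.mt, dot_comm, hyt]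
    have y5 : ap g y fP = 2 := by omega
    have y6 : ap g y fQ = 2 := by omega
    obtain ⟨r, hrP, hrQ, hr, hr0⟩ := point_shape (ap_mem g h.mw) (by rw [ap_norm g h.mw, h.nw]) g3 g4
      (ap_mem g h.mx) (by rw [ap_norm g h.mx, h.nx]) g5 g6 g7
    obtain ⟨O, hO, h8, hOP, hOQ, hO0⟩ := edge_shape (ap_mem g h.mw) (by rw [ap_norm g h.mw, h.nw]) g3 g4
      (ap_mem g hy) (by rw [ap_norm g hy, hyn]) y5 y6 (by rw [ap_dot g h.mw hy, hyw])
    refine ⟨r, O, hrP, hrQ, fun hrO => ?_, hO, h8, hOP, hOQ, hr, hr0, y5, y6, hO0⟩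
    have hxy := ap_dot g h.mx hy
    rw [hd, dotInt, ← Finset.add_sum_erase _ _ (Finset.mem_univ fQ), ← Finset.add_sum_erase _ _
      (Finset.mem_erase.2 ⟨hrQ, Finset.mem_univ r⟩), Finset.sum_eq_zero fun i hi => ?_, g6, y6, hr,
      hO0 r hrP hrQ, if_pos hrO] at hxy
    · have hone := abs_one_others (latM_of_mem (ap_mem g h.mw) (i := fP) (by rw [g3]; norm_num)) fP_ne_fQ
        (by rw [ap_norm g h.mw, h.nw, g3, g4]; norm_num) r hrP hrQ
      rcases hone with e | e <;> rw [e] at hxy <;> omega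
    · obtain ⟨hir, hiQ⟩ : i ≠ r ∧ i ≠ fQ := by simpa using hi
      by_cases hiP : i = fP
      · rw [hiP, g5, zero_mul]
      · rw [hr0 i hiP hiQ hir, zero_mul]
  obtain ⟨r, O, hrP, hrQ, hrO, hO, h8, hOP, hOQ, hr, hr0, y5, y6, hy0⟩ :=
    read3 h hy hyn hyv hyw hyt hd g1 g2 g3 g4 g5 g6 g7
  obtain ⟨s, O', hsP, hsQ, hsO, hO', h8', hOP', hOQ', hs, hs0, z5, z6, hz0⟩ :=
    read3 h' hy' hyn' hyv' hyw' hyt' hd' f1 f2 f3 f4 f5 f6 f7
  obtain ⟨σ, hσ, hσP, hσQ, hσr, hσO⟩ := octad_pair_avoid fP_ne_fQ hO h8 hO' h8' hOP hOQ hrO hOP' hOQ' hsO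
  obtain ⟨k, k1, k2, k3, k4⟩ := perm_reading (ap_mem g h.mw) (ap_mem f h'.mw) (by rw [g3, f3]) (by rw [g4, f4])
    (by rw [g3]; decide) (by rw [ap_norm g h.mw, h.nw, g3, g4]; norm_num)
    (by rw [ap_norm f h'.mw, h'.nw, f3, f4]; norm_num) hσ hσP hσQ
  have kx : ap k (ap g x) = ap f x' := k4 _ (ap_mem g h.mx) _ fun i => by
    by_cases i1 : i = fP
    · subst i1; rw [hσP, g5, f5]; ring
    by_cases i2 : i = fQ
    · subst i2; rw [hσQ, g6, f6, g4, f4]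
    by_cases i3 : i = r
    · subst i3; rw [hσr, hr, hs]; ring
    · rw [hr0 i i1 i2 i3, hs0 _ (fun e => i1 (σ.injective (e.trans hσP.symm)))
        (fun e => i2 (σ.injective (e.trans hσQ.symm))) (fun e => i3 (σ.injective (e.trans hσr.symm)))]
      ring
  have ky : ap k (ap g y) = ap f y' := k4 _ (ap_mem g hy) _ fun i => by
    by_cases i1 : i = fP
    · subst i1; rw [hσP, y5, z5, g3, f3]
    by_cases i2 : i = fQ
    · subst i2; rw [hσQ, y6, z6, g4, f4]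
    rw [hy0 i i1 i2, hz0 _ (fun e => i1 (σ.injective (e.trans hσP.symm)))
        (fun e => i2 (σ.injective (e.trans hσQ.symm)))]
    by_cases hi : i ∈ O
    · rw [if_pos hi, if_pos ((hσO i).2 hi)]; ring
    · rw [if_neg hi, if_neg (fun e => hi ((hσO i).1 e))]; ring
  refine ⟨f⁻¹ * k * g, ?_, ?_, ?_, ?_⟩
  · rw [ap_mul _ _ h.mv, g1, ap_mul _ _ (e44_mem fP_ne_fQ), k1, ← f1, ap_inv_ap f h'.mv]
  · rw [ap_mul _ _ h.mw, ap_mul _ _ (ap_mem g h.mw), k3, ap_inv_ap f h'.mw]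
  · rw [ap_mul _ _ h.mx, ap_mul _ _ (ap_mem g h.mx), kx, ap_inv_ap f h'.mx]
  · rw [ap_mul _ _ hy, ap_mul _ _ (ap_mem g hy), ky, ap_inv_ap f hy']

end

end Cfsg.Agent.LeechCount
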