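import Cfsg.Agent.Lib.LeechCount.HSData
import Cfsg.Agent.Lib.Leech.UStab

/-!
The 2025 points of the McLaughlin configuration: suborbits of sizes 1, 330, 462 and 1232.
-/

set_option autoImplicit false

namespace Cfsg.Agent.LeechCount

open Cfsg Cfsg.Agent.Leech
open scoped symmDiff Pointwise

noncomputable section

attribute [local irreducible] normFS

/-- Two octads with five common points are equal. -/
theorem octad_eq {A B S : Finset GolayPt} (hA : InC A) (hA8 : A.card = 8) (hB : InC B) (hB8 : B.card = 8)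
    (hSA : S ⊆ A) (hSB : S ⊆ B) (hS : 5 ≤ S.card) : A = B := by
  have := Finset.card_le_card (Finset.subset_inter hSA hSB)
  have h4 := card_symmDiff_add A B
  rw [hA8, hB8] at h4
  rcases InC_weights (InC_symmDiff hA hB) with e | e | e | e | e
  · exact symmDiff_eq_bot.1 (Finset.card_eq_zero.1 e)
  all_goals omega

/-- An octad through the two frame points cutting a given one avoiding them in four points. -/
theorem exists_cutting {O : Finset GolayPt} (hO : InC O) (h8 : O.card = 8) (hP : fP ∉ O) (hQ : fQ ∉ O) :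
    ∃ B, InC B ∧ B.card = 8 ∧ fP ∈ B ∧ fQ ∈ B ∧ (O ∩ B).card = 4 := by
  obtain ⟨A, hA, hA3⟩ := Finset.exists_subset_card_eq (n := 3) (s := O) (by omega)
  obtain ⟨B, hB, hB8, hs⟩ := InC_five (S := insert fP (insert fQ A)) (by
    rw [Finset.card_insert_of_notMem (by simp only [Finset.mem_insert, not_or]; exact ⟨fP_ne_fQ, fun h => hP (hA h)⟩),
      Finset.card_insert_of_notMem (fun h => hQ (hA h)), hA3])
  have hPB : fP ∈ B := hs (by simp)
  refine ⟨B, hB, hB8, hPB, hs (by simp), ?_⟩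
  have h3 := Finset.card_le_card (show A ⊆ O ∩ B from fun a ha =>
    Finset.mem_inter.2 ⟨hA ha, hs (Finset.mem_insert_of_mem (Finset.mem_insert_of_mem ha))⟩)
  have h4 := card_symmDiff_add O B
  rw [h8, hB8] at h4
  rcases InC_weights (InC_symmDiff hO hB) with e | e | e | e | e
  · exact absurd (symmDiff_eq_bot.1 (Finset.card_eq_zero.1 e) ▸ hPB) hP
  all_goals omega

/-- Octads avoiding two points form one orbit of the stabiliser of the two. -/
theorem octad_avoid_trans {O O' : Finset GolayPt} (hO : InC O) (h8 : O.card = 8) (hP : fP ∉ O) (hQ : fQ ∉ O)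
    (hO' : InC O') (h8' : O'.card = 8) (hP' : fP ∉ O') (hQ' : fQ ∉ O') :
    ∃ σ : Equiv.Perm GolayPt, σ ∈ M24 ∧ σ fP = fP ∧ σ fQ = fQ ∧ ∀ i, σ i ∈ O' ↔ i ∈ O := by
  classical
  obtain ⟨B, hB, hB8, hPB, hQB, h4⟩ := exists_cutting hO h8 hP hQ
  obtain ⟨B', hB', hB8', hPB', hQB', h4'⟩ := exists_cutting hO' h8' hP' hQ'
  set T := O ∩ B with hT
  set T' := O' ∩ B' with hT'
  have hPT : fP ∉ T := fun h => hP (Finset.mem_inter.1 h).1
  have hPT' : fP ∉ T' := fun h => hP' (Finset.mem_inter.1 h).1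
  have mk : ∀ S : Finset GolayPt, S.card = 4 → fP ∉ S → ∃ f : Fin 5 ↪ GolayPt, f 0 = fP ∧
      ∀ i, i ∈ insert fP S ↔ ∃ k, f k = i := by
    intro S hS hPS
    let e : Fin 4 → GolayPt := fun k => ((S.equivFinOfCardEq hS).symm k : GolayPt)
    have hinj : Function.Injective (Fin.cons fP e : Fin 5 → GolayPt) := by
      rw [Fin.cons_injective_iff]
      refine ⟨fun ⟨k, hk⟩ => hPS (hk ▸ ((S.equivFinOfCardEq hS).symm k).2), fun a b h => ?_⟩
      exact (S.equivFinOfCardEq hS).symm.injective (Subtype.ext h)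
    refine ⟨⟨_, hinj⟩, rfl, fun i => ?_⟩
    rw [Finset.mem_insert]
    constructor
    · rintro (rfl | hi)
      · exact ⟨0, rfl⟩
      · exact ⟨((S.equivFinOfCardEq hS) ⟨i, hi⟩).succ, by simp [e]⟩
    · rintro ⟨k, rfl⟩
      refine Fin.cases ?_ (fun j => ?_) k
      · exact Or.inl rfl
      · refine Or.inr ?_
        simp [e]
  obtain ⟨f, f0, hf⟩ := mk T h4 hPT
  obtain ⟨g, g0, hg⟩ := mk T' h4' hPT'
  obtain ⟨σ, hσ, hσf⟩ := Golay24.exists_five_map f g
  have hσP : σ fP = fP := by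
    have := hσf 0
    rwa [f0, g0] at this
  have hσT : ∀ i ∈ T, σ i ∈ T' := fun i hi => by
    obtain ⟨k, rfl⟩ := (hf i).1 (Finset.mem_insert_of_mem hi)
    rcases Finset.mem_insert.1 ((hg (σ (f k))).2 ⟨k, (hσf k).symm⟩) with e | e
    · exact absurd (σ.injective (e.trans hσP.symm) ▸ hi) hPT
    · exact e
  have hsub : ∀ i ∈ insert fP T', i ∈ B' := fun i hi => by
    rcases Finset.mem_insert.1 hi with rfl | hi
    · exact hPB'
    · exact (Finset.mem_inter.1 hi).2
  have himg : B.image σ = B' := by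
    refine octad_eq ((M24_map hσ B).2 hB) (by rw [Finset.card_image_of_injective _ σ.injective, hB8]) hB' hB8'
      (S := insert fP T') (fun i hi => ?_) hsub (by rw [Finset.card_insert_of_notMem hPT', h4'])
    obtain ⟨k, rfl⟩ := (hg i).1 hi
    refine Finset.mem_image.2 ⟨f k, ?_, hσf k⟩
    rcases Finset.mem_insert.1 ((hf (f k)).2 ⟨k, rfl⟩) with e | e
    · exact e ▸ hPB
    · exact (Finset.mem_inter.1 e).2
  have hzB : σ fQ ∈ B' := himg ▸ Finset.mem_image_of_mem σ hQB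
  have hzP : σ fQ ≠ fP := fun e => fP_ne_fQ (σ.injective (hσP.trans e.symm))
  have hzT : σ fQ ∉ T' := fun h => by
    obtain ⟨k, hk⟩ := (hg _).1 (Finset.mem_insert_of_mem h)
    rw [← hσf k] at hk
    rcases Finset.mem_insert.1 ((hf (f k)).2 ⟨k, rfl⟩) with e | e
    · exact fP_ne_fQ (e.symm.trans (σ.injective hk))
    · exact hQ (Finset.mem_inter.1 (σ.injective hk ▸ e : fQ ∈ T)).1
  obtain ⟨τ, hτ, hτB, hτfix, hτz⟩ : ∃ τ : Equiv.Perm GolayPt, τ ∈ M24 ∧ (∀ i, τ i ∈ B' ↔ i ∈ B') ∧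
      (∀ i ∈ insert fP T', τ i = i) ∧ τ (σ fQ) = fQ := by
    by_cases hz : σ fQ = fQ
    · exact ⟨1, M24.one_mem, fun i => Iff.rfl, fun i _ => rfl, hz⟩
    have hrest : 0 < (((B' \ insert fP T').erase (σ fQ)).erase fQ).card := by
      have h1 := Finset.pred_card_le_card_erase (s := (B' \ insert fP T').erase (σ fQ)) (a := fQ)
      have h2 := Finset.pred_card_le_card_erase (s := B' \ insert fP T') (a := σ fQ)
      have h3 : (B' \ insert fP T').card = 3 := by
        rw [Finset.card_sdiff_of_subset hsub, Finset.card_insert_of_notMem hPT', hB8', h4']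
      omega
    obtain ⟨r, hr⟩ := Finset.card_pos.1 hrest
    simp only [Finset.mem_erase, Finset.mem_sdiff] at hr
    obtain ⟨hrQ, hrz, hrB, hrT⟩ := hr
    let a : ↥B' := ⟨σ fQ, hzB⟩
    let b : ↥B' := ⟨fQ, hQB'⟩
    let c : ↥B' := ⟨r, hrB⟩
    have hab : a ≠ b := fun e => hz (congrArg Subtype.val e)
    have hac : a ≠ c := fun e => hrz (congrArg Subtype.val e).symm
    have hbc : b ≠ c := fun e => hrQ (congrArg Subtype.val e).symm
    have he : Equiv.swap a c * Equiv.swap a b ∈ (Golay24.octRes B').range := by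
      rw [Golay24.octRes_range ⟨hB', hB8'⟩, Equiv.Perm.mem_alternatingGroup, map_mul,
        Equiv.Perm.sign_swap hac, Equiv.Perm.sign_swap hab]
      rfl
    obtain ⟨τ, hτ, hh, hτe⟩ := Golay24.mem_octRes_range_iff.1 he
    have hval : ∀ i : ↥B', τ i = ((Equiv.swap a c * Equiv.swap a b) i : GolayPt) := fun i =>
      congrArg Subtype.val (Equiv.ext_iff.1 hτe i)
    refine ⟨τ, hτ, hh, fun i hi => ?_, ?_⟩
    · refine (hval ⟨i, hsub i hi⟩).trans ?_
      have h1 : (⟨i, hsub i hi⟩ : ↥B') ≠ a := fun e => by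
        have e' : i = σ fQ := congrArg Subtype.val e
        rw [e', Finset.mem_insert] at hi
        exact hi.elim hzP hzT
      have h2 : (⟨i, hsub i hi⟩ : ↥B') ≠ b := fun e => by
        have e' : i = fQ := congrArg Subtype.val e
        rw [e', Finset.mem_insert] at hi
        exact hi.elim fP_ne_fQ.symm fun h => hQ' (Finset.mem_inter.1 h).1
      have h3 : (⟨i, hsub i hi⟩ : ↥B') ≠ c := fun e => by
        have e' : i = r := congrArg Subtype.val e
        exact hrT (e' ▸ hi)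
      rw [Equiv.Perm.mul_apply, Equiv.swap_apply_of_ne_of_ne h1 h2, Equiv.swap_apply_of_ne_of_ne h1 h3]
    · refine (hval a).trans ?_
      rw [Equiv.Perm.mul_apply, Equiv.swap_apply_left, Equiv.swap_apply_of_ne_of_ne hab.symm hbc]
  obtain ⟨x, hx, hxB⟩ : ∃ x ∈ O, x ∉ B := by
    by_contra hne
    push Not at hne
    rw [hT, Finset.inter_eq_left.2 hne] at h4
    omega
  obtain ⟨y, hy, hyB⟩ : ∃ y ∈ O', y ∉ B' := by
    by_contra hne
    push Not at hne
    rw [hT', Finset.inter_eq_left.2 hne] at h4'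
    omega
  have hxB' : τ (σ x) ∉ B' := fun h => hxB (by
    have h1 := (hτB _).1 h
    rw [← himg, Finset.mem_image] at h1
    obtain ⟨z, hz, e⟩ := h1
    exact σ.injective e ▸ hz)
  obtain ⟨-, htr, -⟩ := Golay24.octFix_spec (o := B') ⟨hB', hB8'⟩
  obtain ⟨k, hk, hky⟩ := htr _ hxB' y hyB
  rw [Golay24.mem_octFix] at hk
  set ρ := k * (τ * σ) with hρ
  have hρM : ρ ∈ M24 := M24.mul_mem hk.1 (M24.mul_mem hτ hσ)
  have hTfix : ∀ i ∈ T, ρ i = σ i := fun i hi => by
    have h1 : σ i ∈ insert fP T' := Finset.mem_insert_of_mem (hσT i hi)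
    show k (τ (σ i)) = σ i
    rw [hτfix _ h1, hk.2 _ (hsub _ h1)]
  have hρO : O.image ρ = O' := by
    refine octad_eq ((M24_map hρM O).2 hO) (by rw [Finset.card_image_of_injective _ ρ.injective, h8]) hO' h8'
      (S := insert (ρ x) (T.image σ)) ?_ ?_ ?_
    · refine Finset.insert_subset (Finset.mem_image_of_mem ρ hx) fun i hi => ?_
      obtain ⟨t, ht, rfl⟩ := Finset.mem_image.1 hi
      exact Finset.mem_image.2 ⟨t, (Finset.mem_inter.1 ht).1, hTfix t ht⟩
    · refine Finset.insert_subset (show k (τ (σ x)) ∈ O' by rw [hky]; exact hy) fun i hi => ?_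
      obtain ⟨t, ht, rfl⟩ := Finset.mem_image.1 hi
      exact (Finset.mem_inter.1 (hσT t ht)).1
    · rw [Finset.card_insert_of_notMem, Finset.card_image_of_injective _ σ.injective, h4]
      intro h
      obtain ⟨t, ht, e⟩ := Finset.mem_image.1 h
      exact hxB (ρ.injective ((hTfix t ht).trans e) ▸ (Finset.mem_inter.1 ht).2)
  refine ⟨ρ, hρM, ?_, ?_, fun i => by rw [← hρO]; simp⟩
  · show k (τ (σ fP)) = fP
    rw [hσP, hτfix _ (Finset.mem_insert_self _ _), hk.2 _ hPB']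
  · show k (τ (σ fQ)) = fQ
    rw [hτz, hk.2 _ hQB']

/-- Away from the frame, twice the base entries on an octad with one place flipped. -/
def Flip (w : Vec) (O : Finset GolayPt) (s : GolayPt) (z : Vec) : Prop :=
  ∀ i, i ≠ fP → i ≠ fQ → z i = if i ∈ O then (if i = s then -2 * w i else 2 * w i) else 0

/-- A minimal vector with an entry of absolute value two is supported on an octad. -/
theorem two_shape {z : Vec} (hz : z ∈ leechLattice) (h0 : LatM 0 z) (hzn : sqNorm z = 32)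
    (hne : (pat 0 z).Nonempty) :
    InC (pat 0 z) ∧ (pat 0 z).card = 8 ∧ (∀ i ∈ pat 0 z, z i = 2 ∨ z i = -2) ∧ ∀ i ∉ pat 0 z, z i = 0 := by
  obtain ⟨hc, h2⟩ := pat_abs_two h0 (by omega)
  have h8 := hc.resolve_left (Finset.nonempty_iff_ne_empty.1 hne)
  have hs := Finset.sum_sdiff (f := fun i => z i ^ 2) (Finset.subset_univ (pat 0 z))
  have hp : ∑ i ∈ pat 0 z, z i ^ 2 = 4 * ((pat 0 z).card : ℤ) := by
    rw [Finset.sum_congr rfl fun i hi => show z i ^ 2 = 4 by rw [← sq_abs, h2 i hi]; norm_num]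
    simp [mul_comm]
  change _ = sqNorm z at hs
  rw [hp, hzn] at hs
  have hnn : (0 : ℤ) ≤ ∑ i ∈ Finset.univ \ pat 0 z, z i ^ 2 := Finset.sum_nonneg fun i _ => sq_nonneg _
  refine ⟨h0.2.2, by omega, fun i hi => ?_, fun i hi => ?_⟩
  · rcases abs_cases (z i) with ⟨e, _⟩ | ⟨e, _⟩ <;> have := h2 i hi <;> omega
  · have h : ∑ i ∈ Finset.univ \ pat 0 z, z i ^ 2 = 0 := by omega
    exact pow_eq_zero_iff two_ne_zero |>.1
      ((Finset.sum_eq_zero_iff_of_nonneg fun i _ => sq_nonneg (z i)).1 h i (by simp [hi]))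

/-- The base vector of a frame. -/
structure Base (w : Vec) : Prop where
  mem : w ∈ leechLattice
  norm : sqNorm w = 32
  atP : w fP = 1
  atQ : w fQ = -3

theorem Base.unit {w : Vec} (h : Base w) (i : GolayPt) (h1 : i ≠ fP) (h2 : i ≠ fQ) : w i = 1 ∨ w i = -1 :=
  abs_one_others (latM_of_mem h.mem (i := fP) (by rw [h.atP]; norm_num)) fP_ne_fQ
    (by rw [h.norm, h.atP, h.atQ]; norm_num) i h1 h2

/-- The product with the base vector counts the flipped places. -/
theorem Base.dot_octad {w : Vec} (h : Base w) {z : Vec} {O : Finset GolayPt}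
    (h2 : ∀ i ∈ O, z i = 2 ∨ z i = -2) (h0 : ∀ i ∉ O, z i = 0) :
    let F := ((O.erase fP).erase fQ).filter fun i => z i ≠ 2 * w i
    dotInt w z = z fP - 3 * z fQ + 2 * (((O.erase fP).erase fQ).card : ℤ) - 4 * (F.card : ℤ) ∧
      ∀ i, i ≠ fP → i ≠ fQ → z i = if i ∈ O then (if i ∈ F then -2 * w i else 2 * w i) else 0 := by
  intro F
  have key : ∀ i, i ≠ fP → i ≠ fQ → i ∈ O →
      z i = (if i ∈ F then -2 * w i else 2 * w i) ∧ w i * z i = if i ∈ F then -2 else 2 := by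
    intro i h1 h2' hi
    have hiF : i ∈ F ↔ z i ≠ 2 * w i := by simp [F, h1, h2', hi]
    by_cases hF : i ∈ F
    · have := hiF.1 hF
      rw [if_pos hF, if_pos hF]
      rcases h.unit i h1 h2' with e | e <;> rw [e] at this ⊢ <;>
        rcases h2 i hi with e' | e' <;> omega
    · have he : z i = 2 * w i := by by_contra hne; exact hF (hiF.2 hne)
      rw [if_neg hF, if_neg hF, he]
      rcases h.unit i h1 h2' with e | e <;> rw [e] <;> norm_num
  refine ⟨?_, fun i h1 h2' => ?_⟩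
  · have hd : dotInt w z = w fP * z fP + w fQ * z fQ + ∑ i ∈ (O.erase fP).erase fQ, w i * z i := by
      rw [dotInt, ← Finset.add_sum_erase _ _ (Finset.mem_univ fP),
        ← Finset.add_sum_erase _ _ (Finset.mem_erase.2 ⟨Ne.symm fP_ne_fQ, Finset.mem_univ fQ⟩), add_assoc]
      congr 2
      refine (Finset.sum_subset ?_ fun i hi hi' => ?_).symm
      · exact fun i hi => Finset.erase_subset_erase _ (Finset.erase_subset_erase _ (Finset.subset_univ O)) hi
      · obtain ⟨h1, h2'⟩ := others_ne hi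
        rw [h0 i fun h => hi' (by simp [h1, h2', h]), mul_zero]
    rw [hd, h.atP, h.atQ, Finset.sum_congr rfl fun i hi =>
      show w i * z i = if i ∈ F then -2 else 2 by
        simp only [Finset.mem_erase] at hi
        exact (key i hi.2.1 hi.1 hi.2.2).2]
    rw [Finset.sum_ite, Finset.sum_const, Finset.sum_const, Finset.filter_mem_eq_inter,
      Finset.inter_eq_right.2 (Finset.filter_subset _ _), nsmul_eq_mul, nsmul_eq_mul]
    have hc : (((O.erase fP).erase fQ).filter fun i => i ∉ F).card + F.card = ((O.erase fP).erase fQ).card := by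
      rw [← Finset.sdiff_eq_filter]
      exact Finset.card_sdiff_add_card_eq_card (Finset.filter_subset _ _)
    simp only [F] at hc ⊢
    omega
  · by_cases hi : i ∈ O
    · rw [if_pos hi]; exact (key i h1 h2' hi).1
    · rw [if_neg hi]; exact h0 i hi

/-- The points of the configuration in a frame, by product with the frame vector. -/
def frameCls (w : Vec) (c : ℤ) : Finset Vec :=
  (twoFS (e44 fP fQ) 0 w 16).filter fun y => dotInt (d44 fP fQ) y = c

theorem mem_frameCls {w y : Vec} {c : ℤ} (hy : y ∈ frameCls w c) :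
    y ∈ leechLattice ∧ sqNorm y = 32 ∧ 8 * y fP = c ∧ 8 * y fQ = -c ∧ dotInt w y = 16 := by
  obtain ⟨hy, hc⟩ := Finset.mem_filter.1 hy
  obtain ⟨⟨h1, h2⟩, h3, h4⟩ := mem_twoFS.1 hy
  rw [dot_comm, dotAny_e44 _ fP_ne_fQ] at h3
  rw [dot_comm, dotAny_d44 _ fP_ne_fQ] at hc
  exact ⟨h1, h2, by omega, by omega, h4⟩

theorem shape_zero {w y : Vec} (hw : Base w) (hy : y ∈ frameCls w 0) :
    ∃ O, InC O ∧ O.card = 8 ∧ fP ∉ O ∧ fQ ∉ O ∧ Flip w O fP y ∧ y fP = 0 ∧ y fQ = 0 := by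
  obtain ⟨hy, hn, hP, hQ, hd⟩ := mem_frameCls hy
  have h0 : LatM 0 y := latM_of_mem hy (i := fP) (by omega)
  have hne : (pat 0 y).Nonempty := by
    rw [Finset.nonempty_iff_ne_empty]
    intro he
    obtain ⟨b, hb, -⟩ := four_shape h0 he
    have hsum : dotInt w y ≤ 4 * ∑ i, b i ^ 2 := by
      rw [dotInt, Finset.mul_sum]
      refine Finset.sum_le_sum fun i _ => ?_
      by_cases h1 : i = fP
      · subst h1; rw [show y fP = 0 by omega]; nlinarith [sq_nonneg (b fP)]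
      by_cases h2 : i = fQ
      · subst h2; rw [show y fQ = 0 by omega]; nlinarith [sq_nonneg (b fQ)]
      rw [hb i]
      have := Int.le_self_sq (b i)
      have := Int.le_self_sq (-b i)
      rw [neg_sq] at this
      rcases hw.unit i h1 h2 with e | e <;> rw [e] <;> linarith
    have hb2 : sqNorm y = 16 * ∑ i, b i ^ 2 := by
      rw [sqNorm, Finset.mul_sum]; exact Finset.sum_congr rfl fun i _ => by rw [hb i]; ring
    omega
  obtain ⟨hO, h8, h2, hz⟩ := two_shape hy h0 hn hne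
  have hPO : fP ∉ pat 0 y := fun h => by rcases h2 _ h with e | e <;> omega
  have hQO : fQ ∉ pat 0 y := fun h => by rcases h2 _ h with e | e <;> omega
  obtain ⟨hdot, hform⟩ := hw.dot_octad h2 hz
  rw [Finset.erase_eq_of_notMem hPO, Finset.erase_eq_of_notMem hQO, h8, hd, show y fP = 0 by omega,
    show y fQ = 0 by omega] at hdot
  rw [Finset.erase_eq_of_notMem hPO, Finset.erase_eq_of_notMem hQO] at hform
  have hF : ((pat 0 y).filter fun i => y i ≠ 2 * w i) = ∅ := Finset.card_eq_zero.1 (by omega)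
  refine ⟨_, hO, h8, hPO, hQO, fun i h1 h2' => ?_, by omega, by omega⟩
  rw [hform i h1 h2', hF, if_neg h1]
  simp

theorem flip_one {w z : Vec} (hw : Base w) (hz : z ∈ leechLattice) (hzn : sqNorm z = 32) (hd : dotInt w z = 16)
    (hQ : z fQ = -2) (hP : z fP = 0 ∨ z fP = 2) :
    ∃ O s, InC O ∧ O.card = 8 ∧ fQ ∈ O ∧ (fP ∈ O ↔ z fP = 2) ∧ s ∈ O ∧ s ≠ fP ∧ s ≠ fQ ∧ Flip w O s z := by
  have h0 : LatM 0 z := latM_of_mem hz (i := fQ) (by omega)
  obtain ⟨hO, h8, h2, h00⟩ := two_shape hz h0 hzn ⟨fQ, mem_pat.2 (by omega)⟩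
  have hQO : fQ ∈ pat 0 z := mem_pat.2 (by omega)
  have hPO : fP ∈ pat 0 z ↔ z fP = 2 := by
    rw [mem_pat]; omega
  obtain ⟨hdot, hform⟩ := hw.dot_octad h2 h00
  have hcard : (((pat 0 z).erase fP).erase fQ).card = if z fP = 2 then 6 else 7 := by
    rw [Finset.card_erase_of_mem (Finset.mem_erase.2 ⟨Ne.symm fP_ne_fQ, hQO⟩)]
    split_ifs with h
    · rw [Finset.card_erase_of_mem (hPO.2 h), h8]
    · rw [Finset.erase_eq_of_notMem (fun h' => h (hPO.1 h')), h8]
  rw [hcard, hd, hQ] at hdot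
  have hF : ((((pat 0 z).erase fP).erase fQ).filter fun i => z i ≠ 2 * w i).card = 1 := by
    rcases hP with e | e
    · rw [e, if_neg (by norm_num)] at hdot; push_cast at hdot; omega
    · rw [e, if_pos rfl] at hdot; push_cast at hdot; omega
  obtain ⟨s, hs⟩ := Finset.card_eq_one.1 hF
  have hsm : s ∈ (((pat 0 z).erase fP).erase fQ).filter fun i => z i ≠ 2 * w i :=
    hs ▸ Finset.mem_singleton_self s
  simp only [Finset.mem_filter, Finset.mem_erase] at hsm
  refine ⟨_, s, hO, h8, hQO, hPO, hsm.1.2.2, hsm.1.2.1, hsm.1.1, fun i h1 h2' => ?_⟩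
  rw [hform i h1 h2', hs]
  simp

theorem shape_sixteen {w y : Vec} (hw : Base w) (hy : y ∈ frameCls w 16) :
    ∃ O s, InC O ∧ O.card = 8 ∧ fP ∈ O ∧ fQ ∈ O ∧ s ∈ O ∧ s ≠ fP ∧ s ≠ fQ ∧ Flip w O s y ∧
      y fP = 2 ∧ y fQ = -2 := by
  obtain ⟨hy, hn, hP, hQ, hd⟩ := mem_frameCls hy
  obtain ⟨O, s, h1, h2, h3, h4, h5⟩ := flip_one hw hy hn hd (by omega) (Or.inr (by omega))
  exact ⟨O, s, h1, h2, h4.2 (by omega), h3, h5.1, h5.2.1, h5.2.2.1, h5.2.2.2, by omega, by omega⟩

theorem shape_eight {w y : Vec} (hw : Base w) (hy : y ∈ frameCls w 8) :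
    ∃ O s, InC O ∧ O.card = 8 ∧ fP ∉ O ∧ fQ ∈ O ∧ s ∈ O ∧ s ≠ fP ∧ s ≠ fQ ∧ Flip w O s (w - y) ∧
      (w - y) fP = 0 ∧ (w - y) fQ = -2 := by
  obtain ⟨hy, hn, hP, hQ, hd⟩ := mem_frameCls hy
  have e1 : (w - y) fP = 0 := by rw [Pi.sub_apply, hw.atP]; omega
  have e2 : (w - y) fQ = -2 := by rw [Pi.sub_apply, hw.atQ]; omega
  have hn' : sqNorm (w - y) = 32 := by rw [sqNorm_sub, hw.norm, hn, hd]; norm_num
  have hd' : dotInt w (w - y) = 16 := by
    rw [dot_comm, dot_sub_left, dot_self, hw.norm, dot_comm, hd]; norm_num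
  obtain ⟨O, s, h1, h2, h3, h4, h5⟩ := flip_one hw (sub_mem hw.mem hy) hn' hd' e2 (Or.inl e1)
  exact ⟨O, s, h1, h2, fun h => by have := h4.1 h; omega, h3, h5.1, h5.2.1, h5.2.2.1, h5.2.2.2, e1, e2⟩

theorem Flip.ext {w z z' : Vec} {O : Finset GolayPt} {s : GolayPt} (h : Flip w O s z) (h' : Flip w O s z')
    (hP : z fP = z' fP) (hQ : z fQ = z' fQ) : z = z' := funext fun i => by
  by_cases h1 : i = fP
  · rw [h1, hP]
  by_cases h2 : i = fQ
  · rw [h2, hQ]
  rw [h i h1 h2, h' i h1 h2]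

theorem Flip.move {w z z' : Vec} (hw : Base w) {O O' : Finset GolayPt} {s s' : GolayPt} (hz : z ∈ leechLattice)
    (h : Flip w O s z) (h' : Flip w O' s' z') (hP : z fP = z' fP) (hQ : z fQ = z' fQ)
    {σ : Equiv.Perm GolayPt} (hσ : σ ∈ M24) (hσP : σ fP = fP) (hσQ : σ fQ = fQ)
    (hO : ∀ i, σ i ∈ O' ↔ i ∈ O) (hs : σ s = s') :
    ∃ k : ↥Co0, ap k (e44 fP fQ) = e44 fP fQ ∧ ap k (d44 fP fQ) = d44 fP fQ ∧ ap k w = w ∧ ap k z = z' := by
  have hwn : sqNorm w = w fP ^ 2 + w fQ ^ 2 + 22 := by rw [hw.norm, hw.atP, hw.atQ]; norm_num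
  obtain ⟨k, k1, k2, k3, k4⟩ :=
    perm_reading hw.mem hw.mem rfl rfl (by rw [hw.atP]; decide) hwn hwn hσ hσP hσQ
  refine ⟨k, k1, k2, k3, k4 z hz z' fun i => ?_⟩
  by_cases h1 : i = fP
  · subst h1; rw [hσP, hP]
  by_cases h2 : i = fQ
  · subst h2; rw [hσQ, hQ]
  rw [h i h1 h2, h' _ (fun e => h1 (σ.injective (e.trans hσP.symm))) (fun e => h2 (σ.injective (e.trans hσQ.symm)))]
  by_cases hi : i ∈ O
  · rw [if_pos hi, if_pos ((hO i).2 hi)]
    by_cases his : i = s
    · rw [if_pos his, if_pos (by rw [his, hs])]; ring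
    · rw [if_neg his, if_neg (by rw [← hs]; exact fun e => his (σ.injective e))]; ring
  · rw [if_neg hi, if_neg (fun e => hi ((hO i).1 e))]; ring

theorem frameCls_trans {w y y' : Vec} (hw : Base w) {c : ℤ} (hc : c = 0 ∨ c = 8 ∨ c = 16)
    (hy : y ∈ frameCls w c) (hy' : y' ∈ frameCls w c) :
    ∃ k : ↥Co0, ap k (e44 fP fQ) = e44 fP fQ ∧ ap k (d44 fP fQ) = d44 fP fQ ∧ ap k w = w ∧ ap k y = y' := by
  rcases hc with rfl | rfl | rfl
  · obtain ⟨O, hO, h8, hP, hQ, hf, e1, e2⟩ := shape_zero hw hy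
    obtain ⟨O', hO', h8', hP', hQ', hf', e1', e2'⟩ := shape_zero hw hy'
    obtain ⟨σ, hσ, hσP, hσQ, hσO⟩ := octad_avoid_trans hO h8 hP hQ hO' h8' hP' hQ'
    exact hf.move hw (mem_frameCls hy).1 hf' (by omega) (by omega) hσ hσP hσQ hσO hσP
  · obtain ⟨O, s, hO, h8, hP, hQ, hs, hsP, hsQ, hf, e1, e2⟩ := shape_eight hw hy
    obtain ⟨O', s', hO', h8', hP', hQ', hs', hsP', hsQ', hf', e1', e2'⟩ := shape_eight hw hy'
    obtain ⟨τ, hτ, hτQ, hτs⟩ := exists_M24_pair (Ne.symm hsQ) (Ne.symm hsQ')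
    obtain ⟨σ, hσ, hσQ, hσs, hσP, hσO⟩ := octad_pair_avoid (p := fQ) (q := s') (r := τ fP) (r' := fP)
      (Ne.symm hsQ') (O := O.image τ) (O' := O')
      ((M24_map hτ O).2 hO) (by rw [Finset.card_image_of_injective _ τ.injective, h8]) hO' h8'
      (hτQ ▸ Finset.mem_image_of_mem τ hQ) (hτs ▸ Finset.mem_image_of_mem τ hs)
      (by simpa using hP) hQ' hs' hP'
    obtain ⟨k, k1, k2, k3, k4⟩ := hf.move hw (sub_mem hw.mem (mem_frameCls hy).1) hf' (by omega) (by omega)
      (σ := σ * τ) (M24.mul_mem hσ hτ) (by rw [Equiv.Perm.mul_apply, hσP])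
      (by rw [Equiv.Perm.mul_apply, hτQ, hσQ]) (fun i => by rw [Equiv.Perm.mul_apply, hσO]; simp)
      (by rw [Equiv.Perm.mul_apply, hτs, hσs])
    refine ⟨k, k1, k2, k3, ?_⟩
    rw [ap_sub k hw.mem (mem_frameCls hy).1, k3] at k4
    exact sub_right_injective k4
  · obtain ⟨O, s, hO, h8, hP, hQ, hs, hsP, hsQ, hf, e1, e2⟩ := shape_sixteen hw hy
    obtain ⟨O', s', hO', h8', hP', hQ', hs', hsP', hsQ', hf', e1', e2'⟩ := shape_sixteen hw hy'
    have mk : ∀ (O : Finset GolayPt) (s : GolayPt), O.card = 8 → fP ∈ O → fQ ∈ O → s ∈ O → s ≠ fP → s ≠ fQ →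
        ∃ f : Fin 5 ↪ GolayPt, f 0 = fP ∧ f 1 = fQ ∧ f 2 = s ∧ ∀ k, f k ∈ O := by
      intro O s h8 hP hQ hs hsP hsQ
      obtain ⟨a, ha, b, hb, hab⟩ := Finset.one_lt_card.1
        (show 1 < (((O.erase fP).erase fQ).erase s).card by
          rw [Finset.card_erase_of_mem (by simp [hsP, hsQ, hs]),
            Finset.card_erase_of_mem (Finset.mem_erase.2 ⟨Ne.symm fP_ne_fQ, hQ⟩), Finset.card_erase_of_mem hP, h8]
          norm_num)
      simp only [Finset.mem_erase] at ha hb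
      refine ⟨⟨![fP, fQ, s, a, b], ?_⟩, rfl, rfl, rfl, ?_⟩
      · intro i j
        fin_cases i <;> fin_cases j <;> simp_all [eq_comm]
      · intro k; fin_cases k
        exacts [hP, hQ, hs, ha.2.2.2, hb.2.2.2]
    obtain ⟨f, f0, f1, f2, fO⟩ := mk O s h8 hP hQ hs hsP hsQ
    obtain ⟨g, g0, g1, g2, gO⟩ := mk O' s' h8' hP' hQ' hs' hsP' hsQ'
    obtain ⟨σ, hσ, hσf⟩ := Golay24.exists_five_map f g
    have himg : O.image σ = O' := octad_eq ((M24_map hσ O).2 hO)
      (by rw [Finset.card_image_of_injective _ σ.injective, h8]) hO' h8' (S := Finset.univ.map g)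
      (fun z hz => by
        obtain ⟨k, -, rfl⟩ := Finset.mem_map.1 hz
        exact Finset.mem_image.2 ⟨f k, fO k, hσf k⟩)
      (fun z hz => by obtain ⟨k, -, rfl⟩ := Finset.mem_map.1 hz; exact gO k) (by simp)
    exact hf.move hw (mem_frameCls hy).1 hf' (by omega) (by omega) hσ
      (by have := hσf 0; rwa [f0, g0] at this) (by have := hσf 1; rwa [f1, g1] at this)
      (fun i => by rw [← himg]; simp) (by have := hσf 2; rwa [f2, g2] at this)

/-- The octads with given incidences with the frame points. -/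
def octFS (p q : Bool) : Finset (Finset GolayPt) :=
  ((Golay24.weightList 8).filter fun m =>
    (m.testBit (Golay24.idx fP).val == p) && (m.testBit (Golay24.idx fQ).val == q)).toFinset.image Golay24.setOf

theorem octFS_counts :
    ((Golay24.weightList 8).filter fun m => (m.testBit (Golay24.idx fP).val == false) &&
      (m.testBit (Golay24.idx fQ).val == false)).length = 330 ∧
    ((Golay24.weightList 8).filter fun m => (m.testBit (Golay24.idx fP).val == true) &&
      (m.testBit (Golay24.idx fQ).val == true)).length = 77 ∧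
    ((Golay24.weightList 8).filter fun m => (m.testBit (Golay24.idx fP).val == false) &&
      (m.testBit (Golay24.idx fQ).val == true)).length = 176 := by decide +kernel

theorem mem_octFS {O : Finset GolayPt} {p q : Bool} (hO : InC O) (h8 : O.card = 8) (hp : decide (fP ∈ O) = p)
    (hq : decide (fQ ∈ O) = q) : O ∈ octFS p q := by
  refine Finset.mem_image.2 ⟨Golay24.maskOf O, ?_, Golay24.setOf_maskOf O⟩
  rw [List.mem_toFinset, List.mem_filter]
  refine ⟨Golay24.mem_octads_iff.1 ⟨hO, h8⟩, ?_⟩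
  simp [Golay24.testBit_maskOf, ← hp, ← hq]

theorem card_octFS {p q : Bool} {n : ℕ} (h : ((Golay24.weightList 8).filter fun m =>
    (m.testBit (Golay24.idx fP).val == p) && (m.testBit (Golay24.idx fQ).val == q)).length = n) :
    (octFS p q).card ≤ n :=
  (Finset.card_image_le.trans (List.toFinset_card_le _)).trans h.le

/-- Octads with one further point. -/
def octPairs (p q : Bool) : Finset (Finset GolayPt × GolayPt) :=
  (octFS p q).biUnion fun O => ((O.erase fP).erase fQ).image fun s => (O, s)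

theorem card_octPairs {p q : Bool} {n m : ℕ} (hn : (octFS p q).card ≤ n)
    (hm : ∀ O ∈ octFS p q, ((O.erase fP).erase fQ).card ≤ m) : (octPairs p q).card ≤ n * m :=
  (Finset.card_biUnion_le_card_mul _ _ _ fun O hO => Finset.card_image_le.trans (hm O hO)).trans
    (Nat.mul_le_mul_right m hn)

theorem mem_octPairs {p q : Bool} {O : Finset GolayPt} {i : GolayPt} (h : O ∈ octFS p q) (hi : i ∈ O)
    (h1 : i ≠ fP) (h2 : i ≠ fQ) : (O, i) ∈ octPairs p q :=
  Finset.mem_biUnion.2 ⟨O, h, Finset.mem_image.2 ⟨i, Finset.mem_erase.2 ⟨h2, Finset.mem_erase.2 ⟨h1, hi⟩⟩, rfl⟩⟩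

theorem octFS_card8 {p q : Bool} {O : Finset GolayPt} (h : O ∈ octFS p q) :
    O.card = 8 ∧ decide (fP ∈ O) = p ∧ decide (fQ ∈ O) = q := by
  obtain ⟨m, hm, rfl⟩ := Finset.mem_image.1 h
  rw [List.mem_toFinset, List.mem_filter] at hm
  obtain ⟨hm, hb⟩ := hm
  simp only [Bool.and_eq_true, beq_iff_eq] at hb
  have h8 : Golay24.pop24 m = 8 := by simpa [Golay24.weightList] using (List.mem_filter.1 hm).2
  exact ⟨by rw [Golay24.card_setOf, h8], by simp [Golay24.mem_setOf, hb.1],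
    by simp [Golay24.mem_setOf, hb.2]⟩

attribute [local irreducible] octFS octPairs

theorem frameCls_le {w : Vec} (hw : Base w) :
    (frameCls w 32).card ≤ 1 ∧ (frameCls w 0).card ≤ 330 ∧ (frameCls w 16).card ≤ 462 ∧
      (frameCls w 8).card ≤ 1232 := by
  classical
  refine ⟨?_, ?_, ?_, ?_⟩
  · refine le_trans (Finset.card_le_card fun y hy => ?_) (Finset.card_singleton (d44 fP fQ)).le
    obtain ⟨hy', hyd⟩ := Finset.mem_filter.1 hy
    have h := card_dot_top (d44_mem fP_ne_fQ) (d44_norm fP_ne_fQ)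
    rw [← h, mem_dotFS]
    exact ⟨(mem_twoFS.1 hy').1, hyd⟩
  · choose! O hO h8 hP hQ hf e1 e2 using fun y (hy : y ∈ frameCls w 0) => shape_zero hw hy
    refine (Finset.card_le_card_of_injOn O (fun y hy => mem_octFS (hO y hy) (h8 y hy)
      (decide_eq_false (hP y hy)) (decide_eq_false (hQ y hy))) fun y hy y' hy' he => ?_).trans
      (card_octFS octFS_counts.1)
    exact (hf y hy).ext (he ▸ hf y' hy') (by rw [e1 y hy, e1 y' hy']) (by rw [e2 y hy, e2 y' hy'])
  · choose! O s hO h8 hP hQ hs hsP hsQ hf e1 e2 using fun y (hy : y ∈ frameCls w 16) => shape_sixteen hw hy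
    refine (Finset.card_le_card_of_injOn (fun y => (O y, s y)) (fun y hy => ?_) fun y hy y' hy' he => ?_).trans
      ((card_octPairs (card_octFS octFS_counts.2.1) (m := 6) fun U hU => ?_).trans (by norm_num))
    · exact Finset.mem_coe.2 (mem_octPairs (mem_octFS (hO y hy) (h8 y hy) (decide_eq_true (hP y hy))
        (decide_eq_true (hQ y hy))) (hs y hy) (hsP y hy) (hsQ y hy))
    · obtain ⟨he1, he2⟩ := Prod.ext_iff.1 he
      simp only at he1 he2
      exact (hf y hy).ext (by rw [he1, he2]; exact hf y' hy') (by rw [e1 y hy, e1 y' hy'])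
        (by rw [e2 y hy, e2 y' hy'])
    · obtain ⟨h, hp, hq⟩ := octFS_card8 hU
      rw [Finset.card_erase_of_mem (Finset.mem_erase.2 ⟨Ne.symm fP_ne_fQ, of_decide_eq_true hq⟩),
        Finset.card_erase_of_mem (of_decide_eq_true hp), h]
  · choose! O s hO h8 hP hQ hs hsP hsQ hf e1 e2 using fun y (hy : y ∈ frameCls w 8) => shape_eight hw hy
    refine (Finset.card_le_card_of_injOn (fun y => (O y, s y)) (fun y hy => ?_) fun y hy y' hy' he => ?_).trans
      ((card_octPairs (card_octFS octFS_counts.2.2) (m := 7) fun U hU => ?_).trans (by norm_num))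
    · exact Finset.mem_coe.2 (mem_octPairs (mem_octFS (hO y hy) (h8 y hy) (decide_eq_false (hP y hy))
        (decide_eq_true (hQ y hy))) (hs y hy) (hsP y hy) (hsQ y hy))
    · obtain ⟨he1, he2⟩ := Prod.ext_iff.1 he
      simp only at he1 he2
      exact sub_right_injective (b := w) ((hf y hy).ext (by rw [he1, he2]; exact hf y' hy')
        ((e1 y hy).trans (e1 y' hy').symm) ((e2 y hy).trans (e2 y' hy').symm))
    · obtain ⟨h, hp, hq⟩ := octFS_card8 hU
      rw [Finset.erase_eq_of_notMem (of_decide_eq_false hp), Finset.card_erase_of_mem (of_decide_eq_true hq), h]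

/-- The classes of the other points seen from a point. -/
def clsFS (v w x : Vec) (c : ℤ) : Finset Vec := (twoFS v 0 w 16).filter fun y => dotInt x y = c

/-- A point of the configuration. -/
structure McLPoint (v w x : Vec) : Prop where
  mv : v ∈ leechLattice
  nv : sqNorm v = 32
  mw : w ∈ leechLattice
  nw : sqNorm w = 32
  vw : dotInt v w = -8
  mx : x ∈ leechLattice
  nx : sqNorm x = 32
  vx : dotInt v x = 0
  wx : dotInt w x = 16

theorem McLPoint.of_mem {v w x : Vec} (hv : v ∈ leechLattice) (hvn : sqNorm v = 32) (hw : w ∈ leechLattice)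
    (hwn : sqNorm w = 32) (hd : dotInt v w = -8) (hx : x ∈ twoFS v 0 w 16) : McLPoint v w x := by
  obtain ⟨⟨h1, h2⟩, h3, h4⟩ := mem_twoFS.1 hx
  exact ⟨hv, hvn, hw, hwn, hd, h1, h2, h3, h4⟩

theorem McLPoint.read {v w x : Vec} (h : McLPoint v w x) :
    ∃ g : ↥Co0, ap g v = e44 fP fQ ∧ ap g x = d44 fP fQ ∧ Base (ap g w) := by
  obtain ⟨g, g1, g2, g3, g4⟩ := frame_reading h.mv h.nv h.mx h.nx h.vx h.mw
  rw [h.vw] at g3
  rw [dot_comm, h.wx] at g4
  exact ⟨g, g1, g2, ap_mem g h.mw, by rw [ap_norm g h.mw, h.nw], by omega, by omega⟩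

theorem cls_map {v w x : Vec} (h : McLPoint v w x) {g : ↥Co0} (g1 : ap g v = e44 fP fQ)
    (g2 : ap g x = d44 fP fQ) {c : ℤ} {y : Vec} (hy : y ∈ clsFS v w x c) : ap g y ∈ frameCls (ap g w) c := by
  obtain ⟨hy, hc⟩ := Finset.mem_filter.1 hy
  obtain ⟨⟨h1, h2⟩, h3, h4⟩ := mem_twoFS.1 hy
  exact Finset.mem_filter.2 ⟨mem_twoFS.2 ⟨⟨ap_mem g h1, by rw [ap_norm g h1, h2]⟩,
    by rw [← g1, ap_dot g h.mv h1, h3], by rw [ap_dot g h.mw h1, h4]⟩, by rw [← g2, ap_dot g h.mx h1, hc]⟩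

theorem McLPoint.cls_trans {v w x : Vec} (h : McLPoint v w x) {c : ℤ} (hc : c = 0 ∨ c = 8 ∨ c = 16) {y y' : Vec}
    (hy : y ∈ clsFS v w x c) (hy' : y' ∈ clsFS v w x c) :
    ∃ k : ↥Co0, ap k v = v ∧ ap k w = w ∧ ap k x = x ∧ ap k y = y' := by
  obtain ⟨g, g1, g2, hb⟩ := h.read
  obtain ⟨k, k1, k2, k3, k4⟩ := frameCls_trans hb hc (cls_map h g1 g2 hy) (cls_map h g1 g2 hy')
  have hy1 := (mem_twoFS.1 (Finset.mem_filter.1 hy).1).1.1
  have hy1' := (mem_twoFS.1 (Finset.mem_filter.1 hy').1).1.1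
  refine ⟨g⁻¹ * k * g, ?_, ?_, ?_, ?_⟩
  · rw [ap_mul _ _ h.mv, g1, ap_mul _ _ (e44_mem fP_ne_fQ), k1, ← g1, ap_inv_ap g h.mv]
  · rw [ap_mul _ _ h.mw, ap_mul _ _ (ap_mem g h.mw), k3, ap_inv_ap g h.mw]
  · rw [ap_mul _ _ h.mx, g2, ap_mul _ _ (d44_mem fP_ne_fQ), k2, ← g2, ap_inv_ap g h.mx]
  · rw [ap_mul _ _ hy1, ap_mul _ _ (ap_mem g hy1), k4, ap_inv_ap g hy1']

theorem McLPoint.dot_point {v w x : Vec} (h : McLPoint v w x) {y : Vec} (hy : y ∈ twoFS v 0 w 16) :
    dotInt x y ∈ ({32, 0, 16, 8} : Finset ℤ) := by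
  obtain ⟨⟨h1, h2⟩, h3, h4⟩ := mem_twoFS.1 hy
  have hc := dot_cases h.mx h.nx h1 h2
  have hnn : 0 ≤ dotInt x y := by
    by_contra hlt
    have e1 : dotInt (x + y - w) v = 8 := by
      rw [dot_sub_left, dot_add_left, dot_comm x, h.vx, dot_comm y, h3, dot_comm w, h.vw]; norm_num
    have e2 : sqNorm (x + y - w) = 32 + 2 * dotInt x y := by
      rw [sqNorm_sub, sqNorm_add, h.nx, h2, h.nw, dot_add_left, dot_comm x w, h.wx, dot_comm y w, h4]; ring
    by_cases h0 : x + y - w = 0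
    · rw [h0] at e1; simp [dotInt] at e1
    · have := sqNorm_min (sub_mem (add_mem h.mx h1) h.mw) h0
      omega
  simp only [Finset.mem_insert, Finset.mem_singleton] at hc ⊢
  omega

theorem McLPoint.cls_card {v w x : Vec} (h : McLPoint v w x) :
    (clsFS v w x 32).card = 1 ∧ (clsFS v w x 0).card = 330 ∧ (clsFS v w x 16).card = 462 ∧
      (clsFS v w x 8).card = 1232 := by
  classical
  obtain ⟨g, g1, g2, hb⟩ := h.read
  have hle : ∀ c, (clsFS v w x c).card ≤ (frameCls (ap g w) c).card := fun c =>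
    Finset.card_le_card_of_injOn (ap g) (fun y hy => cls_map h g1 g2 hy) fun y hy y' hy' e =>
      ap_inj g (mem_twoFS.1 (Finset.mem_filter.1 hy).1).1.1 (mem_twoFS.1 (Finset.mem_filter.1 hy').1).1.1 e
  obtain ⟨b1, b2, b3, b4⟩ := frameCls_le hb
  have hsum := Finset.card_eq_sum_card_fiberwise (f := fun y => dotInt x y) (s := twoFS v 0 w 16)
    (t := ({32, 0, 16, 8} : Finset ℤ)) fun y hy => h.dot_point hy
  rw [card_2025 h.mv h.nv h.mw h.nw h.vw] at hsum
  simp only [Finset.sum_insert (show (32 : ℤ) ∉ ({0, 16, 8} : Finset ℤ) by decide),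
    Finset.sum_insert (show (0 : ℤ) ∉ ({16, 8} : Finset ℤ) by decide),
    Finset.sum_insert (show (16 : ℤ) ∉ ({8} : Finset ℤ) by decide), Finset.sum_singleton] at hsum
  change 2025 = (clsFS v w x 32).card + ((clsFS v w x 0).card + ((clsFS v w x 16).card + (clsFS v w x 8).card)) at hsum
  have := hle 32; have := hle 0; have := hle 16; have := hle 8
  omega

theorem McLPoint.trans {v w x x' : Vec} (h : McLPoint v w x) (h' : McLPoint v w x') :
    ∃ g : ↥Co0, ap g v = v ∧ ap g w = w ∧ ap g x = x' := by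
  obtain ⟨g, g1, g2, g3⟩ := frame_triple (a := 1) (b := -3) (N := 32) h.mv h.nv h.mx h.nx h.vx h.mw h.nw
    (h.vw.trans (by norm_num)) (by rw [dot_comm, h.wx]; norm_num) h'.mv h'.nv h'.mx h'.nx h'.vx h'.mw h'.nw
    (h'.vw.trans (by norm_num)) (by rw [dot_comm, h'.wx]; norm_num) (by decide) (by norm_num)
  exact ⟨g, g1, g3, g2⟩

end

end Cfsg.Agent.LeechCount
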