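import Cfsg.Agent.Lib.LeechCount.McLGroup
import Cfsg.Agent.Lib.Golay.SylowM22
import Cfsg.Agent.Lib.Fusion.SelfNormSimple
import Cfsg.Prelude.Def_Spor_Conway

/-!
A Sylow 2-subgroup of the McLaughlin group lies in a point stabiliser `M22` and fixes one point only.
-/

set_option autoImplicit false

namespace Cfsg.Agent.LeechCount

open Cfsg Cfsg.Agent.Leech MulAction

noncomputable section

attribute [local irreducible] normFS

/-- A group fixing an orthogonal pair of minimal vectors and an odd vector, of the order of M22, is M22. -/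
theorem triple_stab_equiv {u X z : ↥leechLattice} (hX : sqNorm (X : Vec) = 32) (hz : sqNorm (z : Vec) = 32)
    (hXz : dotInt (X : Vec) z = 0) {g : ↥Co0} (g1 : ap g X = e44 fP fQ) (g2 : ap g z = d44 fP fQ)
    (hodd : ¬ (2 : ℤ) ∣ ap g u fP) (K : Subgroup ↥Co0)
    (hK : K ≤ stabilizer ↥Co0 u ⊓ stabilizer ↥Co0 X ⊓ stabilizer ↥Co0 z) (hcard : Nat.card ↥K = 443520) :
    Nonempty (↥K ≃* Cfsg.Spor.M22) := by
  classical
  have hfix : ∀ (h : ↥K) (v : ↥leechLattice), v = u ∨ v = X ∨ v = z → ap (h : ↥Co0) v = (v : Vec) := fun h v hv => by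
    obtain ⟨⟨a, b⟩, c⟩ := hK h.2
    rcases hv with rfl | rfl | rfl
    exacts [(smul_eq_iff_ap _ _ _).1 a, (smul_eq_iff_ap _ _ _).1 b, (smul_eq_iff_ap _ _ _).1 c]
  let c : ↥K →* ↥Co0 := (MulAut.conj g).toMonoidHom.comp K.subtype
  have hc : ∀ (h : ↥K) (v : ↥leechLattice), v = u ∨ v = X ∨ v = z → ap (c h) (ap g v) = ap g v := by
    intro h v hv
    show ap (g * (h : ↥Co0) * g⁻¹) (ap g v) = _
    rw [ap_mul _ _ (ap_mem g v.2), ap_inv_ap g v.2, ap_mul _ _ v.2, hfix h v hv]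
  have he : ∀ h : ↥K, ap (c h) (e8 fP) = e8 fP ∧ ap (c h) (e8 fQ) = e8 fQ := fun h => by
    have a := hc h X (Or.inr (Or.inl rfl))
    have b := hc h z (Or.inr (Or.inr rfl))
    rw [g1] at a
    rw [g2] at b
    have s1 : e8 fP = e44 fP fQ + d44 fP fQ := funext fun i => by
      simp only [e8, e44, d44, Pi.add_apply]
      by_cases h1 : i = fP
      · subst h1; simp
      · by_cases h2 : i = fQ
        · subst h2; simp
        · simp [h1, h2]
    have s2 : e8 fQ = e44 fP fQ - d44 fP fQ := funext fun i => by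
      simp only [e8, e44, d44, Pi.sub_apply]
      by_cases h1 : i = fP
      · subst h1; simp
      · by_cases h2 : i = fQ
        · subst h2; simp
        · simp [h1, h2]
    exact ⟨by rw [s1, ap_add _ (e44_mem fP_ne_fQ) (d44_mem fP_ne_fQ), a, b],
      by rw [s2, ap_sub _ (e44_mem fP_ne_fQ) (d44_mem fP_ne_fQ), a, b]⟩
  have hmem : ∀ h : ↥K, c h ∈ frame := fun h => by
    rw [mem_frame]
    show Cong (ap (c h) (e8 fP)) (e8 fP)
    rw [(he h).1]
    exact Cong.refl _
  let φ : ↥K →* ↥M24 := frameHom.comp (c.codRestrict frame hmem)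
  have hmono : ∀ h : ↥K, ∃ S, Cfsg.Agent.Leech.InC S ∧ ∀ x ∈ leechLattice, ap (c h) x = mono (φ h : Equiv.Perm GolayPt) S x :=
    fun h => frameHom_spec ⟨c h, hmem h⟩
  have hin : ∀ h : ↥K, φ h ∈ stabilizer ↥M24 fP ⊓ stabilizer ↥M24 fQ := fun h => by
    obtain ⟨S, -, hS⟩ := hmono h
    have key : ∀ p, ap (c h) (e8 p) = e8 p → (φ h : Equiv.Perm GolayPt) p = p := fun p hp => by
      have := congrFun ((hS _ (e8_mem p)).symm.trans hp) ((φ h : Equiv.Perm GolayPt) p)
      simp only [mono, Equiv.symm_apply_apply, e8, if_true] at this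
      by_contra hne
      rw [if_neg hne] at this
      split at this <;> omega
    exact ⟨key _ (he h).1, key _ (he h).2⟩
  have hinj : Function.Injective φ := by
    rw [injective_iff_map_eq_one]
    intro h hh
    obtain ⟨S, hS, hSm⟩ := hmono h
    have hu' := hc h u (Or.inl rfl)
    rw [hSm _ (ap_mem g u.2), hh] at hu'
    have hall : ∀ i, ¬ (2 : ℤ) ∣ ap g (u : Vec) i := fun i => by
      have h1 : LatM 1 (ap g (u : Vec)) := latM_of_mem (ap_mem g u.2) (i := fP) (m := 1) (by omega)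
      have := h1.1 i
      omega
    have hS0 : ∀ i, i ∉ S := fun i hi => by
      have h2 := congrFun hu' i
      simp [mono, hi, Equiv.Perm.one_def] at h2
      exact hall i ⟨0, by omega⟩
    have hc1 : c h = 1 := ext_ap fun x hx => by
      rw [hSm x hx, hh, ap_one]
      funext i
      simp [mono, hS0 i, Equiv.Perm.one_def]
    have : g * (h : ↥Co0) * g⁻¹ = 1 := hc1
    rw [conj_eq_one_iff] at this
    exact Subtype.ext this
  obtain ⟨hsimp, hM⟩ := M22_stab_simple fP_ne_fQ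
  obtain ⟨e⟩ := Golay24.stab_two_equiv fP fQ fP_ne_fQ
  let ψ : ↥K →* ↥(stabilizer ↥M24 fP ⊓ stabilizer ↥M24 fQ) := φ.codRestrict _ hin
  have hψ : Function.Injective ψ := fun a b e => hinj (congrArg Subtype.val e)
  have hbij : Function.Bijective ψ :=
    (Nat.bijective_iff_injective_and_card ψ).2 ⟨hψ, by rw [hcard, hM]⟩
  exact ⟨(MulEquiv.ofBijective ψ hbij).trans e⟩

/-- A Sylow 2-subgroup fixing a single point inherits self-normalisation and the absence of strongly
closed subgroups from the point stabiliser. -/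
theorem sylow_of_unique_fixed {G X : Type*} [Group G] [Finite G] [MulAction G X] (a : X)
    (e : ↥(stabilizer G a) ≃* Cfsg.Spor.M22) (hG : (Nat.card G).factorization 2 = 7)
    (heven : ∀ b : X, b ≠ a → 2 ∣ (orbit ↥(stabilizer G a) b).ncard)
    (hfin : ∀ b : X, (orbit ↥(stabilizer G a) b).Finite) :
    ∃ P : Sylow 2 G, (P : Subgroup G) ≠ ⊥ ∧ Subgroup.normalizer ((P : Subgroup G) : Set G) ≤ P ∧
      Fusion.NoClosedSub (P : Subgroup G) := by
  haveI : Fact (Nat.Prime 2) := ⟨Nat.prime_two⟩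
  haveI : Finite Cfsg.Spor.M22 := Finite.of_equiv _ e.toEquiv
  set S := Golay24.m22SylHyp.sylow with hS
  have hcS : Nat.card (S : Subgroup Cfsg.Spor.M22) = 2 ^ 7 := Golay24.m22SylHyp.card_sylow S
  have hN0 : Subgroup.normalizer ((S : Subgroup Cfsg.Spor.M22) : Set Cfsg.Spor.M22) ≤ S :=
    (Golay24.m22SylHyp.selfNormalizing S).le
  have hC0 : Fusion.NoClosedSub (S : Subgroup Cfsg.Spor.M22) := fun T hT hne hcl =>
    ((Golay24.m22SylHyp.closed_sylow S T hT hcl).resolve_left hne).ge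
  set P0 : Subgroup ↥(stabilizer G a) := (S : Subgroup Cfsg.Spor.M22).map e.symm.toMonoidHom with hP0
  have hN1 : Subgroup.normalizer (P0 : Set ↥(stabilizer G a)) ≤ P0 := Fusion.selfNorm_map e.symm hN0
  have hC1 : Fusion.NoClosedSub P0 := Fusion.noClosedSub_map e.symm hC0
  have hc0 : Nat.card P0 = 2 ^ 7 := by
    rw [hP0, Subgroup.card_map_of_injective e.symm.injective, hcS]
  set P1 : Subgroup G := P0.map (stabilizer G a).subtype with hP1
  have hc1 : Nat.card P1 = 2 ^ 7 := by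
    rw [hP1, Subgroup.card_map_of_injective (stabilizer G a).subtype_injective, hc0]
  have hfix : ∀ b : X, (∀ p ∈ P1, p • b = b) → b = a := by
    intro b hb
    by_contra hne
    set K := stabilizer ↥(stabilizer G a) b
    have hle : P0 ≤ K := fun p hp => mem_stabilizer_iff.2 (hb p.1 ⟨p, hp, rfl⟩)
    have h1 := Subgroup.card_dvd_of_le hle
    have h2 := K.card_mul_index
    rw [index_stabilizer, Nat.card_congr e.toEquiv, Golay24.card_M22] at h2
    obtain ⟨k, hk⟩ := h1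
    obtain ⟨n, hn⟩ := heven b hne
    rw [hk, hn, hc0] at h2
    have h3 : 2 ∣ 3465 := ⟨k * n, by nlinarith⟩
    omega
  have hle1 : P1 ≤ stabilizer G a := Subgroup.map_subtype_le _
  refine ⟨Sylow.ofCard P1 (by rw [hc1, hG]), ?_, ?_, ?_⟩
  all_goals rw [Sylow.coe_ofCard]
  · intro h
    rw [h, Subgroup.card_bot] at hc1
    norm_num at hc1
  · intro g hg
    have hga : g • a = a := hfix _ fun p hp => by
      have hp' : g⁻¹ * p * g ∈ P1 := by
        have := (Subgroup.mem_normalizer_iff.1 (inv_mem hg) p).1 hp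
        rwa [inv_inv] at this
      calc p • g • a = g • ((g⁻¹ * p * g) • a) := by rw [smul_smul, smul_smul]; group
        _ = g • a := by rw [mem_stabilizer_iff.1 (hle1 hp')]
    have : (⟨g, hga⟩ : ↥(stabilizer G a)) ∈ P0 := hN1 (Subgroup.mem_normalizer_iff.2 fun x => by
      have := Subgroup.mem_normalizer_iff.1 hg x.1
      constructor
      · intro hx
        obtain ⟨y, hy, he⟩ := this.1 ⟨x, hx, rfl⟩
        exact (show y = ⟨g, hga⟩ * x * (⟨g, hga⟩ : ↥(stabilizer G a))⁻¹ from Subtype.ext he) ▸ hy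
      · intro hx
        obtain ⟨y, hy, he⟩ := this.2 ⟨_, hx, rfl⟩
        exact (show y = x from Subtype.ext he) ▸ hy)
    exact ⟨_, this, rfl⟩
  · intro T hT hne hcl
    have hmem : ∀ {x : ↥(stabilizer G a)}, x.1 ∈ P1 ↔ x ∈ P0 := fun {x} =>
      ⟨fun ⟨y, hy, he⟩ => (show y = x from Subtype.ext he) ▸ hy, fun hx => ⟨x, hx, rfl⟩⟩
    have h := hC1 (T.subgroupOf (stabilizer G a)) (fun x hx => hmem.1 (hT hx)) (fun h => hne (by
      rw [Subgroup.subgroupOf_eq_bot] at h
      exact h.eq_bot_of_le (hT.trans hle1))) fun g x hx hgx => hcl g.1 x.1 hx (hmem.2 hgx)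
    rintro _ ⟨x, hx, rfl⟩
    exact h hx

/-- The group fixing two minimal vectors with product -8 has such a Sylow 2-subgroup. -/
theorem mcl_sylow {v w : ↥leechLattice} (hv : sqNorm (v : Vec) = 32) (hw : sqNorm (w : Vec) = 32)
    (hd : dotInt (v : Vec) w = -8) :
    ∃ P : Sylow 2 ↥(stabilizer ↥Co0 v ⊓ stabilizer ↥Co0 w),
      (P : Subgroup ↥(stabilizer ↥Co0 v ⊓ stabilizer ↥Co0 w)) ≠ ⊥ ∧
      Subgroup.normalizer ((P : Subgroup ↥(stabilizer ↥Co0 v ⊓ stabilizer ↥Co0 w)) :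
        Set ↥(stabilizer ↥Co0 v ⊓ stabilizer ↥Co0 w)) ≤ P ∧
      Fusion.NoClosedSub (P : Subgroup ↥(stabilizer ↥Co0 v ⊓ stabilizer ↥Co0 w)) := by
  classical
  set G := stabilizer ↥Co0 v ⊓ stabilizer ↥Co0 w with hG
  have hcG : Nat.card G = 898128000 := card_mcl hv hw hd
  haveI : Finite G := Nat.finite_of_card_ne_zero (by rw [hcG]; norm_num)
  have hn : Nat.card (McLPts v w) = 2025 := by
    rw [← card_2025 v.2 hv w.2 hw hd, ← Nat.card_eq_finsetCard]
    exact Nat.card_congr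
      { toFun := fun z => ⟨(z.1 : Vec), z.2⟩
        invFun := fun x => ⟨⟨x.1, (mem_twoFS.1 x.2).1.1⟩, x.2⟩
        left_inv := fun z => rfl
        right_inv := fun x => rfl }
  haveI : Finite (McLPts v w) := Nat.finite_of_card_ne_zero (by rw [hn]; norm_num)
  have hpt : ∀ x : McLPts v w, McLPoint v w (x.1 : Vec) := fun x => McLPoint.of_mem v.2 hv w.2 hw hd x.2
  haveI : IsPretransitive G (McLPts v w) := ⟨fun x x' => by
    obtain ⟨g, g1, g2, g3⟩ := (hpt x).trans (hpt x')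
    exact ⟨⟨g, mem_stabilizer_iff.2 ((smul_eq_iff_ap g v v).2 g1), mem_stabilizer_iff.2 ((smul_eq_iff_ap g w w).2 g2)⟩,
      Subtype.ext ((smul_eq_iff_ap g x.1 x'.1).2 g3)⟩⟩
  obtain ⟨a⟩ : Nonempty (McLPts v w) := (Nat.card_pos_iff.1 (by rw [hn]; norm_num)).1
  have hH : Nat.card ↥(stabilizer G a) = 443520 := by
    have h := Subgroup.card_mul_index (stabilizer G a)
    rw [index_stabilizer_of_transitive, hn, hcG] at h
    omega
  obtain ⟨e⟩ : Nonempty (↥(stabilizer G a) ≃* Cfsg.Spor.M22) := by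
    obtain ⟨g, g1, g2, hb⟩ := (hpt a).read
    let e := (stabilizer G a).equivMapOfInjective G.subtype G.subtype_injective
    obtain ⟨f⟩ := triple_stab_equiv (u := w) (X := v) (z := a.1) hv (hpt a).nx (hpt a).vx g1 g2
      (by rw [hb.atP]; decide) ((stabilizer G a).map G.subtype) (by
        rintro _ ⟨h, hh, rfl⟩
        exact ⟨⟨h.2.2, h.2.1⟩, congrArg Subtype.val hh⟩)
      (by rw [← Nat.card_congr e.toEquiv, hH])
    exact ⟨e.trans f⟩
  have hcls : ∀ b : McLPts v w, b ≠ a → dotInt (a.1 : Vec) b.1 = 0 ∨ dotInt (a.1 : Vec) b.1 = 8 ∨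
      dotInt (a.1 : Vec) b.1 = 16 := fun b hb => by
    have h := (hpt a).dot_point b.2
    simp only [Finset.mem_insert, Finset.mem_singleton] at h
    rcases h with h | h | h | h
    · refine absurd (Subtype.ext (Subtype.ext ?_)) hb
      have : sqNorm ((b.1 : Vec) - (a.1 : Vec)) = 0 := by
        rw [sqNorm_sub, (hpt b).nx, (hpt a).nx, dot_comm, h]; norm_num
      exact sub_eq_zero.1 (sqNorm_eq_zero.1 this)
    · exact Or.inl h
    · exact Or.inr (Or.inr h)
    · exact Or.inr (Or.inl h)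
  have horb : ∀ b : McLPts v w, b ≠ a → orbit ↥(stabilizer G a) b =
      {y : McLPts v w | dotInt (a.1 : Vec) y.1 = dotInt (a.1 : Vec) b.1} := by
    intro b hb
    ext y
    constructor
    · rintro ⟨h, rfl⟩
      have e := congrArg Subtype.val (mem_stabilizer_iff.1 h.2)
      rw [mcl_smul_val] at e
      show dotInt (a.1 : Vec) ((((h : G) : ↥Co0) • b.1 : ↥leechLattice) : Vec) = _
      rw [dot_of_fix _ e]
    · intro hy
      obtain ⟨g, g1, g2, g3, g4⟩ := (hpt a).cls_trans (hcls b hb) (Finset.mem_filter.2 ⟨b.2, rfl⟩)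
        (Finset.mem_filter.2 ⟨y.2, hy⟩)
      exact ⟨⟨⟨g, mem_stabilizer_iff.2 ((smul_eq_iff_ap g v v).2 g1), mem_stabilizer_iff.2 ((smul_eq_iff_ap g w w).2 g2)⟩,
        Subtype.ext ((smul_eq_iff_ap g a.1 a.1).2 g3)⟩, Subtype.ext ((smul_eq_iff_ap g b.1 y.1).2 g4)⟩
  have hsize : ∀ c : ℤ, {y : McLPts v w | dotInt (a.1 : Vec) y.1 = c}.ncard = (clsFS v w a.1 c).card := by
    intro c
    rw [← Set.ncard_image_of_injective _ (Subtype.val_injective.comp Subtype.val_injective :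
        Function.Injective fun y : McLPts v w => (y.1 : Vec)), ← Set.ncard_coe_finset]
    congr 1
    ext x
    simp only [Set.mem_image, clsFS, Finset.coe_filter, Set.mem_ofPred_eq]
    exact ⟨fun ⟨y, hy, e⟩ => e ▸ ⟨y.2, hy⟩, fun ⟨h1, h2⟩ => ⟨⟨⟨x, (mem_twoFS.1 h1).1.1⟩, h1⟩, h2, rfl⟩⟩
  obtain ⟨n32, n0, n16, n8⟩ := (hpt a).cls_card
  refine sylow_of_unique_fixed a e ?_ (fun b hb => ?_) fun b => Set.toFinite _
  · rw [hcG, show (898128000 : ℕ) = 2 ^ 7 * 7016625 by norm_num,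
      Nat.factorization_mul (by norm_num) (by norm_num), Nat.factorization_pow,
      Finsupp.add_apply, Finsupp.smul_apply, Nat.Prime.factorization_self Nat.prime_two,
      Nat.factorization_eq_zero_of_not_dvd (by norm_num)]
    rfl
  · rw [horb b hb, hsize]
    rcases hcls b hb with e | e | e <;> rw [e] <;> simp only [n0, n8, n16] <;> norm_num

/-- A copy of the McLaughlin group has such a Sylow 2-subgroup. -/
theorem mcl_simple_fusion {H : Type*} [Group H] [Finite H] (f : ↥Cfsg.Spor.McL ≃* H) (S : Sylow 2 H) :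
    (Cfsg.groupFusionSystem (S : Subgroup H)).IsSimple 2 := by
  haveI : Fact (Nat.Prime 2) := ⟨Nat.prime_two⟩
  set v : ↥leechLattice := Cfsg.Spor.leechU
  set w : ↥leechLattice := -(Cfsg.Spor.leechU + Cfsg.Spor.leechV)
  have hv : sqNorm (v : Vec) = 32 := by
    show sqNorm Cfsg.Spor.vecU = 32
    decide +kernel
  have hw : sqNorm (w : Vec) = 32 := by
    show sqNorm (-(Cfsg.Spor.vecU + Cfsg.Spor.vecV)) = 32
    decide +kernel
  have hd : dotInt (v : Vec) w = -8 := by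
    show dotInt Cfsg.Spor.vecU (-(Cfsg.Spor.vecU + Cfsg.Spor.vecV)) = -8
    decide +kernel
  have key : ∀ g : ↥Co0, ((g : Equiv.Perm ↥leechLattice) Cfsg.Spor.leechV = Cfsg.Spor.leechV ∧
      (g : Equiv.Perm ↥leechLattice) Cfsg.Spor.leechU = Cfsg.Spor.leechU) ↔ (g • v = v ∧ g • w = w) := by
    intro g
    let G : ↥leechLattice →+ ↥leechLattice := AddMonoidHom.mk' (g : Equiv.Perm ↥leechLattice) g.2.1
    show (G Cfsg.Spor.leechV = Cfsg.Spor.leechV ∧ G Cfsg.Spor.leechU = Cfsg.Spor.leechU) ↔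
      (G v = v ∧ G w = w)
    constructor
    · rintro ⟨h1, h2⟩
      exact ⟨h2, by simp only [w, map_neg, map_add, h1, h2]⟩
    · rintro ⟨h1, h2⟩
      refine ⟨?_, h1⟩
      have h3 : Cfsg.Spor.leechV = -w - v := by simp only [w, v]; abel
      rw [h3, map_sub, map_neg, h2, h1]
  let φ : ↥(stabilizer ↥Co0 v ⊓ stabilizer ↥Co0 w) ≃* ↥Cfsg.Spor.McL :=
    { toFun := fun g => ⟨g.1.1, ⟨g.1.2, ((key g.1).2 ⟨g.2.1, g.2.2⟩).1⟩, ((key g.1).2 ⟨g.2.1, g.2.2⟩).2⟩
      invFun := fun g => ⟨⟨g.1, g.2.1.1⟩, ((key ⟨g.1, g.2.1.1⟩).1 ⟨g.2.1.2, g.2.2⟩).1,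
        ((key ⟨g.1, g.2.1.1⟩).1 ⟨g.2.1.2, g.2.2⟩).2⟩
      left_inv := fun g => rfl
      right_inv := fun g => rfl
      map_mul' := fun g h => rfl }
  obtain ⟨P, hP, hN, hC⟩ := mcl_sylow hv hw hd
  exact (Fusion.selfNorm_simple (φ.trans f) P hP hN hC S).2.2

end

end Cfsg.Agent.LeechCount
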