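import Cfsg.Agent.Lib.Leech.Orbits
import Cfsg.Agent.Lib.Leech.CodeExtra
import Cfsg.Agent.Lib.Leech.Stab
import Cfsg.Agent.Lib.Golay.Carry
import Cfsg.Agent.Lib.LeechCount.Counts

/-!
One orbit of vectors with sum of squares 48.
-/

set_option autoImplicit false

namespace Cfsg.Agent.LeechCount

open Cfsg Cfsg.Agent.Leech
open scoped Pointwise

noncomputable section

attribute [local irreducible] Golay24.weightList Golay24.codeList

/-- Test of a four-set against an octad. -/
def tetOk (T O : ℕ) : Bool :=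
  (Golay24.pop24 T == 4) && (Nat.land T O == 0) &&
    (Golay24.weightList 8).all fun W => !(Nat.land W T == T) || !(Golay24.pop24 (Nat.land W O) == 4)

theorem tet_search : ((List.range 24).all fun k => Nat.testBit Golay24.m24Octad k ||
    (List.range 24).any fun a => (List.range 24).any fun b => (List.range 24).any fun c =>
      Nat.blt a b && Nat.blt b c &&
        tetOk (Nat.lor (Nat.lor (2 ^ k) (2 ^ a)) (Nat.lor (2 ^ b) (2 ^ c))) Golay24.m24Octad) = true := by
  unfold tetOk Golay24.weightList Golay24.codeList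
  decide +kernel

/-- A four-set through a point off an octad whose sextet splits the octad in pairs. -/
theorem exists_tet {O : Finset GolayPt} (hO : InC O) (h8 : O.card = 8) {p : GolayPt} (hp : p ∉ O) :
    ∃ T : Finset GolayPt, T.card = 4 ∧ p ∈ T ∧ Disjoint T O ∧
      ∀ W, InC W → W.card = 8 → T ⊆ W → (W ∩ O).card ≠ 4 := by
  have hoct : O ∈ octads := ⟨hO, h8⟩
  obtain ⟨σ, hσ, hσO⟩ := Golay24.exists_octad_map
    (Golay24.setOf_mem_octads (by decide +kernel : Golay24.isOct Golay24.m24Octad = true)) hoct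
  have hk := List.all_eq_true.1 tet_search (Golay24.idx (σ⁻¹ • p)) (List.mem_range.2 (Fin.isLt _))
  rw [Bool.or_eq_true] at hk
  rcases hk with hk | hk
  · exfalso
    refine hp ?_
    rw [← hσO, ← Finset.inv_smul_mem_iff, Golay24.mem_setOf]
    exact hk
  simp only [List.any_eq_true, List.mem_range, Bool.and_eq_true] at hk
  obtain ⟨a, ha, b, hb, c, hc, -, hT⟩ := hk
  set M := Nat.lor (Nat.lor (2 ^ (Golay24.idx (σ⁻¹ • p) : ℕ)) (2 ^ a)) (Nat.lor (2 ^ b) (2 ^ c)) with hM
  have hlt : M < 2 ^ 24 := by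
    show _ ||| _ < 2 ^ 24
    exact Nat.or_lt_two_pow (Nat.or_lt_two_pow (Nat.pow_lt_pow_right (by norm_num) (Fin.isLt _))
      (Nat.pow_lt_pow_right (by norm_num) ha)) (Nat.or_lt_two_pow (Nat.pow_lt_pow_right (by norm_num) hb)
      (Nat.pow_lt_pow_right (by norm_num) hc))
  simp only [tetOk, Bool.and_eq_true, beq_iff_eq, List.all_eq_true, Bool.or_eq_true, Bool.not_eq_true',
    beq_eq_false_iff_ne] at hT
  obtain ⟨⟨h4, hd⟩, hW⟩ := hT
  refine ⟨σ • Golay24.setOf M, ?_, ?_, ?_, fun W hW' hW8 hTW => ?_⟩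
  · rw [Finset.card_smul_finset, Golay24.card_setOf]; exact h4
  · rw [← Finset.inv_smul_mem_iff, Golay24.mem_setOf, hM]
    show Nat.testBit ((_ ||| _) ||| _) _ = true
    simp [Nat.testBit_or, Nat.testBit_two_pow_self]
  · rw [← hσO, Finset.disjoint_iff_inter_eq_empty, ← Finset.smul_finset_inter, ← Golay24.setOf_land]
    show σ • Golay24.setOf (Nat.land M Golay24.m24Octad) = ∅
    rw [hd, Golay24.setOf_zero]; rfl
  · have hWm : Golay24.maskOf (σ⁻¹ • W) ∈ Golay24.weightList 8 :=
      (Golay24.inv_smul_mem_octads_iff hσ W).2 ⟨hW', hW8⟩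
    have hsub : Nat.land (Golay24.maskOf (σ⁻¹ • W)) M = M := by
      show _ &&& M = M
      conv_rhs => rw [← Golay24.maskOf_setOf hlt]
      rw [← Golay24.maskOf_setOf hlt, ← Golay24.maskOf_inter, Golay24.setOf_maskOf]
      congr 1
      rw [Finset.inter_eq_right, ← Finset.smul_finset_subset_smul_finset_iff (a := σ), smul_inv_smul]
      exact hTW
    rcases hW _ hWm with h | h
    · exact absurd hsub h
    · intro e
      apply h
      show Golay24.pop24 (Golay24.maskOf (σ⁻¹ • W) &&& Golay24.m24Octad) = 4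
      rw [← Golay24.card_setOf, Golay24.setOf_land, Golay24.setOf_maskOf,
        ← Finset.card_smul_finset σ, Finset.smul_finset_inter, smul_inv_smul, hσO, e]

/-- The shape of even vectors with sum of squares 48. -/
theorem even48_shape {x : Vec} (h : LatM 0 x) (hn : sqNorm x = 48) :
    ((pat 0 x).card = 12 ∧ (∀ i ∈ pat 0 x, x i = 2 ∨ x i = -2) ∧ ∀ i ∉ pat 0 x, x i = 0) ∨
    ((pat 0 x).card = 8 ∧ (∀ i ∈ pat 0 x, x i = 2 ∨ x i = -2) ∧
      ∃ p ∉ pat 0 x, (x p = 4 ∨ x p = -4) ∧ ∀ i ∉ pat 0 x, i ≠ p → x i = 0) := by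
  have hb := entry_bound (x := x) (by omega)
  have hv : ∀ i, (i ∈ pat 0 x → x i ^ 2 = 4 ∧ (x i = 2 ∨ x i = -2) ∨ x i ^ 2 = 36) ∧
      (i ∉ pat 0 x → x i = 0 ∨ x i ^ 2 = 16 ∧ (x i = 4 ∨ x i = -4) ∨ x i ^ 2 = 64) := fun i => by
    obtain ⟨h1, h2⟩ := hb i
    have h3 := h.1 i
    rw [mem_pat, not_not, sub_zero]
    revert h3
    generalize x i = v at h1 h2 ⊢
    interval_cases v <;> norm_num
  have hle : ∀ i, x i ^ 2 ≤ 48 := fun i =>
    hn ▸ Finset.single_le_sum (f := fun j => x j ^ 2) (fun j _ => sq_nonneg _) (Finset.mem_univ i)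
  have hout : ∀ i ∉ pat 0 x, x i = 0 ∨ x i ^ 2 = 16 ∧ (x i = 4 ∨ x i = -4) := fun i hi => by
    rcases (hv i).2 hi with h' | h' | h'
    exacts [Or.inl h', Or.inr h', absurd h' (by have := hle i; omega)]
  have hge : ∀ i ∈ pat 0 x, 4 ≤ x i ^ 2 := fun i hi => by
    rcases (hv i).1 hi with h' | h' <;> omega
  have hsplit := Finset.sum_add_sum_compl (pat 0 x) fun j => x j ^ 2
  change _ = sqNorm x at hsplit
  have hlow : (4 : ℤ) * (pat 0 x).card ≤ ∑ j ∈ pat 0 x, x j ^ 2 := by
    have := Finset.sum_le_sum (f := fun _ => (4 : ℤ)) hge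
    rw [Finset.sum_const, nsmul_eq_mul, mul_comm] at this
    exact this
  have hc0 : 0 ≤ ∑ j ∈ (pat 0 x)ᶜ, x j ^ 2 := Finset.sum_nonneg fun j _ => sq_nonneg _
  have hZ : ∀ i ∈ pat 0 x, (8 : ℤ) ≤ (pat 0 x).card → x i = 2 ∨ x i = -2 := fun i hi h8 => by
    rcases (hv i).1 hi with h' | h'
    · exact h'.2
    · exfalso
      have h1 := Finset.add_sum_erase _ (fun j => x j ^ 2) hi
      have h2 := Finset.sum_le_sum (f := fun _ => (4 : ℤ)) (s := (pat 0 x).erase i)
        fun j hj => hge j (Finset.mem_of_mem_erase hj)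
      rw [Finset.sum_const, Finset.card_erase_of_mem hi, nsmul_eq_mul] at h2
      have : (((pat 0 x).card - 1 : ℕ) : ℤ) = (pat 0 x).card - 1 := by
        have := Finset.card_pos.2 ⟨i, hi⟩
        omega
      rw [this] at h2
      omega
  rcases InC_weights h.2.2 with e | e | e | e | e
  · exfalso
    have h0 := Finset.card_eq_zero.1 e
    have h4 : ∀ i, ∃ b : ℤ, x i = 4 * b := fun i => four_of_pat_empty' h0 i
    choose b hb' using h4
    have e1 : sqNorm x = 16 * ∑ i, b i ^ 2 := by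
      rw [sqNorm, Finset.mul_sum]; exact Finset.sum_congr rfl fun i _ => by rw [hb']; ring
    have e2 : ∑ i, x i = 4 * ∑ i, b i := by
      rw [Finset.mul_sum]; exact Finset.sum_congr rfl fun i _ => hb' i
    have e3 : (2 : ℤ) ∣ (∑ i, b i ^ 2) - ∑ i, b i := by
      rw [← Finset.sum_sub_distrib]
      exact Finset.dvd_sum fun i _ => by
        rw [show b i ^ 2 - b i = b i * (b i - 1) by ring]
        exact even_iff_two_dvd.1 (Int.even_mul_pred_self _)
    have := h.2.1
    omega
  · right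
    refine ⟨e, fun i hi => hZ i hi (by omega), ?_⟩
    have hP : ∑ j ∈ pat 0 x, x j ^ 2 = 32 := by
      rw [Finset.sum_congr rfl fun j hj => show x j ^ 2 = 4 by
        rcases hZ j hj (by omega) with h' | h' <;> rw [h'] <;> norm_num, Finset.sum_const, e]
      norm_num
    obtain ⟨p, hp, hpx⟩ : ∃ p ∉ pat 0 x, x p ≠ 0 := by
      by_contra hc
      push Not at hc
      rw [Finset.sum_eq_zero (s := (pat 0 x)ᶜ) fun j hj => by rw [hc j (Finset.mem_compl.1 hj)]; rfl] at hsplit
      omega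
    have hp4 := (hout p hp).resolve_left hpx
    refine ⟨p, hp, hp4.2, fun i hi hip => ?_⟩
    by_contra hne
    have hi4 := (hout i hi).resolve_left hne
    have h1 := Finset.sum_le_sum_of_subset_of_nonneg (f := fun j => x j ^ 2)
      (show ({i, p} : Finset GolayPt) ⊆ (pat 0 x)ᶜ by
        intro j hj
        rcases Finset.mem_insert.1 hj with rfl | hj
        · exact Finset.mem_compl.2 hi
        · rw [Finset.mem_singleton.1 hj]; exact Finset.mem_compl.2 hp)
      (fun j _ _ => sq_nonneg _)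
    rw [Finset.sum_pair hip, hi4.1, hp4.1] at h1
    omega
  · left
    refine ⟨e, fun i hi => hZ i hi (by omega), fun i hi => ?_⟩
    have h1 := Finset.single_le_sum (f := fun j => x j ^ 2) (fun j _ => sq_nonneg _) (Finset.mem_compl.2 hi)
    rcases hout i hi with h' | h'
    · exact h'
    · exfalso; omega
  · exfalso; omega
  · exfalso; omega
where
  four_of_pat_empty' {y : Vec} (hp : pat 0 y = ∅) (i : GolayPt) : ∃ b : ℤ, y i = 4 * b := by
    have : i ∉ pat 0 y := by rw [hp]; exact Finset.notMem_empty i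
    rw [mem_pat, not_not, sub_zero] at this
    exact this

/-- The octad shape is equivalent to the dodecad shape. -/
theorem coEq_twelve {x : Vec} (h : LatM 0 x) (h8 : (pat 0 x).card = 8)
    (hP : ∀ i ∈ pat 0 x, x i = 2 ∨ x i = -2) {p : GolayPt} (hp : p ∉ pat 0 x) (hxp : x p = 4 ∨ x p = -4)
    (h0 : ∀ i ∉ pat 0 x, i ≠ p → x i = 0) : ∃ y, CoEq x y ∧ LatM 0 y ∧ (pat 0 y).card = 12 := by
  classical
  obtain ⟨T, hT, hpT, hTd, hW⟩ := exists_tet h.2.2 h8 hp
  obtain ⟨X, hX⟩ := exists_sx T hT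
  have hxL : x ∈ leechLattice := (mem_leech_iff x).2 ⟨0, h⟩
  have hcap : ∀ j, j ≠ 0 → (X.tet j ∩ pat 0 x).card = 0 ∨ (X.tet j ∩ pat 0 x).card = 2 := by
    intro j hj
    have hu : (X.tet 0 ∪ X.tet j).card = 8 := by
      rw [Finset.card_union_of_disjoint (X.tet_disjoint hj.symm), X.tet_card, X.tet_card]
    have h4 := hW _ (X.InC_pair hj.symm) hu (hX ▸ Finset.subset_union_left)
    rw [Finset.union_inter_distrib_right, hX, Finset.disjoint_iff_inter_eq_empty.1 hTd, Finset.empty_union] at h4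
    obtain ⟨r, hr⟩ := X.parity h.2.2 0 j
    rw [hX, Finset.inter_comm _ T, Finset.disjoint_iff_inter_eq_empty.1 hTd, Finset.card_empty,
      Finset.inter_comm] at hr
    have := Finset.card_le_card (Finset.inter_subset_left : X.tet j ∩ pat 0 x ⊆ X.tet j)
    rw [X.tet_card] at this
    omega
  have hs0 : X.tsum x 0 = x p := by
    show ∑ i ∈ X.tet 0, x i = x p
    rw [hX]
    exact Finset.sum_eq_single p (fun i hi hne => h0 i (Finset.disjoint_left.1 hTd hi) hne)
      (fun hn => absurd hpT hn)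
  have hxi_mem := X.xi_mem hxL
  have hy : LatM 0 (X.xi x) := latM_of_mem hxi_mem (i := p) (by
    simp only [Sx.xi]
    rw [if_pos (X.mem_tet.1 (hX ▸ hpT)), X.mem_tet.1 (hX ▸ hpT), hs0]
    omega)
  refine ⟨X.xi x, ⟨X.xiCo, X.ap_xiCo hxL⟩, hy, ?_⟩
  -- count the new pattern fibre by fibre
  have hfib : ∀ j, (pat 0 (X.xi x) ∩ X.tet j).card = if j = 0 then 4 else (X.tet j ∩ pat 0 x).card := by
    intro j
    by_cases hj : j = 0
    · subst hj
      rw [if_pos rfl, Finset.inter_eq_right.2 fun i hi => ?_, X.tet_card]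
      rw [mem_pat, sub_zero]
      simp only [Sx.xi]
      rw [if_pos (X.mem_tet.1 hi), X.mem_tet.1 hi, hs0]
      rw [hX] at hi
      by_cases hip : i = p
      · subst hip; omega
      · rw [h0 i (Finset.disjoint_left.1 hTd hi) hip]; omega
    rw [if_neg hj]
    have hz : ∀ i ∈ X.tet j, i ∉ pat 0 x → x i = 0 := fun i hi hn => h0 i hn fun e => by
      subst e
      rw [← hX, X.mem_tet] at hpT
      exact hj ((X.mem_tet.1 hi).symm.trans hpT)
    have hs : X.tsum x j = ∑ i ∈ X.tet j ∩ pat 0 x, x i :=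
      (Finset.sum_subset Finset.inter_subset_left fun i hi hn => hz i hi fun hp' =>
        hn (Finset.mem_inter.2 ⟨hi, hp'⟩)).symm
    have hyi : ∀ i ∈ X.tet j, (i ∈ pat 0 (X.xi x) ↔ ¬ (4 : ℤ) ∣ x i - X.tsum x j / 2) := fun i hi => by
      rw [mem_pat, sub_zero]
      simp only [Sx.xi]
      rw [if_neg (by rw [X.mem_tet.1 hi]; exact hj), X.mem_tet.1 hi]
    rcases hcap j hj with hc | hc
    · rw [hc, Finset.card_eq_zero, Finset.eq_empty_iff_forall_notMem]
      intro i hi
      rw [Finset.mem_inter] at hi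
      have hnp : i ∉ pat 0 x := fun hp' => by
        have := Finset.card_eq_zero.1 hc
        exact Finset.notMem_empty i (this ▸ Finset.mem_inter.2 ⟨hi.2, hp'⟩)
      refine (hyi i hi.2).1 hi.1 ?_
      rw [hz i hi.2 hnp, hs, Finset.card_eq_zero.1 hc]
      simp
    obtain ⟨a, b, hab, heq⟩ := Finset.card_eq_two.1 hc
    rw [heq, Finset.sum_pair hab] at hs
    have ha : a ∈ X.tet j ∩ pat 0 x := heq ▸ Finset.mem_insert_self _ _
    have hbm : b ∈ X.tet j ∩ pat 0 x := heq ▸ Finset.mem_insert_of_mem (Finset.mem_singleton_self _)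
    rw [Finset.mem_inter] at ha hbm
    have xa := hP a ha.2
    have xb := hP b hbm.2
    have hcases : X.tsum x j = 0 ∨ X.tsum x j = 4 ∨ X.tsum x j = -4 := by omega
    have hmem : ∀ i ∈ X.tet j, i ∈ pat 0 x ↔ i = a ∨ i = b := fun i hi => by
      refine ⟨fun hp' => ?_, ?_⟩
      · have := Finset.mem_inter.2 ⟨hi, hp'⟩
        rw [heq] at this; simpa using this
      · rintro (rfl | rfl)
        exacts [ha.2, hbm.2]
    rw [hc]
    by_cases hzero : X.tsum x j = 0
    · refine (congrArg Finset.card (show pat 0 (X.xi x) ∩ X.tet j = {a, b} from ?_)).trans (Finset.card_pair hab)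
      ext i
      rw [Finset.mem_inter, Finset.mem_insert, Finset.mem_singleton]
      constructor
      · rintro ⟨h1, h2⟩
        rw [← hmem i h2]
        by_contra hn
        exact (hyi i h2).1 h1 (by rw [hz i h2 hn, hzero]; simp)
      · rintro (rfl | rfl)
        · exact ⟨(hyi _ ha.1).2 (by omega), ha.1⟩
        · exact ⟨(hyi _ hbm.1).2 (by omega), hbm.1⟩
    · refine (congrArg Finset.card (show pat 0 (X.xi x) ∩ X.tet j = X.tet j \ {a, b} from ?_)).trans ?_
      · ext i
        rw [Finset.mem_inter, Finset.mem_sdiff, Finset.mem_insert, Finset.mem_singleton]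
        constructor
        · rintro ⟨h1, h2⟩
          refine ⟨h2, fun hab' => (hyi i h2).1 h1 ?_⟩
          rcases hab' with rfl | rfl <;> omega
        · rintro ⟨h2, hn⟩
          refine ⟨(hyi i h2).2 ?_, h2⟩
          rw [hz i h2 fun hp' => hn ((hmem i h2).1 hp')]
          omega
      · rw [Finset.card_sdiff_of_subset (Finset.insert_subset ha.1 (Finset.singleton_subset_iff.2 hbm.1)),
          X.tet_card, Finset.card_pair hab]
  have htot : ∀ S : Finset GolayPt, (S.card : ℤ) = ∑ j, ((S ∩ X.tet j).card : ℤ) := fun S => by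
    have := X.sum_fiber fun i => if i ∈ S then (1 : ℤ) else 0
    rw [Finset.sum_congr rfl fun j _ => show (∑ i ∈ X.tet j, if i ∈ S then (1 : ℤ) else 0) = ((S ∩ X.tet j).card : ℤ) by
      rw [← Finset.sum_filter, Finset.filter_mem_eq_inter, Finset.inter_comm]; simp] at this
    rw [← this]; simp
  have e1 := htot (pat 0 (X.xi x))
  have e2 := htot (pat 0 x)
  rw [Finset.sum_congr rfl fun j _ => congrArg Nat.cast (hfib j)] at e1
  have h00 : (pat 0 x ∩ X.tet 0).card = 0 := by
    rw [hX, Finset.inter_comm, Finset.disjoint_iff_inter_eq_empty.1 hTd, Finset.card_empty]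
  have : (∑ j, ((if j = 0 then 4 else (X.tet j ∩ pat 0 x).card : ℕ) : ℤ)) =
      4 + ∑ j, ((pat 0 x ∩ X.tet j).card : ℤ) := by
    rw [← Finset.add_sum_erase _ _ (Finset.mem_univ (0 : Fin 6)),
      ← Finset.add_sum_erase _ (fun j => ((pat 0 x ∩ X.tet j).card : ℤ)) (Finset.mem_univ (0 : Fin 6)),
      if_pos rfl, h00, Nat.cast_zero, zero_add]
    refine congrArg _ (Finset.sum_congr rfl fun j hj => ?_)
    rw [if_neg (Finset.mem_erase.1 hj).1, Finset.inter_comm]
  rw [this, ← e2, h8] at e1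
  omega

/-- The standard vector of the orbit. -/
def dodVec : Vec := twoVec (Golay24.setOf Golay24.sqDod)

/-- All signs on a dodecad can be cleared. -/
theorem coEq_dod {x : Vec} (h : LatM 0 x) (hc : (pat 0 x).card = 12)
    (hP : ∀ i ∈ pat 0 x, x i = 2 ∨ x i = -2) (h0 : ∀ i ∉ pat 0 x, x i = 0) : CoEq x dodVec := by
  classical
  have hxL : x ∈ leechLattice := (mem_leech_iff x).2 ⟨0, h⟩
  set D := pat 0 x with hD
  set A := D.filter fun i => x i = -2 with hA
  have hval : ∀ i, x i = (if i ∈ D then 2 else 0) + if i ∈ A then -4 else 0 := fun i => by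
    by_cases hi : i ∈ D
    · rcases hP i hi with e | e <;> simp [hA, hi, e]
    · simp [hA, hi, h0 i hi]
  have hsum : ∑ i, x i = 24 - 4 * (A.card : ℤ) := by
    rw [Finset.sum_congr rfl fun i _ => hval i, Finset.sum_add_distrib, sum_indicator, sum_indicator, hc]
    ring
  have h8 := h.2.1
  rw [hA] at hsum
  obtain ⟨c, hcC, hcA⟩ := exists_InC_inter (A := A) (T := D) (Finset.filter_subset _ _) fun S hS hSD => by
    rcases InC_weights hS with e | e | e | e | e
    · simp [Finset.card_eq_zero.1 e]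
    · exfalso
      have h2 := Golay24.card_octad_inter_dodecad (o := S) (d := D) ⟨hS, e⟩ ⟨h.2.2, hc⟩
      rw [Finset.inter_eq_left.2 hSD, e] at h2
      omega
    · rw [show S = D from Finset.eq_of_subset_of_card_le hSD (by omega),
        Finset.inter_eq_right.2 (Finset.filter_subset _ _), Nat.even_iff]
      omega
    all_goals exact absurd (Finset.card_le_card hSD) (by omega)
  have hy : ap (signCo c hcC) x = twoVec D := funext fun i => by
    rw [ap_signCo hcC hxL]
    simp only [twoVec]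
    by_cases hi : i ∈ D
    · have hci : i ∈ c ↔ x i = -2 := by
        have : i ∈ c ∩ D ↔ i ∈ A := by rw [hcA]
        simpa [hA, hi] using this
      rw [if_pos hi]
      rcases hP i hi with e | e
      · rw [if_neg (fun hh => by rw [hci.1 hh] at e; norm_num at e), e]
      · rw [if_pos (hci.2 e), e]; norm_num
    · rw [if_neg hi, h0 i hi]; simp
  obtain ⟨σ, hσ, he⟩ := Golay24.exists_dodecad_map (d := D) ⟨h.2.2, hc⟩ Golay24.sqDod_mem
  have hDL : twoVec D ∈ leechLattice := hy ▸ ap_mem _ hxL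
  refine CoEq.trans hxL ⟨_, hy⟩ ⟨permCo σ hσ, funext fun i => ?_⟩
  rw [ap_permCo hσ hDL]
  simp only [dodVec, twoVec]
  have : σ.symm i ∈ D ↔ i ∈ Golay24.setOf Golay24.sqDod := by
    rw [← he, ← Finset.inv_smul_mem_iff]
    rfl
  simp only [this]

theorem coEq48 {x : Vec} (hx : x ∈ leechLattice) (hn : sqNorm x = 48) : CoEq x dodVec := by
  obtain ⟨y, hxy, hy⟩ := coEq_even hx
  have hyn : sqNorm y = 48 := (hxy.norm hx).trans hn
  refine hxy.trans hx ?_
  rcases even48_shape hy hyn with ⟨hc, hP, h0⟩ | ⟨hc, hP, p, hp, hxp, h0⟩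
  · exact coEq_dod hy hc hP h0
  · obtain ⟨z, hyz, hz, hz12⟩ := coEq_twelve hy hc hP hp hxp h0
    have hyL : y ∈ leechLattice := (mem_leech_iff y).2 ⟨0, hy⟩
    refine hyz.trans hyL ?_
    rcases even48_shape hz ((hyz.norm hyL).trans hyn) with ⟨hc', hP', h0'⟩ | ⟨hc', -⟩
    · exact coEq_dod hz hc' hP' h0'
    · omega

end

end Cfsg.Agent.LeechCount
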