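import Cfsg.Agent.Lib.LeechCount.Counts
import Cfsg.Agent.Lib.Leech.PairsAll
import Cfsg.Agent.Lib.LeechCount.Trans48
import Cfsg.Agent.S1569

/-!
The numbers of minimal vectors by their product with a given vector, by double counting and the
second moment.
-/

set_option autoImplicit false

namespace Cfsg.Agent.LeechCount

open Cfsg Cfsg.Agent.Leech

noncomputable section

theorem normSet_finite (N : ℤ) : ({x : Vec | x ∈ leechLattice ∧ sqNorm x = N}).Finite := by
  refine Set.Finite.subset (Set.Finite.pi' fun _ : GolayPt => Set.finite_Icc (-(|N| + 1)) (|N| + 1)) ?_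
  rintro x ⟨-, hn⟩ i
  have h1 : x i ^ 2 ≤ sqNorm x :=
    Finset.single_le_sum (f := fun j => x j ^ 2) (fun j _ => sq_nonneg _) (Finset.mem_univ i)
  have h2 := le_abs_self N
  constructor <;> nlinarith [abs_nonneg N]

/-- The lattice vectors of a given sum of squares. -/
def normFS (N : ℤ) : Finset Vec := (normSet_finite N).toFinset

theorem mem_normFS {N : ℤ} {x : Vec} : x ∈ normFS N ↔ x ∈ leechLattice ∧ sqNorm x = N := by
  simp [normFS]

theorem card_normFS (N : ℤ) : (normFS N).card = (shortSet N fun _ => true).ncard := by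
  rw [← Set.ncard_coe_finset, normFS, Set.Finite.coe_toFinset, setOf_norm_eq]

attribute [local irreducible] normFS

/-- Minimal vectors with a given product with a given vector. -/
def dotFS (c : ℤ) (v : Vec) : Finset Vec := (normFS 32).filter fun w => dotInt v w = c

theorem mem_dotFS {c : ℤ} {v w : Vec} : w ∈ dotFS c v ↔ (w ∈ leechLattice ∧ sqNorm w = 32) ∧ dotInt v w = c := by
  simp [dotFS, mem_normFS]

theorem card_dotFS_coEq {c : ℤ} {v v' : Vec} (hv : v ∈ leechLattice) (h : CoEq v v') :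
    (dotFS c v).card = (dotFS c v').card := by
  obtain ⟨g, rfl⟩ := h
  refine Finset.card_bij' (fun w _ => ap g w) (fun w _ => ap g⁻¹ w) (fun w hw => ?_) (fun w hw => ?_)
    (fun w hw => ap_inv_ap g (mem_dotFS.1 hw).1.1)
    (fun w hw => by have := ap_inv_ap g⁻¹ (mem_dotFS.1 hw).1.1; rwa [inv_inv] at this)
  · obtain ⟨⟨h1, h2⟩, h3⟩ := mem_dotFS.1 hw
    exact mem_dotFS.2 ⟨⟨ap_mem g h1, by rw [ap_norm g h1, h2]⟩, by rw [ap_dot g hv h1, h3]⟩
  · obtain ⟨⟨h1, h2⟩, h3⟩ := mem_dotFS.1 hw
    refine mem_dotFS.2 ⟨⟨ap_mem _ h1, by rw [ap_norm _ h1, h2]⟩, ?_⟩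
    have := ap_dot g⁻¹ (ap_mem g hv) h1
    rwa [ap_inv_ap g hv, h3] at this

theorem card_dotFS_neg (c : ℤ) (v : Vec) : (dotFS (-c) v).card = (dotFS c v).card := by
  have key : ∀ d : ℤ, ∀ w ∈ dotFS d v, -w ∈ dotFS (-d) v := fun d w hw => by
    obtain ⟨⟨h1, h2⟩, h3⟩ := mem_dotFS.1 hw
    exact mem_dotFS.2 ⟨⟨neg_mem h1, by rw [sqNorm_neg, h2]⟩, by rw [dot_comm, dot_neg_left, dot_comm, h3]⟩
  refine Finset.card_bij' (fun w _ => -w) (fun w _ => -w) (fun w hw => ?_) (fun w hw => key c w hw)
    (fun w _ => neg_neg w) (fun w _ => neg_neg w)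
  have := key _ w hw
  rwa [neg_neg] at this

theorem sum_dotFS {N : ℤ} {c : ℤ} {n : ℕ} {x0 : Vec}
    (h : ∀ x ∈ normFS N, CoEq x x0) (hn : (dotFS c x0).card = n) :
    ∑ x ∈ normFS N, (dotFS c x).card = (normFS N).card * n := by
  rw [Finset.sum_congr rfl fun x hx => (card_dotFS_coEq (mem_normFS.1 hx).1 (h x hx)).trans hn,
    Finset.sum_const, smul_eq_mul]

/-- The orthogonal minimal vectors of a minimal vector. -/
theorem card_dot_zero {v : Vec} (hv : v ∈ leechLattice) (hn : sqNorm v = 32) : (dotFS 0 v).card = 93150 := by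
  classical
  let Q : Finset (Vec × Vec) :=
    ((normFS 64) ×ˢ (normFS 64)).filter fun p => Cong p.1 p.2 ∧ dotInt p.1 p.2 = 0
  let P : Finset (Vec × Vec) := ((normFS 32) ×ˢ (normFS 32)).filter fun p => dotInt p.1 p.2 = 0
  have hPQ : P.card = Q.card := by
    refine Finset.card_bij (fun p _ => (p.1 + p.2, p.1 - p.2)) ?_ ?_ ?_
    · rintro ⟨x, y⟩ hp
      simp only [P, Finset.mem_filter, Finset.mem_product, mem_normFS] at hp
      obtain ⟨⟨⟨hx, hxn⟩, hy, hyn⟩, hd⟩ := hp
      simp only [Q, Finset.mem_filter, Finset.mem_product, mem_normFS]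
      refine ⟨⟨⟨add_mem hx hy, by rw [sqNorm_add, hxn, hyn, hd]; norm_num⟩, sub_mem hx hy,
        by rw [sqNorm_sub, hxn, hyn, hd]; norm_num⟩, ⟨y, hy, by rw [two_nsmul]; abel⟩, ?_⟩
      have e : dotInt (x + y) (x - y) = sqNorm x - sqNorm y := by
        simp only [dotInt, sqNorm, Pi.add_apply, Pi.sub_apply, ← Finset.sum_sub_distrib]
        exact Finset.sum_congr rfl fun i _ => by ring
      rw [e, hxn, hyn, sub_self]
    · rintro ⟨x, y⟩ _ ⟨x', y'⟩ _ h
      simp only [Prod.mk.injEq] at h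
      obtain ⟨h1, h2⟩ := h
      have e1 : x = x' := funext fun i => by
        have a := congrFun h1 i; have b := congrFun h2 i
        simp only [Pi.add_apply, Pi.sub_apply] at a b; omega
      subst e1
      simpa using h1
    · rintro ⟨a, b⟩ hp
      simp only [Q, Finset.mem_filter, Finset.mem_product, mem_normFS] at hp
      obtain ⟨⟨⟨ha, han⟩, hb, hbn⟩, ⟨z, hz, he⟩, hd⟩ := hp
      have hsum : sqNorm (a - b) = 128 := by rw [sqNorm_sub, han, hbn, hd]; norm_num
      rw [he, show (2 : ℕ) • z = (2 : ℤ) • z by rw [two_zsmul, two_nsmul], sqNorm_smul] at hsum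
      have hzn : sqNorm z = 32 := by linarith
      have haz : dotInt a z = 32 := by
        have h1 := sqNorm_sub a ((2 : ℤ) • z)
        have h2 : a - (2 : ℤ) • z = b := by
          rw [show (2 : ℤ) • z = (2 : ℕ) • z by rw [two_zsmul, two_nsmul], ← he, sub_sub_cancel]
        have h3 : dotInt a ((2 : ℤ) • z) = 2 * dotInt a z := by
          simp only [dotInt, Finset.mul_sum, Pi.smul_apply, smul_eq_mul]
          exact Finset.sum_congr rfl fun i _ => by ring
        rw [h2, han, hbn, h3, sqNorm_smul, hzn] at h1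
        omega
      have hxn : sqNorm (a - z) = 32 := by rw [sqNorm_sub, han, hzn, haz]; norm_num
      refine ⟨(a - z, z), ?_, ?_⟩
      · simp only [P, Finset.mem_filter, Finset.mem_product, mem_normFS]
        refine ⟨⟨⟨sub_mem ha hz, hxn⟩, hz, hzn⟩, ?_⟩
        have h4 := sqNorm_add (a - z) z
        rw [sub_add_cancel, han, hxn, hzn] at h4
        omega
      · refine Prod.ext (sub_add_cancel a z) ?_
        show a - z - z = b
        rw [sub_sub, ← two_nsmul, ← he, sub_sub_cancel]
  have hQ : Q.card = (normFS 64).card * 46 := by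
    rw [show Q.card = ∑ a ∈ normFS 64, ((normFS 64).filter fun b => Cong a b ∧ dotInt a b = 0).card by
      simp only [Q, Finset.card_filter, Finset.sum_product], Finset.sum_const_nat (m := 46)]
    intro a ha
    rw [mem_normFS] at ha
    have h48 := S1569.result a ha.1 ha.2
    have e : cross a = ↑(((normFS 64).filter fun b => Cong a b ∧ dotInt a b = 0) ∪ {a, -a}) := by
      ext b
      simp only [cross, Set.mem_setOf_eq, Finset.coe_union, Finset.coe_filter, Set.mem_union, mem_normFS,
        Finset.coe_insert, Finset.coe_singleton, Set.mem_insert_iff, Set.mem_singleton_iff]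
      constructor
      · rintro ⟨hb, hbn, hc⟩
        rcases cong_short ha.1 hb hc ha.2.le (hbn.trans ha.2).le with h | h | h
        · exact Or.inr (Or.inl h.symm)
        · exact Or.inr (Or.inr (by rw [h, neg_neg]))
        · exact Or.inl ⟨⟨hb, h.2.1⟩, hc, h.2.2⟩
      · rintro (⟨⟨hb, hbn⟩, hc, -⟩ | rfl | rfl)
        · exact ⟨hb, hbn.trans ha.2.symm, hc⟩
        · exact ⟨ha.1, rfl, Cong.refl b⟩
        · exact ⟨neg_mem ha.1, sqNorm_neg a, cong_neg ha.1⟩
    rw [e, Set.ncard_coe_finset, Finset.card_union_of_disjoint] at h48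
    · have hne : a ≠ -a := fun h => by
        have h0 : a = 0 := funext fun i => by have := congrFun h i; simp only [Pi.neg_apply, Pi.zero_apply] at *; omega
        rw [h0] at ha; simp [sqNorm] at ha
      rw [Finset.card_pair hne] at h48
      omega
    · rw [Finset.disjoint_left]
      intro b hb hb'
      simp only [Finset.mem_filter] at hb
      simp only [Finset.mem_insert, Finset.mem_singleton] at hb'
      have hself : dotInt a a = 64 := by rw [← ha.2]; simp [dotInt, sqNorm, pow_two]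
      rcases hb' with h | h <;> subst h
      · omega
      · rw [dot_comm a (-a), dot_neg_left] at hb; omega
  have hP : P.card = (normFS 32).card * (dotFS 0 v).card := by
    rw [← sum_dotFS (fun x hx => coEq_of_norm32 (mem_normFS.1 hx).1 hv (mem_normFS.1 hx).2 hn) rfl]
    simp only [P, dotFS, Finset.card_filter, Finset.sum_product]
  rw [hPQ, hQ, card_normFS, card_normFS, short32, short64] at hP
  omega

theorem moment_entry {p q : GolayPt} (h : p ≠ q) : ∑ x ∈ normFS 32, x p * x q = 0 := by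
  obtain ⟨c, hc, he⟩ := exists_InC_inter_small (A := {p}) (T := {p, q}) (by simp)
    ((Finset.card_insert_le _ _).trans (by simp))
  have hp : p ∈ c := (Finset.mem_inter.1 (show p ∈ c ∩ {p, q} by rw [he]; simp)).1
  have hq : q ∉ c := fun hq => by
    have : q ∈ c ∩ {p, q} := Finset.mem_inter.2 ⟨hq, by simp⟩
    rw [he, Finset.mem_singleton] at this
    exact h this.symm
  have key : ∑ x ∈ normFS 32, x p * x q = ∑ x ∈ normFS 32, -(x p * x q) := by
    refine Finset.sum_bij' (fun x _ => ap (signCo c hc) x) (fun x _ => ap (signCo c hc) x)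
      (fun x hx => ?_) (fun x hx => ?_) (fun x hx => ?_) (fun x hx => ?_) (fun x hx => ?_)
    all_goals obtain ⟨hx, hxn⟩ := mem_normFS.1 hx
    · exact mem_normFS.2 ⟨ap_mem _ hx, by rw [ap_norm _ hx, hxn]⟩
    · exact mem_normFS.2 ⟨ap_mem _ hx, by rw [ap_norm _ hx, hxn]⟩
    · funext i; rw [ap_signCo hc (ap_mem _ hx), ap_signCo hc hx]; split_ifs <;> omega
    · funext i; rw [ap_signCo hc (ap_mem _ hx), ap_signCo hc hx]; split_ifs <;> omega
    · rw [ap_signCo hc hx, ap_signCo hc hx, if_pos hp, if_neg hq]; ring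
  rw [Finset.sum_neg_distrib] at key
  omega

theorem moment_square (p : GolayPt) : ∑ x ∈ normFS 32, x p ^ 2 = 262080 := by
  have hall : ∀ i, ∑ x ∈ normFS 32, x i ^ 2 = ∑ x ∈ normFS 32, x p ^ 2 := fun i => by
    obtain ⟨σ, hσ, hs⟩ := Golay24.exists_map_le_five (by norm_num : (1 : ℕ) ≤ 5)
      ⟨fun _ : Fin 1 => p, fun a b _ => Subsingleton.elim a b⟩ ⟨fun _ : Fin 1 => i, fun a b _ => Subsingleton.elim a b⟩
    have hs0 : σ p = i := hs 0
    refine (Finset.sum_bij' (fun x _ => ap (permCo σ hσ) x) (fun x _ => ap (permCo σ hσ)⁻¹ x)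
      (fun x hx => ?_) (fun x hx => ?_) (fun x hx => ?_) (fun x hx => ?_) (fun x hx => ?_)).symm
    all_goals obtain ⟨hx, hxn⟩ := mem_normFS.1 hx
    · exact mem_normFS.2 ⟨ap_mem _ hx, by rw [ap_norm _ hx, hxn]⟩
    · exact mem_normFS.2 ⟨ap_mem _ hx, by rw [ap_norm _ hx, hxn]⟩
    · exact ap_inv_ap _ hx
    · have := ap_inv_ap (permCo σ hσ)⁻¹ hx; rwa [inv_inv] at this
    · rw [ap_permCo hσ hx, ← hs0, Equiv.symm_apply_apply]
  have htot : ∑ i, ∑ x ∈ normFS 32, x i ^ 2 = 32 * 196560 := by
    rw [Finset.sum_comm]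
    have hone : ∀ x ∈ normFS 32, (∑ i, x i ^ 2 : ℤ) = 32 := fun x hx => (mem_normFS.1 hx).2
    rw [Finset.sum_congr rfl hone, Finset.sum_const, card_normFS, short32, nsmul_eq_mul]
    norm_num
  rw [Finset.sum_congr rfl fun i _ => hall i, Finset.sum_const, Finset.card_univ, card_pt, nsmul_eq_mul] at htot
  push_cast at htot
  omega

theorem moment_two (u : Vec) : ∑ x ∈ normFS 32, dotInt u x ^ 2 = 262080 * sqNorm u := by
  have e : ∀ x : Vec, dotInt u x ^ 2 = ∑ i, ∑ j, (u i * u j) * (x i * x j) := fun x => by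
    rw [pow_two, dotInt, Finset.sum_mul_sum]
    exact Finset.sum_congr rfl fun i _ => Finset.sum_congr rfl fun j _ => by ring
  rw [Finset.sum_congr rfl fun x _ => e x, Finset.sum_comm, sqNorm, Finset.mul_sum]
  refine Finset.sum_congr rfl fun i _ => ?_
  rw [Finset.sum_comm, Finset.sum_eq_single i]
  · rw [← Finset.mul_sum, Finset.sum_congr rfl fun x _ => (pow_two (x i)).symm, moment_square]
    ring
  · intro j _ hj
    rw [← Finset.mul_sum, moment_entry hj.symm, mul_zero]
  · simp

theorem dot_cases {v w : Vec} (hv : v ∈ leechLattice) (hvn : sqNorm v = 32) (hw : w ∈ leechLattice)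
    (hwn : sqNorm w = 32) :
    dotInt v w ∈ ({32, -32, 16, -16, 8, -8, 0} : Finset ℤ) := by
  have h8 := dot_eight hv hw
  by_cases h1 : v - w = 0
  · rw [sub_eq_zero] at h1
    have : dotInt v w = 32 := by rw [← h1, ← hvn]; simp [dotInt, sqNorm, pow_two]
    simp [this]
  by_cases h2 : v + w = 0
  · have hw' : w = -v := eq_neg_of_add_eq_zero_right h2
    have : dotInt v w = -32 := by rw [hw', dot_comm, dot_neg_left, ← hvn]; simp [dotInt, sqNorm, pow_two]
    simp [this]
  have a := sqNorm_min (sub_mem hv hw) h1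
  have b := sqNorm_min (add_mem hv hw) h2
  rw [sqNorm_sub, hvn, hwn] at a
  rw [sqNorm_add, hvn, hwn] at b
  simp only [Finset.mem_insert, Finset.mem_singleton]
  omega

theorem card_dot_top {v : Vec} (hv : v ∈ leechLattice) (hn : sqNorm v = 32) : dotFS 32 v = {v} := by
  ext w
  rw [mem_dotFS, Finset.mem_singleton]
  constructor
  · rintro ⟨⟨hw, hwn⟩, hd⟩
    have : sqNorm (v - w) = 0 := by rw [sqNorm_sub, hn, hwn, hd]; norm_num
    exact (sub_eq_zero.1 (sqNorm_eq_zero.1 this)).symm
  · rintro rfl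
    exact ⟨⟨hv, hn⟩, by rw [← hn]; simp [dotInt, sqNorm, pow_two]⟩

theorem dot_counts {v : Vec} (hv : v ∈ leechLattice) (hn : sqNorm v = 32) :
    (dotFS (-16) v).card = 4600 ∧ (dotFS (-8) v).card = 47104 ∧ (dotFS 0 v).card = 93150 := by
  have h0 := card_dot_zero hv hn
  have hC : ∀ w ∈ normFS 32, dotInt v w ∈ ({32, -32, 16, -16, 8, -8, 0} : Finset ℤ) := fun w hw =>
    dot_cases hv hn (mem_normFS.1 hw).1 (mem_normFS.1 hw).2
  have hcount := Finset.card_eq_sum_card_fiberwise hC
  rw [card_normFS, short32] at hcount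
  have hsq := moment_two v
  rw [hn, ← Finset.sum_fiberwise_of_maps_to hC] at hsq
  rw [Finset.sum_congr rfl fun c _ => show _ = ((dotFS c v).card : ℤ) * c ^ 2 by
    rw [Finset.sum_congr rfl fun w hw => by rw [(Finset.mem_filter.1 hw).2], Finset.sum_const, nsmul_eq_mul]
    rfl] at hsq
  have h32 : (dotFS 32 v).card = 1 := by rw [card_dot_top hv hn, Finset.card_singleton]
  have n32 := card_dotFS_neg 32 v
  have n16 := card_dotFS_neg 16 v
  have n8 := card_dotFS_neg 8 v
  change _ = ∑ c ∈ _, (dotFS c v).card at hcount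
  simp [h32, n32, n16, n8, h0] at hcount hsq
  refine ⟨?_, ?_, h0⟩ <;> omega

/-- The minimal vectors `v` with `u - v` minimal, for `u` of sum of squares 48. -/
theorem card_dot_twentyfour {u : Vec} (hu : u ∈ leechLattice) (hn : sqNorm u = 48) : (dotFS 24 u).card = 552 := by
  classical
  let P : Finset (Vec × Vec) := ((normFS 32) ×ˢ (normFS 32)).filter fun p => dotInt p.1 p.2 = -8
  let R : Finset (Vec × Vec) := ((normFS 48) ×ˢ (normFS 32)).filter fun p => dotInt p.1 p.2 = 24
  have hPR : P.card = R.card := by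
    refine Finset.card_bij' (fun p _ => (p.1 + p.2, p.1)) (fun p _ => (p.2, p.1 - p.2)) ?_ ?_ ?_ ?_
    · rintro ⟨x, y⟩ hp
      simp only [P, Finset.mem_filter, Finset.mem_product, mem_normFS] at hp
      obtain ⟨⟨⟨hx, hxn⟩, hy, hyn⟩, hd⟩ := hp
      simp only [R, Finset.mem_filter, Finset.mem_product, mem_normFS]
      refine ⟨⟨⟨add_mem hx hy, by rw [sqNorm_add, hxn, hyn, hd]; norm_num⟩, hx, hxn⟩, ?_⟩
      have e : dotInt (x + y) x = sqNorm x + dotInt x y := by
        simp only [dotInt, sqNorm, Pi.add_apply, ← Finset.sum_add_distrib]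
        exact Finset.sum_congr rfl fun i _ => by ring
      rw [e, hxn, hd]; norm_num
    · rintro ⟨a, x⟩ hp
      simp only [R, Finset.mem_filter, Finset.mem_product, mem_normFS] at hp
      obtain ⟨⟨⟨ha, han⟩, hx, hxn⟩, hd⟩ := hp
      simp only [P, Finset.mem_filter, Finset.mem_product, mem_normFS]
      refine ⟨⟨⟨hx, hxn⟩, sub_mem ha hx, by rw [sqNorm_sub, han, hxn, hd]; norm_num⟩, ?_⟩
      have e : dotInt x (a - x) = dotInt a x - sqNorm x := by
        simp only [dotInt, sqNorm, Pi.sub_apply, ← Finset.sum_sub_distrib]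
        exact Finset.sum_congr rfl fun i _ => by ring
      rw [e, hxn, hd]; norm_num
    · rintro ⟨x, y⟩ _; simp
    · rintro ⟨a, x⟩ _; simp
  have hP : P.card = (normFS 32).card * 47104 := by
    rw [show P.card = ∑ x ∈ normFS 32, (dotFS (-8) x).card by
      simp only [P, dotFS, Finset.card_filter, Finset.sum_product], Finset.sum_const_nat]
    exact fun x hx => (dot_counts (mem_normFS.1 hx).1 (mem_normFS.1 hx).2).2.1
  have hR : R.card = (normFS 48).card * (dotFS 24 u).card := by
    rw [← sum_dotFS (fun x hx => (coEq48 (mem_normFS.1 hx).1 (mem_normFS.1 hx).2).trans (mem_normFS.1 hx).1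
      ((coEq48 hu hn).symm hu)) rfl]
    simp only [R, dotFS, Finset.card_filter, Finset.sum_product]
  rw [← hPR, hP, card_normFS, card_normFS, short32, short48] at hR
  omega

end

end Cfsg.Agent.LeechCount
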