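import Cfsg.Agent.Lib.Leech.Lattice
import Cfsg.Agent.Lib.LeechCount.Cnt

/-!
Lattice vectors with prescribed entry lists, counted over the words of the code.
-/

set_option autoImplicit false

namespace Cfsg.Agent.LeechCount

open Cfsg Cfsg.Agent.Leech

noncomputable section

attribute [local irreducible] Golay24.codeList

/-- Coded entry lists along the positions, for the word of a mask. -/
def shapeList (W : GolayPt → Bool → List ℤ) (e : ℤ → ℕ) (c : ℕ) : List (List (ℕ × ℕ)) :=
  List.ofFn fun k : Fin 24 => (W (Golay24.pt k) (c.testBit k)).map (code e)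

/-- The vectors of one parity with entries in given lists. -/
def part (m : ℤ) (W : GolayPt → Bool → List ℤ) (e : ℤ → ℕ) (E : ℕ) : Set Vec :=
  {x | LatM m x ∧ (∀ i, x i ∈ W i (decide (i ∈ pat m x))) ∧ (∑ i, e (x i)) = E}

theorem ncard_part {m : ℤ} {W : GolayPt → Bool → List ℤ} {e : ℤ → ℕ} {E : ℕ}
    (hnd : ∀ i b, (W i b).Nodup)
    (hsound : ∀ i b, ∀ v ∈ W i b, (2 : ℤ) ∣ v - m ∧ (b = true ↔ ¬ (4 : ℤ) ∣ v - m)) :
    (part m W e E).ncard =
      (Golay24.codeList.map fun c => cnt (shapeList W e c) E ((4 * m) % 8).toNat).sum := by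
  classical
  let s : ℕ := ((4 * m) % 8).toNat
  have hs : (s : ℤ) = (4 * m) % 8 := Int.toNat_of_nonneg (Int.emod_nonneg _ (by norm_num))
  let F : ℕ → Finset Vec := fun c =>
    (solSet e (fun k : Fin 24 => W (Golay24.pt k) (c.testBit k)) E s).image
      fun y i => y (Golay24.idx i)
  have hset : part m W e E = ↑(Golay24.codeList.toFinset.biUnion F) := by
    ext x
    simp only [part, Set.mem_setOf_eq, Finset.coe_biUnion, Set.mem_iUnion, Finset.mem_coe,
      List.mem_toFinset, exists_prop, F, Finset.mem_image, mem_solSet]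
    constructor
    · rintro ⟨⟨h2, h8, hC⟩, hW, hE⟩
      refine ⟨Golay24.maskOf (pat m x), Golay24.mem_supports_iff.1 hC, fun k => x (Golay24.pt k),
        ⟨fun k => ?_, ?_, ?_⟩, funext fun i => by simp⟩
      · rw [Golay24.testBit_maskOf]; exact hW _
      · rw [← hE]; exact Equiv.sum_comp Golay24.ptEquiv.symm fun i => e (x i)
      · rw [show (∑ k : Fin 24, x (Golay24.pt k)) = ∑ i, x i from Equiv.sum_comp Golay24.ptEquiv.symm x, hs]
        omega
    · rintro ⟨c, hc, y, ⟨hy, hE, hsum⟩, rfl⟩
      have hpat : pat m (fun i => y (Golay24.idx i)) = Golay24.setOf c := by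
        ext i
        rw [mem_pat, Golay24.mem_setOf]
        have h := hy (Golay24.idx i)
        rw [Golay24.pt_idx] at h
        exact (hsound _ _ _ h).2.symm
      have hsumI : ∑ i, y (Golay24.idx i) = ∑ k, y k := Equiv.sum_comp Golay24.ptEquiv y
      refine ⟨⟨fun i => ?_, ?_, ?_⟩, fun i => ?_, ?_⟩
      · have h := hy (Golay24.idx i)
        rw [Golay24.pt_idx] at h
        exact (hsound _ _ _ h).1
      · rw [hsumI]; omega
      · rw [hpat]
        show _ ∈ supports _
        rw [Golay24.mem_supports_iff, Golay24.maskOf_setOf (Golay24.codeList_lt hc)]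
        exact hc
      · have h := hy (Golay24.idx i)
        rw [Golay24.pt_idx] at h
        simpa [hpat] using h
      · exact (Equiv.sum_comp Golay24.ptEquiv fun k => e (y k)).trans hE
  rw [hset, Set.ncard_coe_finset, Finset.card_biUnion, ← List.sum_toFinset _ Golay24.codeList_nodup]
  · refine Finset.sum_congr rfl fun c _ => ?_
    rw [Finset.card_image_of_injective _ ?_, card_solSet e _ (fun k => hnd _ _) E s
      (by have := Int.emod_lt_of_pos (4 * m) (by norm_num : (0 : ℤ) < 8); omega)]
    · rfl
    · intro y y' h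
      funext k
      have := congrFun h (Golay24.pt k)
      simpa using this
  · intro c hc d hd hne
    rw [Function.onFun, Finset.disjoint_left]
    intro x hx hx'
    obtain ⟨y, hy, rfl⟩ := Finset.mem_image.1 hx
    obtain ⟨z, hz, hzy⟩ := Finset.mem_image.1 hx'
    refine hne (Golay24.eq_of_testBit24 (Golay24.codeList_lt (List.mem_toFinset.1 hc))
      (Golay24.codeList_lt (List.mem_toFinset.1 hd)) fun k => ?_)
    have hz' : z = y := funext fun j => by
      have := congrFun hzy (Golay24.pt j)
      simpa using this
    subst hz'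
    have e1 := (hsound _ _ _ ((mem_solSet.1 hy).1 k)).2
    have e2 := (hsound _ _ _ ((mem_solSet.1 hz).1 k)).2
    exact Bool.eq_iff_iff.2 (e1.trans e2.symm)

theorem bits_perm : ∀ l : List Bool,
    l.Perm (List.replicate (l.count false) false ++ List.replicate (l.count true) true)
  | [] => by simp
  | false :: l => by simpa [List.replicate_succ] using (bits_perm l).cons false
  | true :: l => by
      have h := ((bits_perm l).cons true).trans List.perm_middle.symm
      simpa [List.replicate_succ] using h

/-- Lists depending only on the bit: value by the weight. -/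
def flatCnt (V : Bool → List ℤ) (e : ℤ → ℕ) (E s w : ℕ) : ℕ :=
  (cntTab E (List.replicate (24 - w) ((V false).map (code e)) ++
    List.replicate w ((V true).map (code e)))).getD (8 * E + s) 0

theorem codeList_bitCount : (Golay24.codeList.all fun c =>
    ((List.ofFn fun k : Fin 24 => c.testBit k).count true == Golay24.pop24 c)) = true := by
  unfold Golay24.codeList
  decide +kernel

theorem cnt_flat (V : Bool → List ℤ) (e : ℤ → ℕ) (E s : ℕ) (hs : s < 8) {c : ℕ}
    (hc : c ∈ Golay24.codeList) :
    cnt (shapeList (fun _ => V) e c) E s = flatCnt V e E s (Golay24.pop24 c) := by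
  have h := List.all_eq_true.1 codeList_bitCount c hc
  rw [beq_iff_eq] at h
  rw [flatCnt, cntTab_spec E _ E s le_rfl hs]
  refine cnt_perm ?_ E s
  have hl : shapeList (fun _ => V) e c =
      (List.ofFn fun k : Fin 24 => c.testBit k).map fun b => (V b).map (code e) := by
    rw [shapeList, List.map_ofFn]; rfl
  have hcount := List.count_add_count_not (List.ofFn fun k : Fin 24 => c.testBit k) true
  rw [Bool.not_true, List.length_ofFn] at hcount
  rw [hl, show 24 - Golay24.pop24 c = (List.ofFn fun k : Fin 24 => c.testBit k).count false by omega, ← h]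
  have hp := (bits_perm (List.ofFn fun k : Fin 24 => c.testBit k)).map fun b => (V b).map (code e)
  simpa [List.map_replicate] using hp

/-- Value by weight, from five given values. -/
def byWeight (a b c d f w : ℕ) : ℕ :=
  if Nat.beq w 0 then a else if Nat.beq w 8 then b else if Nat.beq w 12 then c else if Nat.beq w 16 then d else f

theorem ncard_part_flat {m : ℤ} {V : Bool → List ℤ} {e : ℤ → ℕ} {E a b c d f : ℕ} (s : ℕ)
    (hm : ((4 * m) % 8).toNat = s) (hnd : ∀ b, (V b).Nodup)
    (hsound : ∀ b, ∀ v ∈ V b, (2 : ℤ) ∣ v - m ∧ (b = true ↔ ¬ (4 : ℤ) ∣ v - m))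
    (h : [flatCnt V e E s 0, flatCnt V e E s 8, flatCnt V e E s 12, flatCnt V e E s 16, flatCnt V e E s 24] =
      [a, b, c, d, f]) :
    (part m (fun _ => V) e E).ncard = a + 759 * b + 2576 * c + 759 * d + f := by
  simp only [List.cons.injEq, and_true] at h
  obtain ⟨ha, hb, hc, hd, hf⟩ := h
  rw [ncard_part (fun _ => hnd) (fun _ => hsound), hm]
  have hs : s < 8 := by omega
  rw [List.map_congr_left (g := fun x => byWeight a b c d f (Golay24.pop24 x)) fun x hx => by
    rw [cnt_flat V e E s hs hx]
    rcases Golay24.weight_cases hx with e | e | e | e | e <;>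
      · rw [e]; simp [byWeight, ha, hb, hc, hd, hf]]
  have hw : ∀ l : List ℕ, (∀ x ∈ l, x ∈ [0, 8, 12, 16, 24]) →
      (l.map (byWeight a b c d f)).sum =
        l.count 0 * a + l.count 8 * b + l.count 12 * c + l.count 16 * d + l.count 24 * f := by
    intro l
    induction l with
    | nil => simp
    | cons x l ih =>
      intro hl
      rw [List.map_cons, List.sum_cons, ih fun y hy => hl y (List.mem_cons_of_mem _ hy)]
      have hx := hl x (List.mem_cons_self ..)
      simp only [List.mem_cons, List.not_mem_nil, or_false] at hx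
      rcases hx with rfl | rfl | rfl | rfl | rfl <;> simp [byWeight, List.count_cons] <;> ring
  have hdist : [(Golay24.codeList.map Golay24.pop24).count 0, (Golay24.codeList.map Golay24.pop24).count 8,
      (Golay24.codeList.map Golay24.pop24).count 12, (Golay24.codeList.map Golay24.pop24).count 16,
      (Golay24.codeList.map Golay24.pop24).count 24] = [1, 759, 2576, 759, 1] := by
    unfold Golay24.codeList
    decide +kernel
  simp only [List.cons.injEq, and_true] at hdist
  have := hw (Golay24.codeList.map Golay24.pop24) (by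
    intro x hx
    obtain ⟨y, hy, rfl⟩ := List.mem_map.1 hx
    rcases Golay24.weight_cases hy with e | e | e | e | e <;> simp [e])
  rw [List.map_map] at this
  rw [show (fun x => byWeight a b c d f (Golay24.pop24 x)) = byWeight a b c d f ∘ Golay24.pop24 from rfl,
    this, hdist.1, hdist.2.1, hdist.2.2.1, hdist.2.2.2.1, hdist.2.2.2.2]
  ring

end

end Cfsg.Agent.LeechCount
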